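import Groth.Agent.Lib.AttrBorel21.Main
import Mathlib.CategoryTheory.Subobject.Basic

/-!
# The opposite Borel subgroup over the base field
-/

set_option autoImplicit false
set_option linter.style.haveILetI false
set_option backward.isDefEq.respectTransparency.types false
universe u

open CategoryTheory Limits MonoidalCategory CartesianMonoidalCategory MonObj AlgebraicGeometry

noncomputable section

namespace Groth.Agent.AttrBorel21

open InvRing21 DiagGL TorPts21 BigCell21 BorelLam21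

attribute [local instance] InvRing21.gamAlg BorelFix21.ptsTop

variable {k : Type u} [Field k] {K : Type u} [Field K] [IsAlgClosed K] [Algebra k K] {d : ℕ}
  {G T : Over (Spec (CommRingCat.of k))} [GrpObj G] [GrpObj T] [IsAffine G.left] [Smooth G.hom]

set_option maxHeartbeats 800000 in
/-- A Borel subgroup containing a split maximal torus, together with its opposite. -/
theorem exists_opposite_data (C : Chars (Fin d → ℤ) T) (iT : T ⟶ G) [IsMonHom iT] [IsClosedImmersion iT.left]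
    (hG : Red.IsReductiveOver K (bcK K G)) (hT : AGF.IsMaxTorus (bcMap K iT))
    {B : Over (Spec (CommRingCat.of k))} [GrpObj B] {iB : B ⟶ G} [IsMonHom iB] [IsClosedImmersion iB.left]
    [Smooth B.hom] (hB : Red.IsBorelOver K (bcMap K iB)) (t : T ⟶ B) (ht : t ≫ iB = iT) :
    ∃ (n : ℕ) (r : G ⟶ GLs k n) (_ : IsMonHom r) (_ : IsClosedImmersion r.left) (a : Fin n → Fin d → ℤ)
      (b : Fin d → ℤ),
      (∀ (X : Over (Spec (CommRingCat.of k))) (x : X ⟶ T),
        mat ((x ≫ iT) ≫ r) = Matrix.diagonal fun j => C.ch x (Multiplicative.ofAdd (a j))) ∧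
      (∀ (X : Over (Spec (CommRingCat.of k))) (x : X ⟶ G), (∃ y, y ≫ iB = x) ↔ Blk (wt a b) (mat (x ≫ r))) ∧
      (∃ (B₂ : Over (Spec (CommRingCat.of k))) (_ : GrpObj B₂) (iB₂ : B₂ ⟶ G) (t₂ : T ⟶ B₂),
        IsMonHom iB₂ ∧ IsClosedImmersion iB₂.left ∧ Smooth B₂.hom ∧ t₂ ≫ iB₂ = iT ∧
        Red.IsBorelOver K (bcMap K iB₂) ∧
        ∀ (X : Over (Spec (CommRingCat.of k))) (x : X ⟶ G), (∃ y, y ≫ iB₂ = x) ↔ Blk (wt a (-b)) (mat (x ≫ r))) ∧
      ∀ (X : Over (Spec (CommRingCat.of k))) (x : X ⟶ G), Blk (wt a b) (mat (x ≫ r)) →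
        Blk (wt a (-b)) (mat (x ≫ r)) → ∃ τ : X ⟶ T, τ ≫ iT = x := by
  obtain ⟨n, r, hr, hrc, a, hdiag⟩ := exists_diagRep C iT
  haveI := hr
  haveI := hrc
  obtain ⟨rK, hm, hc, hrK⟩ := exists_bcRep K r
  haveI := hm
  haveI := hc
  obtain ⟨b, hb, ⟨B', _, iB', hB', hb'⟩, hmeet⟩ := exists_cochar C hdiag hrK hG hT hB (bcMap K t)
    (by rw [← Functor.map_comp, ht])
  obtain ⟨Ba, _, iBa, hBam, hBac, hBas, -, hBa⟩ := exists_attr r hdiag b
  haveI := hBac
  haveI := hBas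
  have hfac := fac_iff_blk (iB := iB) hrK hBa hb
  obtain ⟨B₂, hB₂g, iB₂, t₂, e, h₂m, h₂c, h₂s, ht₂, h₂b, -, h₂f⟩ := exists_borel_attr hdiag hrK (-b) hB' hb'
  refine ⟨n, r, hr, hrc, a, b, hdiag, hfac, ⟨B₂, hB₂g, iB₂, t₂, h₂m, h₂c, h₂s, ht₂, h₂b, h₂f⟩, fun X x hx hx' => ?_⟩
  haveI : IsAffine B.left := isAffine_of_isAffineHom iB.left
  haveI : IsClosedImmersion (iB ≫ r).left := by rw [Over.comp_left]; infer_instance
  haveI : Mono iB := Over.mono_of_mono_left iB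
  haveI : IsMonHom t := BorelFix21.isMonHom_of_comp iB t (ht.symm ▸ ‹IsMonHom iT›)
  obtain ⟨D, _, iD, -, hDc, hDs, hDa, hD⟩ := exists_attr (iB ≫ r) (C := C) (iT := t) (a := a)
    (fun Y y => by
      rw [← Category.assoc, Category.assoc y t iB, ht]
      exact hdiag Y y) (-b)
  haveI := hDc
  haveI := hDs
  haveI := hDa
  obtain ⟨g, hg⟩ := exists_lift_of_Kpts (K := K) iT (iD ≫ iB) fun z => by
    have h1 : Blk (wt a b) (mat ((z ≫ iD ≫ iB) ≫ r)) := (hfac _ _).1 ⟨z ≫ iD, Category.assoc _ _ _⟩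
    have h2 : Blk (wt a (-b)) (mat ((z ≫ iD ≫ iB) ≫ r)) := by
      simpa only [Category.assoc] using (hD _ _).1 ⟨z, rfl⟩
    obtain ⟨τ, hτ⟩ := hmeet _ ((blk_iff_mem_upPts hrK _ _).1 h1) ((blk_iff_mem_upPts hrK _ _).1 h2)
    obtain ⟨v, rfl⟩ := exists_toK τ
    exact ⟨v, toK_injective (by rw [toK_comp, hτ])⟩
  obtain ⟨y, rfl⟩ := (hfac _ _).2 hx
  obtain ⟨l, rfl⟩ := (hD _ _).2 (by simpa only [Category.assoc] using hx')
  exact ⟨l ≫ g, by rw [Category.assoc, hg, Category.assoc]⟩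

/-- The predicate of the opposite Borel subgroup. -/
def IsOpposite {B : Over (Spec (CommRingCat.of k))} (q : Spec (CommRingCat.of K) ⟶ Spec (CommRingCat.of k))
    (iT : T ⟶ G) (iB : B ⟶ G) (t : T ⟶ B) (P : Subobject G) : Prop :=
  ∃ (B' : Over (Spec (CommRingCat.of k))) (_ : GrpObj B') (iB' : B' ⟶ G) (_ : Mono iB') (t' : T ⟶ B'),
    (IsMonHom iB' ∧ IsClosedImmersion iB'.left ∧ Smooth B'.hom ∧ Red.IsBorelOver K ((Over.pullback q).map iB')) ∧
      t' ≫ iB' = iT ∧ IsPullback t t' iB iB' ∧ P = Subobject.mk iB'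

omit [Algebra k K] in
set_option maxHeartbeats 800000 in
/-- **Existence and uniqueness of the opposite Borel subgroup.** -/
theorem existsUnique_opposite (q : Spec (CommRingCat.of K) ⟶ Spec (CommRingCat.of k)) (C : Chars (Fin d → ℤ) T)
    (iT : T ⟶ G) [IsMonHom iT] [IsClosedImmersion iT.left] (hG : Red.IsReductiveOver K (Red.bc q G))
    (hT : AGF.IsMaxTorus ((Over.pullback q).map iT))
    {B : Over (Spec (CommRingCat.of k))} [GrpObj B] {iB : B ⟶ G} [IsMonHom iB] [IsClosedImmersion iB.left]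
    [Smooth B.hom] (hB : Red.IsBorelOver K ((Over.pullback q).map iB)) (t : T ⟶ B) (ht : t ≫ iB = iT) :
    ∃! P : Subobject G, IsOpposite q iT iB t P := by
  obtain ⟨φ, rfl⟩ := Spec.map_surjective q
  letI : Algebra k K := φ.hom.toAlgebra
  obtain ⟨n, r, hr, hrc, a, b, hdiag, hfac, ⟨B₂, _, iB₂, t₂, h₂m, h₂c, h₂s, ht₂, h₂b, h₂f⟩, hmeet⟩ :=
    exists_opposite_data C iT hG hT hB t ht
  haveI := hr
  haveI := hrc
  haveI := h₂m
  haveI := h₂c
  haveI := h₂s
  haveI : Mono iB₂ := Over.mono_of_mono_left iB₂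
  haveI : Mono iB := Over.mono_of_mono_left iB
  haveI : Mono iT := Over.mono_of_mono_left iT
  have hpb : IsPullback t t₂ iB iB₂ := by
    have hw : t ≫ iB = t₂ ≫ iB₂ := ht.trans ht₂.symm
    have key : ∀ s : PullbackCone iB iB₂, ∃ l : s.pt ⟶ T, l ≫ iT = s.fst ≫ iB := fun s =>
      hmeet _ _ ((hfac _ _).1 ⟨s.fst, rfl⟩) ((h₂f _ _).1 ⟨s.snd, s.condition.symm⟩)
    choose l hl using key
    exact ⟨⟨hw⟩, ⟨PullbackCone.IsLimit.mk hw l
      (fun s => (cancel_mono iB).1 (by rw [Category.assoc, ht, hl]))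
      (fun s => (cancel_mono iB₂).1 (by rw [Category.assoc, ht₂, hl, s.condition]))
      (fun s m hm _ => (cancel_mono iT).1 (by rw [hl, ← hm, Category.assoc, ht]))⟩⟩
  refine ⟨Subobject.mk iB₂, ⟨B₂, inferInstance, iB₂, inferInstance, t₂, ⟨h₂m, h₂c, h₂s, h₂b⟩, ht₂, hpb, rfl⟩, ?_⟩
  rintro P ⟨H, _, iH, _, tH, ⟨hHm, hHc, hHs, hHb⟩, htH, hHpb, rfl⟩
  haveI := hHm
  haveI := hHc
  haveI := hHs
  haveI : IsAffine H.left := isAffine_of_isAffineHom iH.left
  haveI : ConnectedSpace H.left := connectedSpace_of_bc _ hHb.2.2.2.1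
  haveI : IsIntegral H.left := UnitsRos.isIntegral_of_group H
  haveI : IsClosedImmersion (iH ≫ r).left := by rw [Over.comp_left]; infer_instance
  haveI : IsMonHom tH := BorelFix21.isMonHom_of_comp iH tH (htH.symm ▸ ‹IsMonHom iT›)
  have hdH : ∀ (Y : Over (Spec (CommRingCat.of k))) (y : Y ⟶ T),
      mat ((y ≫ tH) ≫ iH ≫ r) = Matrix.diagonal fun j => C.ch y (Multiplicative.ofAdd (a j)) := fun Y y => by
    rw [← Category.assoc, Category.assoc y tH iH, htH]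
    exact hdiag Y y
  obtain ⟨f, hf⟩ := (h₂f H iH).2 (by
    have h := blk_neg_of_test (r := iH ≫ r) (iT := tH) hdH b (fun X x hx => by
      obtain ⟨y, hy⟩ := (hfac X (x ≫ iH)).2 (by rwa [Category.assoc])
      have hl : ∃ l : X ⟶ T, l ≫ tH = x := ⟨hHpb.lift y x hy, hHpb.lift_snd y x hy⟩
      obtain ⟨l, rfl⟩ := hl
      rw [hdH]
      exact blk_diagonal _ _) H (𝟙 H)
    rwa [Category.id_comp] at h)
  haveI : IsMonHom f := BorelFix21.isMonHom_of_comp iB₂ f (hf.symm ▸ hHm)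
  obtain ⟨_, _, _, _, _, hmax⟩ := id hHb
  obtain ⟨hbm, hbc, hbs, hbn, hbsol, -⟩ := id h₂b
  haveI : IsIso (bcMap K f) := hmax _ (bcMap K iB₂) (bcMap K f) hbc hbs hbn hbsol (by rw [← Functor.map_comp, hf]; rfl)
  haveI : IsAffine B₂.left := isAffine_of_isAffineHom iB₂.left
  obtain ⟨g, hg⟩ := exists_lift_of_Kpts (K := K) iH iB₂ fun z => by
    obtain ⟨v, hv⟩ := exists_toK (toK z ≫ inv (bcMap K f))
    refine ⟨v, toK_injective ?_⟩
    rw [toK_comp, hv, toK_comp, Category.assoc]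
    congr 1
    rw [IsIso.inv_comp_eq, ← Functor.map_comp, hf]
  refine Subobject.mk_eq_mk_of_comm _ _ ⟨f, g, (cancel_mono iH).1 (by rw [Category.assoc, hg, hf, Category.id_comp]),
    (cancel_mono iB₂).1 (by rw [Category.assoc, hf, hg, Category.id_comp])⟩ hf

end Groth.Agent.AttrBorel21
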