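import Groth.Agent.Lib.AttrBorel21.SplitSS
import Groth.Agent.Lib.AttrBorel21.Opposite
import Groth.Agent.Lib.TorPts21.BorelCentre
import Groth.Agent.Lib.TorPts21.UnipBorel

/-!
# Split reductive groups over arbitrary algebraically closed extensions
-/

set_option autoImplicit false
set_option linter.style.haveILetI false
set_option backward.isDefEq.respectTransparency.types false
universe u

open CategoryTheory Limits MonoidalCategory CartesianMonoidalCategory MonObj AlgebraicGeometry

noncomputable section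

namespace Groth.Agent.AttrBorel21

open InvRing21 DiagGL TorPts21 BigCell21 BorelLam21

attribute [local instance] InvRing21.gamAlg BorelFix21.ptsTop

variable {k : Type u} [Field k] {G : Over (Spec (CommRingCat.of k))} [GrpObj G]

/-- Solvability descends along field extensions. -/
theorem isSolvableGrp_of_bc {K : Type u} [Field K] (φ : Spec (CommRingCat.of K) ⟶ Spec (CommRingCat.of k))
    {B : Over (Spec (CommRingCat.of k))} [GrpObj B] (h : Red.IsSolvableGrp (Red.bc φ B)) : Red.IsSolvableGrp B := by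
  obtain ⟨n, hn⟩ := h
  refine ⟨n, fun X => ?_⟩
  let F : (X ⟶ B) →* ((Over.pullback φ).obj X ⟶ (Over.pullback φ).obj B) :=
    MonoidHom.mk' (fun f => (Over.pullback φ).map f) fun a b => Functor.map_mul (Over.pullback φ) a b
  refine (Subgroup.eq_bot_iff_forall _).2 fun x hx => eq_of_bc φ x 1 ?_
  have h1 := map_derivedSeries_le_derivedSeries F n ⟨x, hx, rfl⟩
  rw [show derivedSeries ((Over.pullback φ).obj X ⟶ (Over.pullback φ).obj B) n = ⊥ from hn _, Subgroup.mem_bot] at h1
  exact h1.trans (map_one F).symm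

set_option maxHeartbeats 800000 in
/-- Borel subgroups remain Borel over every algebraically closed extension. -/
theorem isBorelOver_bc_ext [IsAffine G.left] [Smooth G.hom] [ConnectedSpace G.left]
    {B : Over (Spec (CommRingCat.of k))} [GrpObj B] {iB : B ⟶ G} (hB : Red.IsBorel iB)
    (K : Type u) [Field K] [IsAlgClosed K] (φ : Spec (CommRingCat.of K) ⟶ Spec (CommRingCat.of k)) :
    Red.IsBorelOver K ((Over.pullback φ).map iB) := by
  obtain ⟨hm, hc, hs, hgeo⟩ := id hB
  haveI := hm
  haveI := hc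
  haveI := hs
  let s : ↥(Spec (CommRingCat.of k)) := IsLocalRing.closedPoint k
  let ψ := Red.geomPt s
  have hBs := hgeo s
  obtain ⟨hm', hc', hs', hn', hsol', -⟩ := id hBs
  obtain ⟨X, a, o, hX, hXs, hXq⟩ := GrassAct21.exists_quotient iB
  haveI := hXs
  haveI := hXq
  haveI := hX.1
  haveI : IsAffine (Red.bc ψ G).left := BorelFix21.isAffine_bc ψ G
  haveI : Smooth (Red.bc ψ G).hom := BorelFix21.smooth_bc ψ G
  haveI : ConnectedSpace (Red.bc ψ G).left := BorelFix21.connectedSpace_bc ψ G
  haveI := hm'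
  haveI := hc'
  haveI := hs'
  haveI : IsClosedImmersion (𝟙 ((Over.pullback ψ).obj B) ≫ (Over.pullback ψ).map iB).left := by
    rw [Category.id_comp]; exact hc'
  haveI : IsProper ((Over.pullback ψ).obj X).hom :=
    BorelFix21.isProper_of_borel_le (BorelFix21.isQuotient_bc ψ hX) (𝟙 _) (by rw [Category.id_comp]; exact hBs)
  haveI : IsProper X.hom := BorelFix21.isProper_of_bc ψ
  haveI : Smooth (Red.bc φ B).hom := BorelFix21.smooth_bc φ B
  haveI : IsAffine (Red.bc φ G).left := BorelFix21.isAffine_bc φ G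
  haveI : Smooth (Red.bc φ G).hom := BorelFix21.smooth_bc φ G
  haveI : ConnectedSpace (Red.bc φ G).left := BorelFix21.connectedSpace_bc φ G
  haveI : ConnectedSpace B.left := by
    haveI := hn'
    haveI : Surjective ψ := ⟨fun z => ⟨IsLocalRing.closedPoint _, Subsingleton.elim _ _⟩⟩
    haveI : Surjective (pullback.fst B.hom ψ) := inferInstance
    exact ((pullback.fst B.hom ψ).surjective.connectedSpace (α := (Red.bc ψ B).left)
      (pullback.fst B.hom ψ).continuous)
  haveI : ConnectedSpace (Red.bc φ B).left := BorelFix21.connectedSpace_bc φ B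
  have hsolB : Red.IsSolvableGrp B := isSolvableGrp_of_bc ψ hsol'
  exact Groth.Agent.S3905.result _ (Red.bc φ G) (Red.bc φ B) ((Over.pullback φ).map iB)
    (BorelFix21.isClosedImmersion_bc φ iB) (isSolvableGrp_bc φ hsolB) _ _ _ (BorelFix21.isQuotient_bc φ hX)
    (BorelFix21.isProper_bc φ X)

set_option maxHeartbeats 800000 in
/-- Maximal tori of reductive groups remain maximal over every algebraically closed extension. -/
theorem isMaxTorus_bc_ext {T : Over (Spec (CommRingCat.of k))} [GrpObj T] {iT : T ⟶ G} (hG : Red.IsReductive G)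
    (hT : Red.IsMaximalTorus iT) (K : Type u) [Field K] [IsAlgClosed K]
    (φ : Spec (CommRingCat.of K) ⟶ Spec (CommRingCat.of k)) : AGF.IsMaxTorus ((Over.pullback φ).map iT) := by
  obtain ⟨hGa, hGs, -⟩ := props_of_isReductive hG
  haveI := hGa
  haveI := hGs
  haveI := hT.1
  haveI := hT.2.1
  obtain ⟨C, _, c, hc, hci, -⟩ :=
    MTRigid29.exists_centralizer (MTRigid29.isMT_of_ft (isMultTypeFT_of_isTorus hT.2.2.1)) hGs inferInstance iT
  obtain ⟨f₀, hf₀⟩ := TorPts21.exists_lift_of_commute_maxTorus hG hT c ((hc.2.2 C c).1 ⟨𝟙 C, Category.id_comp c⟩)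
  haveI : IsClosedImmersion iT.left :=
    MTRigid29.isClosedImmersion_of_mono (isMultTypeFT_of_isTorus hT.2.2.1) hG.1 iT
  haveI : IsClosedImmersion ((Over.pullback φ).map iT).left := BorelFix21.isClosedImmersion_bc φ iT
  haveI : Mono ((Over.pullback φ).map iT) := Over.mono_of_mono_left _
  refine ⟨inferInstance, inferInstance, isTorus_bc φ hT.2.2.1, fun T' _ j _ _ f hT' hf => ?_⟩
  obtain ⟨d, ⟨Cd⟩⟩ := exists_chars hT'
  obtain ⟨z, hz⟩ := ((isCentralizerOf_bc φ hc).2.2 T' j).2 fun X x t => by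
    rw [← hf, ← Category.assoc, ← MonObj.mul_comp, ← MonObj.mul_comp]
    exact congrArg (· ≫ j) (commute_of_chars Cd x (t ≫ f))
  have hg : (z ≫ (Over.pullback φ).map f₀) ≫ (Over.pullback φ).map iT = j := by
    rw [Category.assoc, ← Functor.map_comp, hf₀, hz]
  exact ⟨z ≫ (Over.pullback φ).map f₀,
    (cancel_mono ((Over.pullback φ).map iT)).1 (by rw [Category.assoc, hg, hf, Category.id_comp]),
    (cancel_mono j).1 (by rw [Category.assoc, hf, hg, Category.id_comp])⟩

variable (K : Type u) [Field K] [IsAlgClosed K] [Algebra k K] (D : Red.SplitRed G)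

set_option maxHeartbeats 1600000 in
/-- A split reductive group is reductive over every algebraically closed extension. -/
theorem isReductiveOver_bcK : Red.IsReductiveOver K (bcK K G) ∧ AGF.IsMaxTorus (bcMap K D.i) := by
  refine ⟨?_, isMaxTorus_bc_ext D.reductive D.maximalTorus K _⟩
  obtain ⟨hGa, hGs, hGc⟩ := props_of_isReductive D.reductive
  haveI := hGa
  haveI := hGs
  haveI := hGc
  haveI := D.maximalTorus.1
  haveI := D.maximalTorus.2.1
  haveI : IsClosedImmersion D.i.left := MTRigid29.isClosedImmersion_of_mono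
    (isMultTypeFT_of_isTorus D.maximalTorus.2.2.1) D.reductive.1 D.i
  haveI : IsAffine (bcK K G).left := BorelFix21.isAffine_bc _ G
  haveI : Smooth (bcK K G).hom := BorelFix21.smooth_bc _ G
  haveI : ConnectedSpace (bcK K G).left := BorelFix21.connectedSpace_bc _ G
  refine ⟨inferInstance, inferInstance, inferInstance, fun U _ u _ huc hus hun hunorm hU => ?_⟩
  haveI := huc
  haveI := hus
  haveI := hun
  haveI : IsAffine U.left := isAffine_of_isAffineHom u.left
  -- two opposite Borel subgroups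
  obtain ⟨B, _, iB, t, hB, ht⟩ := exists_isBorel D
  let s : ↥(Spec (CommRingCat.of k)) := IsLocalRing.closedPoint k
  obtain ⟨alg₀, -, hgeq⟩ := FinBorel21.exists_geomAlg s
  letI := alg₀
  obtain ⟨hR₀, hT₀, hB₀⟩ : Red.IsReductiveOver (AlgebraicClosure ((Spec (CommRingCat.of k)).residueField s)) (bcK _ G) ∧
      AGF.IsMaxTorus (bcMap (AlgebraicClosure ((Spec (CommRingCat.of k)).residueField s)) D.i) ∧
      Red.IsBorelOver _ (bcMap (AlgebraicClosure ((Spec (CommRingCat.of k)).residueField s)) iB) :=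
    (show ∀ q, q = Red.geomPt s → Red.IsReductiveOver (AlgebraicClosure ((Spec (CommRingCat.of k)).residueField s))
      (Red.bc q G) ∧ AGF.IsMaxTorus ((Over.pullback q).map D.i) ∧
        Red.IsBorelOver _ ((Over.pullback q).map iB) from fun q h => by
      subst h; exact ⟨D.reductive.2.2 s, isMaxTorus_geomFibre D.maximalTorus s, hB.2.2.2 s⟩) _ hgeq.symm
  haveI := hB.1
  haveI := hB.2.1
  haveI := hB.2.2.1
  obtain ⟨n, r, _, _, a, b, -, hfB, ⟨B₂, _, iB₂, -, h2m, h2c, h2s, -, h2b, hfB₂⟩, hmeet⟩ :=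
    exists_opposite_data (splitChars D) D.i hR₀ hT₀ hB₀ t ht
  have hB₂ : Red.IsBorel iB₂ := ⟨h2m, h2c, h2s, fun s' => by
    obtain rfl : s = s' := Subsingleton.elim _ _
    exact (show ∀ q, q = Red.geomPt s → Red.IsBorelOver (AlgebraicClosure ((Spec (CommRingCat.of k)).residueField s))
      ((Over.pullback q).map iB₂) → Red.IsBorelOver _ ((Over.pullback (Red.geomPt s)).map iB₂) from
      fun q h => by subst h; exact id) _ hgeq.symm h2b⟩
  -- the points of `U` lie in both
  have hsol : Red.IsSolvableGrp U := TorPts21.isSolvableGrp_of_hasNoSubtorus U hU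
  obtain ⟨B', _, iB', h', hB', hh'⟩ := BorelFix21.exists_le_borel u hsol
  have key : ∀ {B₀ : Over (Spec (CommRingCat.of k))} [GrpObj B₀] {iB₀ : B₀ ⟶ G}, Red.IsBorel iB₀ →
      ∀ (x : VecGrp.pt K K ⟶ U), ∃ y, y ≫ bcMap K iB₀ = x ≫ u := by
    intro B₀ _ iB₀ h₀ x
    obtain ⟨g, f, hf⟩ := BorelFix21.exists_conjBy iB' (bcMap K iB₀) hB' (isBorelOver_bc_ext h₀ K _)
    obtain ⟨n', hn'⟩ := hunorm _ (toUnit (VecGrp.pt K K) ≫ g)⁻¹ x
    rw [inv_inv] at hn'
    refine ⟨(n' ≫ h') ≫ f.hom, ?_⟩
    rw [Category.assoc, hf, comp_conjBy, Category.assoc n' h' iB', hh', ← hn']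
    group
  haveI : IsClosedImmersion (bcMap K D.i).left := BorelFix21.isClosedImmersion_bc _ D.i
  obtain ⟨f, hf⟩ := exists_lift_of_pts (bcMap K D.i) u fun x => by
    obtain ⟨y₁, hy₁⟩ := key hB x
    obtain ⟨y₂, hy₂⟩ := key hB₂ x
    obtain ⟨g, hg⟩ := exists_toK (x ≫ u)
    obtain ⟨z₁, rfl⟩ := exists_toK y₁
    obtain ⟨z₂, rfl⟩ := exists_toK y₂
    rw [← toK_comp, ← hg] at hy₁ hy₂
    obtain ⟨τ, hτ⟩ := hmeet _ g ((hfB _ _).1 ⟨z₁, toK_injective hy₁⟩) ((hfB₂ _ _).1 ⟨z₂, toK_injective hy₂⟩)
    exact ⟨toK τ, by rw [← toK_comp, hτ, hg]⟩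
  haveI : IsMonHom f := by
    haveI : IsClosedImmersion (bcMap K D.i).left := BorelFix21.isClosedImmersion_bc _ D.i
    haveI : IsMonHom (f ≫ bcMap K D.i) := hf ▸ ‹IsMonHom u›
    exact BorelFix21.isMonHom_of_comp (bcMap K D.i) f inferInstance
  haveI : IsClosedImmersion (f ≫ bcMap K D.i).left := hf ▸ huc
  haveI : IsClosedImmersion f.left := by
    haveI : IsClosedImmersion (f.left ≫ (bcMap K D.i).left) := by rwa [← Over.comp_left]
    haveI : IsClosedImmersion (bcMap K D.i).left := BorelFix21.isClosedImmersion_bc _ D.i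
    exact IsClosedImmersion.of_comp f.left (bcMap K D.i).left
  have hUT : Red.IsTorus U := isTorus_of_closed (isTorus_bc _ D.maximalTorus.2.2.1) f
  exact hU U (𝟙 U) hUT

/-- A split semisimple group is semisimple over every algebraically closed extension. -/
theorem isSemisimpleOver_bcK (D : Red.SplitRed G) (hG : Red.IsSemisimple G) : Red.IsSemisimpleOver K (bcK K G) := by
  obtain ⟨N, hN0, hN⟩ := exists_exponent D hG
  obtain ⟨hR, hT⟩ := isReductiveOver_bcK K D
  haveI := D.maximalTorus.1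
  obtain ⟨hGa, hGs, -⟩ := props_of_isReductive D.reductive
  haveI := hGa
  haveI := hGs
  exact semisimpleOver_of_exponent K D hN0 hN hR hT

end Groth.Agent.AttrBorel21
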