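import Groth.Agent.Lib.AttrBorel21.Orth
import Groth.Agent.Lib.AttrBorel21.GeomBC
import Groth.Agent.Lib.Derived21.NormalClosure
import Groth.Agent.Lib.GrpTrans20.Transporter
import Groth.Agent.Lib.TorPts21.CentralizerRadical

/-!
# Almost simple split groups and indecomposable root systems
-/

set_option autoImplicit false
set_option linter.style.haveILetI false
set_option backward.isDefEq.respectTransparency.types false
universe u

open CategoryTheory Limits MonoidalCategory CartesianMonoidalCategory MonObj AlgebraicGeometry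

noncomputable section

namespace Groth.Agent.AttrBorel21

open InvRing21 DiagGL TorPts21 BigCell21 BorelLam21

attribute [local instance] InvRing21.gamAlg BorelFix21.ptsTop

/-- Functoriality of the diagonalisable group. -/
theorem DSmap_comp {S : Scheme.{u}} {M N P : Type} [AddCommGroup M] [AddCommGroup N] [AddCommGroup P]
    (φ : M →+ N) (ψ : N →+ P) : Red.DSmap S ψ ≫ Red.DSmap S φ = Red.DSmap S (ψ.comp φ) := by
  rw [Red.DSmap, Red.DSmap, Red.DSmap, ← Functor.map_comp]
  congr 1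
  refine Over.OverMorphism.ext ?_
  show Spec.map _ ≫ Spec.map _ = Spec.map _
  rw [← Spec.map_comp, ← CommRingCat.ofHom_comp]
  refine congrArg (fun f => Spec.map (CommRingCat.ofHom f)) ?_
  exact congrArg AlgHom.toRingHom
    (MonoidAlgebra.mapDomainAlgHom_comp (R := ULift.{u} ℤ) (A := ULift.{u} ℤ) (AddMonoidHom.toMultiplicative φ)
      (AddMonoidHom.toMultiplicative ψ)).symm

/-- Characters pulled back by a map of character groups. -/
theorem gmFn_DSmap {S : Scheme.{u}} {M N : Type} [AddCommGroup M] [AddCommGroup N] {X : Over S}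
    (x : X ⟶ Red.DS S N) (φ : M →+ N) (m : M) :
    (charsDS S M).ch (x ≫ Red.DSmap S φ) (Multiplicative.ofAdd m) = (charsDS S N).ch x (Multiplicative.ofAdd (φ m)) := by
  rw [← gmFn_chi, ← gmFn_chi, Category.assoc]
  refine congrArg (fun z => Red.gmFn (x ≫ z)) ?_
  show Red.DSmap S φ ≫ Red.DSmap S (zmultiplesHom M m : ℤ →+ M) = Red.DSmap S (zmultiplesHom N (φ m) : ℤ →+ N)
  rw [DSmap_comp]
  congr 1
  exact AddMonoidHom.ext_int (by simp)

/-- The additive group is a smooth affine scheme. -/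
theorem smooth_affine_Ga (k : Type u) [Field k] :
    IsAffine (Red.Ga (Spec (CommRingCat.of k))).left ∧ Smooth (Red.Ga (Spec (CommRingCat.of k))).hom ∧
      ConnectedSpace (Red.Ga (Spec (CommRingCat.of k))).left := by
  haveI := isIso_powX (k := k) 1
  let e : VecGrp.pt k (MvPolynomial (Fin 1) k) ≅ Red.Ga (Spec (CommRingCat.of k)) :=
    asIso (powX (k := k) 1) ≪≫ rightUnitor _
  haveI : IsIso e.inv.left := inferInstanceAs (IsIso ((Over.forget _).map e.inv))
  haveI : IsAffine (VecGrp.pt k (MvPolynomial (Fin 1) k)).left := inferInstanceAs (IsAffine (Spec _))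
  haveI : Smooth (VecGrp.pt k (MvPolynomial (Fin 1) k)).hom :=
    (HasRingHomProperty.Spec_iff (P := @Smooth)).2 (RingHom.smooth_algebraMap.2 ⟨inferInstance, inferInstance⟩)
  haveI : ConnectedSpace (VecGrp.pt k (MvPolynomial (Fin 1) k)).left :=
    inferInstanceAs (ConnectedSpace (PrimeSpectrum (MvPolynomial (Fin 1) k)))
  refine ⟨IsAffine.of_isIso e.inv.left, by rw [← Over.w e.inv]; infer_instance, ?_⟩
  haveI : IsIso e.hom.left := inferInstanceAs (IsIso ((Over.forget _).map e.hom))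
  exact e.hom.left.homeomorph.surjective.connectedSpace e.hom.left.homeomorph.continuous

variable {k : Type u} [Field k] (K : Type u) [Field K] [IsAlgClosed K] [Algebra k K]
  {G : Over (Spec (CommRingCat.of k))} [GrpObj G] (D : Red.SplitRed G)

omit [IsAlgClosed K] in
/-- A reflection on the torus acts on the character values. -/
theorem exists_refl_pt (c : D.idx) : ∃ g : VecGrp.pt k K ⟶ G, ∀ τ : VecGrp.pt k K ⟶ D.T, ∃ τ',
    g * (τ ≫ D.i) * g⁻¹ = τ' ≫ D.i ∧
      ∀ m : D.M, chi (splitChars D) τ' (Multiplicative.ofAdd ((Module.finBasis ℤ D.M).equivFun m)) =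
        chi (splitChars D) τ (Multiplicative.ofAdd ((Module.finBasis ℤ D.M).equivFun (D.P.reflection c m))) := by
  obtain ⟨n, hn⟩ := D.refl c
  refine ⟨toUnit _ ≫ n, fun τ => ⟨τ ≫ D.split.hom.hom.hom ≫
    Red.DSmap (Spec (CommRingCat.of k)) (D.P.reflection c).toLinearMap.toAddMonoidHom ≫ D.split.inv.hom.hom, ?_, fun m => ?_⟩⟩
  · rw [hn]
    simp only [Category.assoc]
  · show ptHom K _ = ptHom K _
    refine congrArg (ptHom K) ?_
    have hsi : D.split.inv.hom.hom ≫ D.split.hom.hom.hom = 𝟙 _ := by simp [← Grp.comp', ← Mon.comp_hom']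
    simp only [splitChars, MonoidHom.comp_apply, Chars.transport, AddMonoidHom.toMultiplicative_apply_apply,
      toAdd_ofAdd, LinearMap.toAddMonoidHom_coe, LinearEquiv.coe_coe, LinearEquiv.symm_apply_apply, Category.assoc, hsi]
    erw [Category.comp_id]
    rw [← Category.assoc, gmFn_DSmap]
    rfl

/-- A point of the torus with a prescribed value of a root. -/
theorem exists_root_val (c : D.idx) {s : K} (hs : s ≠ 0) : ∃ τ : VecGrp.pt k K ⟶ D.T,
    chi (splitChars D) τ (Multiplicative.ofAdd ((Module.finBasis ℤ D.M).equivFun (D.P.root c))) = s := by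
  set e := (Module.finBasis ℤ D.M).equivFun (D.P.root c) with he
  obtain ⟨q, hq⟩ : ∃ q, e q ≠ 0 := by
    by_contra! h
    exact RootPairing.ne_zero D.P c ((Module.finBasis ℤ D.M).equivFun.map_eq_zero_iff.1 (funext h))
  obtain ⟨r, hr⟩ := IsAlgClosed.exists_pow_nat_eq s (Int.natAbs_pos.2 hq)
  have hr0 : r ≠ 0 := fun h => hs (by rw [← hr, h, zero_pow (Int.natAbs_ne_zero.2 hq)])
  obtain ⟨u, hu⟩ : ∃ u : Kˣ, ((u ^ e q : Kˣ) : K) = s := by
    rcases Int.natAbs_eq (e q) with h | h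
    · exact ⟨Units.mk0 r hr0, by rw [h, zpow_natCast, Units.val_pow_eq_pow_val, Units.val_mk0, hr]⟩
    · exact ⟨(Units.mk0 r hr0)⁻¹, by
        rw [h, inv_zpow', neg_neg, zpow_natCast, Units.val_pow_eq_pow_val, Units.val_mk0, hr]⟩
  obtain ⟨τ, hτ⟩ := exists_chi (splitChars D) ((Units.coeHom K).comp (MonoidHom.mk'
    (fun m : Multiplicative (Fin (Module.finrank ℤ D.M) → ℤ) => u ^ m.toAdd q) fun m m' => by
      simp only [toAdd_mul, Pi.add_apply, zpow_add]))
  exact ⟨τ, (hτ _).trans hu⟩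

omit [IsAlgClosed K] in
theorem gaFn_pt_ext {y y' : VecGrp.pt k K ⟶ Red.Ga (Spec (CommRingCat.of k))}
    (h : ptHom K (Red.gaFn y) = ptHom K (Red.gaFn y')) : y = y' :=
  GaPts.gaFn_injective (InvRing21.ptHom_injective K h)

omit [IsAlgClosed K] in
theorem root_pt_eq_one_iff (c : D.idx) (y : VecGrp.pt k K ⟶ Red.Ga (Spec (CommRingCat.of k))) :
    y ≫ D.u c = 1 ↔ ptHom K (Red.gaFn y) = 0 := by
  haveI := (D.rootHom c).1
  haveI := (D.rootHom c).2.1
  haveI : Mono (D.u c) := Over.mono_of_mono_left _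
  rw [← MonObj.one_comp (D.u c), cancel_mono]
  refine ⟨fun h => by rw [h, GaPts.gaFn_one, map_zero], fun h => gaFn_pt_ext K ?_⟩
  rw [h, GaPts.gaFn_one, map_zero]

/-- A nontrivial root point is moved by the torus. -/
theorem exists_not_commute (c : D.idx) (y : VecGrp.pt k K ⟶ Red.Ga (Spec (CommRingCat.of k)))
    (hy : y ≫ D.u c ≠ 1) : ∃ τ : VecGrp.pt k K ⟶ D.T, (τ ≫ D.i) * (y ≫ D.u c) ≠ (y ≫ D.u c) * (τ ≫ D.i) := by
  haveI := D.maximalTorus.1
  haveI := (D.rootHom c).2.1
  haveI : Mono (D.u c) := Over.mono_of_mono_left _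
  classical
  obtain ⟨s, hs⟩ := Infinite.exists_notMem_finset ({0, 1} : Finset K)
  simp only [Finset.mem_insert, Finset.mem_singleton, not_or] at hs
  obtain ⟨τ, hτ⟩ := exists_root_val K D c hs.1
  refine ⟨τ, fun h => ?_⟩
  obtain ⟨y', h1, h2⟩ := conj_root_pt K D τ c y
  rw [h, mul_inv_cancel_right, cancel_mono] at h1
  rw [h1, hτ] at h2
  exact hy ((root_pt_eq_one_iff K D c y).2 (by
    by_contra h0
    exact hs.2 (mul_right_cancel₀ h0 (by rw [_root_.one_mul]; exact h2.symm))))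

/-- A standard nontrivial point of a root group. -/
theorem exists_root_ne_one (c : D.idx) :
    (VecGrp.ptMap (R := k) (Polynomial.aeval (1 : K) : Polynomial k →ₐ[k] K) ≫ gaX) ≫ D.u c ≠ 1 := fun h1 =>
  one_ne_zero (((ptHom_gaFn_gaX _).trans (Polynomial.aeval_X _)).symm.trans ((root_pt_eq_one_iff K D c _).1 h1))

variable (H : Subgroup (VecGrp.pt k K ⟶ G)) [H.Normal]

/-- A normal subgroup containing a nontrivial point of a root group contains the root group. -/
theorem root_le_of_mem (c : D.idx) {y : VecGrp.pt k K ⟶ Red.Ga (Spec (CommRingCat.of k))} (hy : y ≫ D.u c ≠ 1)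
    (hH : y ≫ D.u c ∈ H) (z : VecGrp.pt k K ⟶ Red.Ga (Spec (CommRingCat.of k))) : z ≫ D.u c ∈ H := by
  haveI := D.maximalTorus.1
  by_cases hz : ptHom K (Red.gaFn z) = 0
  · rw [(root_pt_eq_one_iff K D c z).2 hz]; exact H.one_mem
  · have hy0 : ptHom K (Red.gaFn y) ≠ 0 := fun h => hy ((root_pt_eq_one_iff K D c y).2 h)
    obtain ⟨τ, hτ⟩ := exists_root_val K D c (div_ne_zero hz hy0)
    obtain ⟨y', h1, h2⟩ := conj_root_pt K D τ c y
    rw [hτ, div_mul_cancel₀ _ hy0] at h2
    rw [← gaFn_pt_ext K h2, h1]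
    exact Subgroup.Normal.conj_mem inferInstance _ hH _

/-- A torus point in a normal subgroup moving a root puts the root group in the subgroup. -/
theorem root_le_of_torus {τ : VecGrp.pt k K ⟶ D.T} (hτH : τ ≫ D.i ∈ H) (c : D.idx)
    (hτ : chi (splitChars D) τ (Multiplicative.ofAdd ((Module.finBasis ℤ D.M).equivFun (D.P.root c))) ≠ 1)
    (z : VecGrp.pt k K ⟶ Red.Ga (Spec (CommRingCat.of k))) : z ≫ D.u c ∈ H := by
  haveI := D.maximalTorus.1
  haveI := (D.rootHom c).1
  haveI := (D.rootHom c).2.1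
  haveI : Mono (D.u c) := Over.mono_of_mono_left _
  let y : VecGrp.pt k K ⟶ Red.Ga (Spec (CommRingCat.of k)) :=
    VecGrp.ptMap (R := k) (Polynomial.aeval (1 : K) : Polynomial k →ₐ[k] K) ≫ gaX
  have hy1 : ptHom K (Red.gaFn y) = 1 := (ptHom_gaFn_gaX _).trans (Polynomial.aeval_X _)
  obtain ⟨y', h1, h2⟩ := conj_root_pt K D τ c y
  have hmem : (y' * y⁻¹) ≫ D.u c ∈ H := by
    rw [MonObj.mul_comp, GrpObj.inv_comp, h1]
    have := H.mul_mem hτH (Subgroup.Normal.conj_mem inferInstance _ (H.inv_mem hτH) (y ≫ D.u c))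
    simpa only [_root_.mul_assoc] using this
  refine root_le_of_mem K D H c (fun h => hτ ?_) hmem z
  rw [← MonObj.one_comp (D.u c), cancel_mono, mul_inv_eq_one] at h
  rw [h, hy1, _root_.mul_one] at h2
  exact h2.symm

omit H [H.Normal] in
/-- The points of a normal subgroup of a reductive group have a torus. -/
theorem exists_torus_pts {L : Type u} [Field L] [IsAlgClosed L] {G T N : Over (Spec (CommRingCat.of L))}
    [GrpObj G] [GrpObj T] [GrpObj N] {iT : T ⟶ G} (hG : Red.IsReductiveOver L G) (hT : AGF.IsMaxTorus iT)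
    (i : N ⟶ G) [IsMonHom i] [IsClosedImmersion i.left] [Smooth N.hom] [ConnectedSpace N.left]
    (hn : AlgGrp.IsNormalHom i) :
    ∃ T₀ : Subgroup (VecGrp.pt L L ⟶ T), (∀ τ ∈ T₀, ∃ y, y ≫ i = τ ≫ iT) ∧
      (∀ τ ∈ T₀, ∀ m : ℕ, m ≠ 0 → ∃ σ ∈ T₀, σ ^ m = τ) ∧
      ∀ x : VecGrp.pt L L ⟶ N, (∀ τ ∈ T₀, (x ≫ i) * (τ ≫ iT) = (τ ≫ iT) * (x ≫ i)) →
        ∃ τ ∈ T₀, τ ≫ iT = x ≫ i := by
  haveI := hG.1
  haveI := hG.2.1
  haveI := hG.2.2.1
  haveI : IsAffine N.left := isAffine_of_isAffineHom i.left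
  have hN := isReductiveOver_normal hG hn (i := i)
  haveI := hT.1
  haveI := hT.2.1
  obtain ⟨T₁, _, j, hj⟩ := exists_maxTorus N
  haveI := hj.1
  haveI := hj.2.1
  haveI : Mono i := Over.mono_of_mono_left i
  obtain ⟨T₂, _, iT₂, s, hT₂, hs⟩ := exists_maxTorus_ge (j ≫ i) hj.2.2.1
  obtain ⟨g, f, hf⟩ := exists_conj_maxTorus hT₂ hT
  have hst : (s ≫ f.hom) ≫ iT = AGF.conjBy g (j ≫ i) := by
    simp only [Category.assoc, hf, AGF.conjBy, MonObj.comp_mul, GrpObj.comp_inv, comp_toUnit_assoc, hs]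
  haveI := isMonHom_conjBy g (j ≫ i)
  haveI : IsMonHom ((s ≫ f.hom) ≫ iT) := hst ▸ inferInstance
  haveI := isMonHom_of_comp_mono' (s ≫ f.hom) iT
  let ι₀ : (VecGrp.pt L L ⟶ T₁) →* (VecGrp.pt L L ⟶ T) :=
    MonoidHom.mk' (fun σ => σ ≫ s ≫ f.hom) fun a b => MonObj.mul_comp a b _
  have hval : ∀ σ, ι₀ σ ≫ iT = gpt g * (σ ≫ j ≫ i) * (gpt g)⁻¹ := fun σ => by
    show (σ ≫ s ≫ f.hom) ≫ iT = _
    rw [Category.assoc, hst, comp_conjBy]
    rfl
  obtain ⟨d, ⟨C⟩⟩ := exists_chars hj.2.2.1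
  refine ⟨ι₀.range, ?_, ?_, fun x hx => ?_⟩
  · rintro _ ⟨σ, rfl⟩
    obtain ⟨n', hn'⟩ := hn _ (gpt g) (σ ≫ j)
    exact ⟨n', by rw [← hn', hval, Category.assoc]⟩
  · rintro _ ⟨σ, rfl⟩ m hm
    obtain ⟨σ', hσ'⟩ := exists_root_pt L C σ hm
    exact ⟨ι₀ σ', ⟨σ', rfl⟩, by rw [← map_pow, hσ']⟩
  · obtain ⟨x', hx'⟩ := hn _ (gpt g)⁻¹ x
    rw [inv_inv] at hx'
    obtain ⟨Cz, _, c, hcz, -, -⟩ := MTRigid29.exists_centralizer
      (MTRigid29.isMT_of_ft (isMultTypeFT_of_isTorus hj.2.2.1)) ‹Smooth N.hom› inferInstance j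
    obtain ⟨x₁, hx₁⟩ := exists_gpt x'
    obtain ⟨z, hz⟩ := exists_lift_centralizer_pt hj.2.2.1 hcz x₁ fun t => by
      refine (cancel_mono i).1 ?_
      rw [hx₁, MonObj.mul_comp, MonObj.mul_comp, ← hx', Category.assoc]
      have h := hx (ι₀ t) ⟨t, rfl⟩
      rw [hval] at h
      have h' := congrArg (fun w => (gpt g)⁻¹ * w * gpt g) h
      simpa only [_root_.mul_assoc, inv_mul_cancel, _root_.mul_one, inv_mul_cancel_left] using h'
    obtain ⟨f₁, hf₁⟩ := exists_lift_cartan_reductive hN hj hcz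
    refine ⟨ι₀ (gpt z ≫ f₁), ⟨_, rfl⟩, ?_⟩
    rw [hval, Category.assoc, ← Category.assoc f₁ j i, hf₁, ← Category.assoc,
      show gpt z ≫ c = x' from (Category.assoc _ _ _).trans ((congrArg (toUnit _ ≫ ·) hz).trans hx₁), ← hx']
    group

set_option maxHeartbeats 800000 in
/-- **A normal subgroup with a torus is trivial or contains all root groups of an indecomposable system.** -/
theorem eq_bot_or_roots_le {N : ℕ} (hN0 : N ≠ 0) (hN : ∀ m, N • m ∈ Submodule.span ℤ (Set.range D.P.root))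
    (hS : ∀ S : Set D.idx, (∀ a ∈ S, ∀ b ∉ S, D.P.pairing a b = 0) → S = ∅ ∨ S = Set.univ)
    (T₀ : Subgroup (VecGrp.pt k K ⟶ D.T)) (hT₀ : ∀ τ ∈ T₀, τ ≫ D.i ∈ H)
    (hdiv : ∀ τ ∈ T₀, ∀ m : ℕ, m ≠ 0 → ∃ σ ∈ T₀, σ ^ m = τ)
    (hcent : ∀ x ∈ H, (∀ τ ∈ T₀, x * (τ ≫ D.i) = (τ ≫ D.i) * x) → ∃ τ ∈ T₀, τ ≫ D.i = x) :
    H = ⊥ ∨ ∀ c (y : VecGrp.pt k K ⟶ Red.Ga (Spec (CommRingCat.of k))), y ≫ D.u c ∈ H := by
  classical
  haveI := D.maximalTorus.1
  set e := (Module.finBasis ℤ D.M).equivFun with he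
  let S : Set D.idx := {c | ∀ y : VecGrp.pt k K ⟶ Red.Ga (Spec (CommRingCat.of k)), y ≫ D.u c ∈ H}
  have hclosed : ∀ a ∈ S, ∀ b ∉ S, D.P.pairing a b = 0 := by
    intro a ha b hb
    by_contra hab
    haveI := (D.rootHom a).1
    haveI := (D.rootHom a).2.1
    haveI : Mono (D.u a) := Over.mono_of_mono_left _
    have hp : D.P.pairing b a ≠ 0 := fun h => hab (D.P.pairing_eq_zero_iff.1 h)
    -- the torus of the subgroup moves the root
    obtain ⟨τ₀, hτ₀, hne⟩ : ∃ τ ∈ T₀, chi (splitChars D) τ (Multiplicative.ofAdd (e (D.P.root a))) ≠ 1 := by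
      by_contra! h
      let y : VecGrp.pt k K ⟶ Red.Ga (Spec (CommRingCat.of k)) :=
        VecGrp.ptMap (R := k) (Polynomial.aeval (1 : K) : Polynomial k →ₐ[k] K) ≫ gaX
      have hy : y ≫ D.u a ≠ 1 := fun h1 => one_ne_zero
        (((ptHom_gaFn_gaX _).trans (Polynomial.aeval_X _)).symm.trans ((root_pt_eq_one_iff K D a y).1 h1))
      obtain ⟨σ, -, hσ⟩ := hcent _ (ha y) fun τ hτ => by
        obtain ⟨y', h1, h2⟩ := conj_root_pt K D τ a y
        rw [h τ hτ, _root_.one_mul] at h2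
        rw [gaFn_pt_ext K h2] at h1
        exact (eq_mul_inv_iff_mul_eq.1 h1)
      obtain ⟨τ, hτ⟩ := exists_not_commute K D a y hy
      exact hτ (by rw [← hσ, ← MonObj.mul_comp, ← MonObj.mul_comp, commute_of_chars (splitChars D) τ σ])
    obtain ⟨σ, hσ, hσp⟩ := hdiv τ₀ hτ₀ _ (Int.natAbs_ne_zero.2 hp)
    obtain ⟨g, hg⟩ := exists_refl_pt K D a
    obtain ⟨σ', hσ', hchi⟩ := hg σ
    have hmem : (σ * σ'⁻¹) ≫ D.i ∈ H := by
      rw [MonObj.mul_comp, GrpObj.inv_comp, ← hσ']
      exact H.mul_mem (hT₀ σ hσ) (H.inv_mem (Subgroup.Normal.conj_mem inferInstance _ (hT₀ σ hσ) g))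
    refine hb (root_le_of_torus K D H hmem b fun h1 => hne ?_)
    -- the value of the root `b`
    let φ := (chi (splitChars D) σ).toHomUnits
    let φ' := (chi (splitChars D) σ').toHomUnits
    have h2 : φ (Multiplicative.ofAdd (e (D.P.root b))) = φ' (Multiplicative.ofAdd (e (D.P.root b))) := by
      have h3 := congrArg (fun τ => chi (splitChars D) τ (Multiplicative.ofAdd (e (D.P.root b))))
        (inv_mul_cancel_right σ σ')
      simp only [chi_mul] at h3 h1
      rw [h1, _root_.one_mul] at h3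
      exact Units.ext h3.symm
    rw [show φ' (Multiplicative.ofAdd (e (D.P.root b))) =
      φ (Multiplicative.ofAdd (e (D.P.reflection a (D.P.root b)))) from Units.ext (hchi _),
      RootPairing.reflection_apply, RootPairing.root_coroot'_eq_pairing, map_sub, map_zsmul, ofAdd_sub, map_div,
      eq_comm, div_eq_self, ofAdd_zsmul, map_zpow] at h2
    have h4 : φ (Multiplicative.ofAdd (e (D.P.root a))) ^ (D.P.pairing b a).natAbs = 1 := by
      rcases Int.natAbs_eq (D.P.pairing b a) with h | h <;> rw [h] at h2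
      · rwa [zpow_natCast] at h2
      · rwa [zpow_neg, inv_eq_one, zpow_natCast] at h2
    rw [← hσp, chi_pow, map_pow]
    exact congrArg Units.val h4
  rcases hS S hclosed with h | h
  · refine Or.inl ((Subgroup.eq_bot_iff_forall _).2 fun x hx => ?_)
    have hkill : ∀ τ ∈ T₀, τ = 1 := fun τ hτ => by
      obtain ⟨σ, hσ, rfl⟩ := hdiv τ hτ N hN0
      refine pow_eq_one_of_kills_roots K D hN σ fun c => ?_
      by_contra hne
      exact (Set.eq_empty_iff_forall_notMem.1 h c) (root_le_of_torus K D H (hT₀ σ hσ) c hne)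
    obtain ⟨τ, hτ, rfl⟩ := hcent x hx fun τ hτ => by
      rw [hkill τ hτ, MonObj.one_comp, _root_.mul_one, _root_.one_mul]
    rw [hkill τ hτ, MonObj.one_comp]
  · exact Or.inr fun c y => (h ▸ Set.mem_univ c : c ∈ S) y

omit H [H.Normal] in
/-- A split group with roots is not commutative. -/
theorem not_comm_of_root (c : D.idx) :
    ¬ ∀ g h : VecGrp.pt k K ⟶ G, g * h = h * g := fun h => by
  let y : VecGrp.pt k K ⟶ Red.Ga (Spec (CommRingCat.of k)) :=
    VecGrp.ptMap (R := k) (Polynomial.aeval (1 : K) : Polynomial k →ₐ[k] K) ≫ gaX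
  obtain ⟨τ, hτ⟩ := exists_not_commute K D c y fun h1 => one_ne_zero
    (((ptHom_gaFn_gaX _).trans (Polynomial.aeval_X _)).symm.trans ((root_pt_eq_one_iff K D c y).1 h1))
  exact hτ (h _ _)

omit H [H.Normal] in
set_option maxHeartbeats 1600000 in
/-- **An indecomposable root system gives an almost simple group, over every algebraically closed extension.** -/
theorem almostSimple_bcK (hG : Red.IsSemisimple G) (hne : Nonempty D.idx)
    (hS : ∀ S : Set D.idx, (∀ a ∈ S, ∀ b ∉ S, D.P.pairing a b = 0) → S = ∅ ∨ S = Set.univ) :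
    (¬ ∀ (X : Over (Spec (CommRingCat.of K))) (g h : X ⟶ bcK K G), g * h = h * g) ∧
      ∀ (N : Over (Spec (CommRingCat.of K))) [GrpObj N] (i : N ⟶ bcK K G) [IsMonHom i],
        IsClosedImmersion i.left → Smooth N.hom → ConnectedSpace ↥N.left → AlgGrp.IsNormalHom i →
        (Red.IsTrivialGrp N ∨ IsIso i) := by
  obtain ⟨c₀⟩ := hne
  refine ⟨fun h => not_comm_of_root K D c₀ fun g g' => toK_injective (by rw [toK_mul, toK_mul, h]),
    fun N _ i _ hic hNs hNc hn => ?_⟩
  haveI := hic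
  haveI := hNs
  haveI := hNc
  haveI := D.maximalTorus.1
  obtain ⟨hGa, hGs, -⟩ := props_of_isReductive D.reductive
  haveI := hGa
  haveI := hGs
  haveI : IsAffine (bcK K G).left := BorelFix21.isAffine_bc _ G
  haveI : Smooth (bcK K G).hom := BorelFix21.smooth_bc _ G
  haveI : IsAffine N.left := isAffine_of_isAffineHom i.left
  haveI : Mono i := Over.mono_of_mono_left i
  have hss := isSemisimpleOver_bcK K D hG
  obtain ⟨N₀, hN0, hN⟩ := exists_exponent D hG
  obtain ⟨hR, hT⟩ := isReductiveOver_bcK K D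
  obtain ⟨T₀, hT₀, hdiv, hcent⟩ := exists_torus_pts hR hT i hn
  haveI : (ptsSub i).Normal := ⟨fun x hx g => by
    obtain ⟨y, rfl⟩ := hx
    obtain ⟨y', hy'⟩ := hn _ g y
    exact ⟨y', hy'.symm⟩⟩
  let H₀ : Subgroup (VecGrp.pt k K ⟶ G) := (ptsSub i).comap (toKEquiv K G).toMonoidHom
  haveI : H₀.Normal := Subgroup.Normal.comap inferInstance _
  have htoK : ∀ (τ : VecGrp.pt k K ⟶ D.T), toKEquiv K D.T τ ≫ bcMap K D.i = toKEquiv K G (τ ≫ D.i) :=
    fun τ => (toK_comp τ D.i).symm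
  have hdich := eq_bot_or_roots_le K D H₀ hN0 hN hS (T₀.comap (toKEquiv K D.T).toMonoidHom)
    (fun τ hτ => by
      obtain ⟨y, hy⟩ := hT₀ _ hτ
      exact ⟨y, hy.trans (htoK τ)⟩)
    (fun τ hτ m hm => by
      obtain ⟨σ, hσ, hσm⟩ := hdiv _ hτ m hm
      refine ⟨(toKEquiv K D.T).symm σ, ?_, ?_⟩
      · show toKEquiv K D.T ((toKEquiv K D.T).symm σ) ∈ T₀
        rwa [MulEquiv.apply_symm_apply]
      · apply (toKEquiv K D.T).injective
        rw [map_pow, MulEquiv.apply_symm_apply]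
        exact hσm)
    (fun x hx hc => by
      obtain ⟨y, hy⟩ := hx
      replace hy : y ≫ i = toKEquiv K G x := hy
      obtain ⟨τ, hτ, hτx⟩ := hcent y fun τ hτ => by
        obtain ⟨σ, rfl⟩ := (toKEquiv K D.T).surjective τ
        rw [hy, htoK, ← map_mul, ← map_mul, hc σ hτ]
      obtain ⟨σ, rfl⟩ := (toKEquiv K D.T).surjective τ
      exact ⟨σ, hτ, (toKEquiv K G).injective (by rw [← htoK, hτx, hy])⟩)
  rcases hdich with h | h
  · refine Or.inl (isTrivialGrp_of_pts fun x => (cancel_mono i).1 ?_)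
    rw [MonObj.one_comp]
    obtain ⟨g, hg⟩ := (toKEquiv K G).surjective (x ≫ i)
    have hgH : g ∈ H₀ := ⟨x, hg.symm⟩
    rw [h, Subgroup.mem_bot] at hgH
    rw [← hg, hgH, map_one]
  · have htop := roots_eq_top K D hss H₀ h
    obtain ⟨f, hf⟩ := exists_lift_of_pts i (𝟙 (bcK K G)) fun z => by
      obtain ⟨g, rfl⟩ := (toKEquiv K G).surjective z
      obtain ⟨y, hy⟩ : g ∈ H₀ := htop ▸ Subgroup.mem_top g
      exact ⟨y, hy.trans (Category.comp_id _).symm⟩
    exact Or.inr ⟨f, (cancel_mono i).1 (by rw [Category.assoc, hf, Category.comp_id, Category.id_comp]), hf⟩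

omit H [H.Normal] in
set_option maxHeartbeats 800000 in
/-- An indecomposable root system gives an almost simple group. -/
theorem almostSimple_of_indecomposable (hG : Red.IsSemisimple G) (hne : Nonempty D.idx)
    (hS : ∀ S : Set D.idx, (∀ a ∈ S, ∀ b ∉ S, D.P.pairing a b = 0) → S = ∅ ∨ S = Set.univ) :
    (¬ ∀ (X : Over (Spec (CommRingCat.of k))) (g h : X ⟶ G), g * h = h * g) ∧
      ∀ (N : Over (Spec (CommRingCat.of k))) [GrpObj N] (i : N ⟶ G) [IsMonHom i],
        IsClosedImmersion i.left → Smooth N.hom → ConnectedSpace ↥N.left → AlgGrp.IsNormalHom i →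
        (Red.IsTrivialGrp N ∨ IsIso i) := by
  refine ⟨fun h => not_comm_of_root (AlgebraicClosure k) D hne.some (fun g g' => h _ g g'), ?_⟩
  intro N _ i _ hic hNs hNc hn
  haveI := hic
  haveI := hNs
  haveI := hNc
  obtain ⟨hGa, hGs, -⟩ := props_of_isReductive D.reductive
  haveI := hGa
  haveI := hGs
  rcases (almostSimple_bcK (AlgebraicClosure k) D hG hne hS).2 (bcK _ N) (bcMap _ i)
    (BorelFix21.isClosedImmersion_bc _ i) (BorelFix21.smooth_bc _ N) (BorelFix21.connectedSpace_bc _ N)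
    (TorPts21.isNormalHom_bc _ hn) with h | h
  · exact Or.inl (isTrivialGrp_of_bc _ h)
  · haveI := h
    haveI : Mono i := Over.mono_of_mono_left i
    obtain ⟨f, hf⟩ := exists_lift_of_Kpts (K := AlgebraicClosure k) i (𝟙 G) fun x => by
      obtain ⟨z, hz⟩ := exists_toK (toK x ≫ inv (bcMap (AlgebraicClosure k) i))
      exact ⟨z, toK_injective (by rw [toK_comp, hz, Category.assoc, IsIso.inv_hom_id, Category.comp_id,
        Category.comp_id])⟩
    exact Or.inr ⟨f, (cancel_mono i).1 (by rw [Category.assoc, hf, Category.comp_id, Category.id_comp]), hf⟩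

omit H [H.Normal] in
/-- Root groups of separated components commute universally. -/
theorem commute_universal (S : Set D.idx) (hS : ∀ a ∈ S, ∀ b ∉ S, D.P.pairing a b = 0) {c₁ c₂ : D.idx}
    (h₁ : c₁ ∈ S) (h₂ : c₂ ∉ S) (X : Over (Spec (CommRingCat.of k)))
    (x y : X ⟶ Red.Ga (Spec (CommRingCat.of k))) :
    (x ≫ D.u c₁) * (y ≫ D.u c₂) = (y ≫ D.u c₂) * (x ≫ D.u c₁) := by
  let P := Red.Ga (Spec (CommRingCat.of k)) ⊗ Red.Ga (Spec (CommRingCat.of k))
  haveI := (smooth_affine_Ga k).1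
  haveI : IsAffine P.left := inferInstanceAs (IsAffine (Limits.pullback
    (Red.Ga (Spec (CommRingCat.of k))).hom (Red.Ga (Spec (CommRingCat.of k))).hom))
  have key : (fst _ _ ≫ D.u c₁) * (snd _ _ ≫ D.u c₂) = (snd _ _ ≫ D.u c₂) * ((fst _ _ : P ⟶ _) ≫ D.u c₁) := by
    haveI : IsIso (InvRing21.uPt P).left := inferInstanceAs (IsIso P.left.isoSpec.inv)
    haveI : IsIso ((Over.forget _).map (InvRing21.uPt P)) := ‹_›
    haveI : IsIso (InvRing21.uPt P) := isIso_of_reflects_iso _ (Over.forget _)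
    refine (cancel_epi (InvRing21.uPt P)).1 ?_
    rw [MonObj.comp_mul, MonObj.comp_mul, ← Category.assoc, ← Category.assoc]
    exact commute_of_separated D S hS h₁ h₂ _ _
  have h := congrArg (lift x y ≫ ·) key
  simpa only [MonObj.comp_mul, lift_fst_assoc, lift_snd_assoc] using h

omit H [H.Normal] in
set_option maxHeartbeats 1600000 in
/-- **An almost simple split group has an indecomposable root system.** -/
theorem indecomposable_of_almostSimple (hG : Red.IsSemisimple G)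
    (h : (¬ ∀ (X : Over (Spec (CommRingCat.of k))) (g h : X ⟶ G), g * h = h * g) ∧
      ∀ (N : Over (Spec (CommRingCat.of k))) [GrpObj N] (i : N ⟶ G) [IsMonHom i],
        IsClosedImmersion i.left → Smooth N.hom → ConnectedSpace ↥N.left → AlgGrp.IsNormalHom i →
        (Red.IsTrivialGrp N ∨ IsIso i)) :
    Nonempty D.idx ∧ ∀ S : Set D.idx, (∀ a ∈ S, ∀ b ∉ S, D.P.pairing a b = 0) → S = ∅ ∨ S = Set.univ := by
  classical
  haveI := D.maximalTorus.1
  haveI := D.maximalTorus.2.1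
  obtain ⟨hGa, hGs, hGc⟩ := props_of_isReductive D.reductive
  haveI := hGa
  haveI := hGs
  haveI := hGc
  refine ⟨?_, fun S hS => ?_⟩
  · by_contra hne
    haveI : IsClosedImmersion D.i.left := MTRigid29.isClosedImmersion_of_mono
      (isMultTypeFT_of_isTorus D.maximalTorus.2.2.1) D.reductive.1 D.i
    haveI := isIso_of_roots D hG D.i fun c => absurd ⟨c⟩ hne
    haveI : IsMonHom (inv D.i ≫ D.i) := by rw [IsIso.inv_hom_id]; infer_instance
    haveI := isMonHom_of_comp_mono' (inv D.i) D.i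
    refine h.1 fun X g g' => ?_
    have e : ∀ z : X ⟶ G, z = (z ≫ inv D.i) ≫ D.i := fun z => by
      rw [Category.assoc, IsIso.inv_hom_id, Category.comp_id]
    have e2 : ∀ z z' : X ⟶ G, z * z' = ((z ≫ inv D.i) * (z' ≫ inv D.i)) ≫ D.i := fun z z' => by
      rw [MonObj.mul_comp, ← e, ← e]
    rw [e2 g g', e2 g' g, commute_of_chars (splitChars D) (g ≫ inv D.i) (g' ≫ inv D.i)]
  by_contra! hne
  obtain ⟨⟨a, ha⟩, hne₂⟩ := hne
  obtain ⟨b, hb⟩ := (Set.ne_univ_iff_exists_notMem S).1 hne₂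
  let K := AlgebraicClosure k
  let Ga := Red.Ga (Spec (CommRingCat.of k))
  -- the normal subgroup generated by the conjugates of one root group
  let φ : G ⊗ Ga ⟶ G := fst G Ga * (snd G Ga ≫ D.u a) * (fst G Ga)⁻¹
  haveI : IsAffine Ga.left := (smooth_affine_Ga k).1
  haveI : Smooth Ga.hom := (smooth_affine_Ga k).2.1
  haveI : ConnectedSpace Ga.left := (smooth_affine_Ga k).2.2
  haveI : IsAffine (G ⊗ Ga).left := inferInstanceAs (IsAffine (Limits.pullback G.hom Ga.hom))
  haveI : Smooth (G ⊗ Ga).hom := inferInstanceAs (Smooth (Limits.pullback.fst G.hom Ga.hom ≫ G.hom))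
  haveI : GeometricallyReduced G.hom := AbRigid.geometricallyReduced_of_smooth G.hom
  haveI : GeometricallyReduced Ga.hom := AbRigid.geometricallyReduced_of_smooth Ga.hom
  haveI : GeometricallyReduced (G ⊗ Ga).hom := GrpGen20.geometricallyReduced_tensorObj _ _
  haveI : GeometricallyConnected G.hom := GrpGen20.geometricallyConnected_of_connected G
  haveI : ConnectedSpace (G ⊗ Ga).left := inferInstanceAs (ConnectedSpace ↥(Limits.pullback G.hom Ga.hom))
  obtain ⟨N, _, i, him, hic, ⟨f', hf'⟩, hgr, hrange, hmin⟩ := GrpGen20.exists_generated φ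
  haveI := him
  haveI := hic
  haveI := hgr
  haveI : Mono i := Over.mono_of_mono_left i
  haveI : LocallyOfFiniteType N.hom := by rw [← Over.w i]; infer_instance
  haveI : IsReduced (pullback N.hom (Spec.map (CommRingCat.ofHom (algebraMap k (AlgebraicClosure k))))) :=
    GeometricallyReduced.geometrically_isReduced _ _ _ (IsPullback.of_hasPullback _ _)
  haveI : Smooth N.hom := GrpSmooth19.smooth_of_isReduced_baseChange N (AlgebraicClosure k)
  haveI := (D.rootHom a).1
  have hφ : ∀ {T : Over (Spec (CommRingCat.of k))} (g : T ⟶ G) (y : T ⟶ Ga),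
      lift g y ≫ φ = g * (y ≫ D.u a) * g⁻¹ := fun g y => by
    simp only [φ, MonObj.comp_mul, GrpObj.comp_inv, lift_fst, lift_snd_assoc]
  haveI : ConnectedSpace N.left := by
    have hone : lift (1 : 𝟙_ (Over (Spec (CommRingCat.of k))) ⟶ G) (1 : _ ⟶ Ga) ≫ φ = η[G] := by
      rw [hφ, MonObj.one_comp]
      simp [Hom.one_def]
    have hc : _root_.IsPreconnected (Set.range i.left) := by
      rw [hrange]; exact (GrpGen20.isPreconnected_genSet φ _ hone).closure
    haveI : Nonempty N.left := ⟨η[N].left (IsLocalRing.closedPoint k)⟩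
    haveI : PreconnectedSpace N.left := ⟨by
      rw [← i.left.isClosedEmbedding.isInducing.isPreconnected_image, Set.image_univ]; exact hc⟩
    exact ⟨inferInstance⟩
  have hgen : ∀ (E : Over (Spec (CommRingCat.of k))) (_ : GrpObj E) (c : E ⟶ N), IsMonHom c →
      IsClosedImmersion c.left → (∃ f'' : G ⊗ Ga ⟶ E, f'' ≫ c = f') →
      ∀ (T : Over (Spec (CommRingCat.of k))) (g : T ⟶ N), ∃ z, z ≫ c = g := by
    intro E hE c hc1 hc2 hc3 T g
    obtain ⟨d, hd⟩ := hc3
    haveI := hc2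
    haveI : IsClosedImmersion (c ≫ i).left := by rw [Over.comp_left]; infer_instance
    obtain ⟨l, hl⟩ := hmin E hE (c ≫ i) inferInstance inferInstance ⟨d, by rw [← Category.assoc, hd, hf']⟩
    exact ⟨g ≫ l, by rw [← cancel_mono i, Category.assoc, Category.assoc, hl]⟩
  have hnorm : AlgGrp.IsNormalHom i := Derived21.isNormalHom_of_generated i f' hgen fun T y g => by
    refine ⟨lift (g * (y ≫ fst G Ga)) (y ≫ snd G Ga) ≫ f', ?_⟩
    rw [Category.assoc, hf', hφ, Category.assoc y f' i, hf',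
      show y = lift (y ≫ fst G Ga) (y ≫ snd G Ga) by simp [← comp_lift], hφ, lift_fst, lift_snd]
    simp only [_root_.mul_assoc, mul_inv_rev]
  -- it centralises the root group outside
  obtain ⟨C, _, c, hcm, hcc, hC⟩ := GrpTrans20.exists_centralizer (D.u b)
  haveI := hcm
  haveI := hcc
  let gens : Set (VecGrp.pt k K ⟶ G) := {x | ∃ s ∈ S, ∃ y, y ≫ D.u s = x}
  let H₁ := Subgroup.closure gens
  let ιC : (VecGrp.pt k K ⟶ C) →* (VecGrp.pt k K ⟶ G) :=
    MonoidHom.mk' (fun z => z ≫ c) fun x y => MonObj.mul_comp x y c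
  have hle : H₁ ≤ ιC.range := (Subgroup.closure_le _).2 (by
    rintro _ ⟨s, hs, y, rfl⟩
    exact (hC _ _).2 fun X' x' z => by
      rw [← Category.assoc]
      exact commute_universal D S hS hs hb X' (x' ≫ y) z)
  haveI : H₁.Normal := by
    refine Subgroup.normalizer_eq_top_iff.1 (torus_roots_eq_top K D (isSemisimpleOver_bcK K D hG).1 _ ?_ ?_)
    · have h1 : ∀ (τ : VecGrp.pt k K ⟶ D.T) x, x ∈ H₁ → (τ ≫ D.i) * x * (τ ≫ D.i)⁻¹ ∈ H₁ := by
        intro τ x hx
        induction hx using Subgroup.closure_induction with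
        | mem x hx =>
          obtain ⟨s, hs, y, rfl⟩ := hx
          obtain ⟨y', hy', -⟩ := conj_root_pt K D τ s y
          exact Subgroup.subset_closure ⟨s, hs, y', hy'⟩
        | one => simp [H₁.one_mem]
        | mul x y _ _ ihx ihy => simpa only [← conj_mul] using H₁.mul_mem ihx ihy
        | inv x _ ih => simpa only [← conj_inv] using H₁.inv_mem ih
      intro τ
      refine Subgroup.mem_normalizer_iff.2 fun x => ⟨h1 τ x, fun hx => ?_⟩
      have h2 := h1 τ⁻¹ _ hx
      rw [GrpObj.inv_comp] at h2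
      simpa [_root_.mul_assoc] using h2
    · intro s z
      by_cases hs : s ∈ S
      · exact Subgroup.le_normalizer (Subgroup.subset_closure ⟨s, hs, z, rfl⟩)
      · have hcen : ∀ x ∈ H₁, Commute (z ≫ D.u s) x := fun x hx => by
          induction hx using Subgroup.closure_induction with
          | mem x hx =>
            obtain ⟨s', hs', y, rfl⟩ := hx
            exact (commute_of_separated D S hS hs' hs y z).symm
          | one => exact Commute.one_right _
          | mul x y _ _ ihx ihy => exact ihx.mul_right ihy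
          | inv x _ ih => exact ih.inv_right
        refine Subgroup.mem_normalizer_iff.2 fun x => ⟨fun hx => ?_, fun hx => ?_⟩
        · rw [(hcen x hx).eq, mul_inv_cancel_right]; exact hx
        · have e := (hcen _ hx).eq
          rw [_root_.mul_assoc _ (z ≫ D.u s)⁻¹, inv_mul_cancel, _root_.mul_one] at e
          have e' : (z ≫ D.u s) * x * (z ≫ D.u s)⁻¹ = x := mul_left_cancel (a := z ≫ D.u s)
            (e.trans (by group))
          rwa [e'] at hx
  obtain ⟨f₂, hf₂⟩ := exists_lift_of_Kpts (K := K) c φ fun p => by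
    have hp : p ≫ φ ∈ H₁ := by
      rw [show p = lift (p ≫ fst G Ga) (p ≫ snd G Ga) by simp [← comp_lift], hφ]
      exact Subgroup.Normal.conj_mem inferInstance _
        (Subgroup.subset_closure (show (p ≫ snd G Ga) ≫ D.u a ∈ gens from ⟨a, ha, _, rfl⟩)) _
    exact hle hp
  rcases h.2 N i hic inferInstance inferInstance hnorm with ht | ht
  · have hu : ∀ y : VecGrp.pt k K ⟶ Ga, y ≫ D.u a = 1 := fun y => by
      have e : lift (1 : VecGrp.pt k K ⟶ G) y ≫ φ = y ≫ D.u a := by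
        rw [hφ, _root_.one_mul, inv_one, _root_.mul_one]
      rw [← e, ← hf', ← Category.assoc, TorPts21.eq_one_of_isTrivialGrp ht (_ ≫ f'), MonObj.one_comp]
    exact exists_root_ne_one K D a (hu _)
  · obtain ⟨l, hl⟩ := hmin C inferInstance c inferInstance inferInstance ⟨f₂, hf₂⟩
    obtain ⟨τ, hτ⟩ := exists_not_commute K D b _ (exists_root_ne_one K D b)
    haveI := ht
    have h2 := (hC _ (τ ≫ D.i)).1 ⟨(τ ≫ D.i) ≫ inv i ≫ l, by
      simp only [Category.assoc, hl, IsIso.inv_hom_id, Category.comp_id]⟩ _ (𝟙 _)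
      (VecGrp.ptMap (R := k) (Polynomial.aeval (1 : K) : Polynomial k →ₐ[k] K) ≫ gaX)
    rw [Category.id_comp] at h2
    exact hτ h2

end Groth.Agent.AttrBorel21
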