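import Groth.Agent.Lib.AttrBorel21.MaxSep
import Groth.Agent.Lib.TorPts21.GenPoints
import Groth.Agent.Lib.TorPts21.ReductiveCartanField

/-!
# Over separably closed fields the maximal tori generate, and their intersection is the centre
-/

set_option autoImplicit false
set_option linter.style.haveILetI false
set_option backward.isDefEq.respectTransparency.types false
universe u

open CategoryTheory Limits MonoidalCategory CartesianMonoidalCategory MonObj AlgebraicGeometry
open scoped TensorProduct

noncomputable section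

namespace Groth.Agent.AttrBorel21

open InvRing21 DiagGL TorPts21

attribute [local instance] InvRing21.gamAlg BorelFix21.ptsTop

section Gen

variable {k : Type u} [Field k]

/-- An element of a tensor product killed by evaluations at a separating set of points vanishes. -/
theorem eq_of_forall_eval_sep {A B : Type u} [CommRing A] [Algebra k A] [CommRing B] [Algebra k B]
    (S : Set (B →ₐ[k] k)) (hS : ∀ b : B, b ≠ 0 → ∃ χ ∈ S, χ b ≠ 0) {z z' : A ⊗[k] B}
    (h : ∀ χ ∈ S, (Algebra.TensorProduct.lift (AlgHom.id k A) ((Algebra.ofId k A).comp χ)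
      (fun _ _ => Commute.all _ _)) z = (Algebra.TensorProduct.lift (AlgHom.id k A) ((Algebra.ofId k A).comp χ)
      (fun _ _ => Commute.all _ _)) z') : z = z' := by
  classical
  let bA := Module.Free.chooseBasis k A
  let e := TensorProduct.equivFinsuppOfBasisLeft (N := B) bA
  refine e.injective (Finsupp.ext fun i => ?_)
  by_contra hne
  obtain ⟨χ, hχS, hχ⟩ := hS _ (sub_ne_zero.2 hne)
  refine hχ ?_
  have key : ∀ w : A ⊗[k] B, χ (e w i) =
      bA.repr ((Algebra.TensorProduct.lift (AlgHom.id k A) ((Algebra.ofId k A).comp χ)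
        (fun _ _ => Commute.all _ _)) w) i := by
    intro w
    induction w using TensorProduct.induction_on with
    | zero => simp
    | tmul a b =>
      rw [TensorProduct.equivFinsuppOfBasisLeft_apply_tmul_apply, Algebra.TensorProduct.lift_tmul]
      simp only [AlgHom.coe_id, id_eq, AlgHom.comp_apply, Algebra.ofId_apply]
      rw [map_smul, smul_eq_mul, ← Algebra.commutes, ← Algebra.smul_def, map_smul, Finsupp.smul_apply, smul_eq_mul,
        mul_comm]
    | add x y hx hy => rw [map_add, Finsupp.add_apply, map_add, hx, hy, map_add, map_add, Finsupp.add_apply]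
  rw [map_sub, key, key, h χ hχS, sub_self]

/-- Morphisms to an affine scheme are determined by their values. -/
theorem ext_of_val' {A : Type u} [CommRing A] [Algebra k A] {Z : Over (Spec (CommRingCat.of k))} [IsAffine Z.left]
    {p q : VecGrp.pt k A ⟶ Z} (h : InvRing21.val p = InvRing21.val q) : p = q := by
  refine Over.OverMorphism.ext (ext_of_isAffine (CommRingCat.hom_ext (RingHom.ext fun F => ?_)))
  exact (Scheme.ΓSpecIso (CommRingCat.of A)).commRingCatIsoToRingEquiv.injective (DFunLike.congr_fun h F)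

variable {X Y Z : Over (Spec (CommRingCat.of k))} [IsAffine Z.left]

set_option maxHeartbeats 1600000 in
/-- Morphisms from a product agreeing at a separating set of rational points of the second factor agree. -/
theorem eq_of_forall_pt_sep_affine [IsAffine X.left] [IsAffine Y.left] (P : (VecGrp.pt k k ⟶ Y) → Prop)
    (hP : ∀ F : Γ(Y.left, ⊤), F ≠ 0 → ∃ y, P y ∧ InvRing21.val y F ≠ 0) (f g : X ⊗ Y ⟶ Z)
    (h : ∀ y, P y → lift (𝟙 X) (InvRing21.toPt X ≫ y) ≫ f = lift (𝟙 X) (InvRing21.toPt X ≫ y) ≫ g) :
    f = g := by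
  let A := Γ(X.left, ⊤)
  let B := Γ(Y.left, ⊤)
  let Q := VecGrp.pt k (A ⊗[k] B)
  let e : Q ⟶ X ⊗ Y := lift
    (VecGrp.ptMap (Algebra.TensorProduct.includeLeft : A →ₐ[k] A ⊗[k] B) ≫ InvRing21.uPt X)
    (VecGrp.ptMap (Algebra.TensorProduct.includeRight : B →ₐ[k] A ⊗[k] B) ≫ InvRing21.uPt Y)
  haveI : IsIso (InvRing21.uPt X).left := inferInstanceAs (IsIso X.left.isoSpec.inv)
  haveI : IsIso (InvRing21.uPt Y).left := inferInstanceAs (IsIso Y.left.isoSpec.inv)
  haveI : IsIso (pullback.map (Spec.map (CommRingCat.ofHom (algebraMap k A)))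
      (Spec.map (CommRingCat.ofHom (algebraMap k B))) X.hom Y.hom (InvRing21.uPt X).left (InvRing21.uPt Y).left (𝟙 _)
      ((Category.comp_id _).trans (Over.w (InvRing21.uPt X)).symm)
      ((Category.comp_id _).trans (Over.w (InvRing21.uPt Y)).symm)) := inferInstance
  have he : e.left = (pullbackSpecIso k A B).inv ≫ pullback.map (Spec.map (CommRingCat.ofHom (algebraMap k A)))
      (Spec.map (CommRingCat.ofHom (algebraMap k B))) X.hom Y.hom (InvRing21.uPt X).left (InvRing21.uPt Y).left (𝟙 _)
      ((Category.comp_id _).trans (Over.w (InvRing21.uPt X)).symm)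
      ((Category.comp_id _).trans (Over.w (InvRing21.uPt Y)).symm) := by
    refine pullback.hom_ext ?_ ?_
    · rw [Over.lift_left, pullback.lift_fst, Category.assoc, pullback.map, pullback.lift_fst,
        pullbackSpecIso_inv_fst_assoc]
      rfl
    · rw [Over.lift_left, pullback.lift_snd, Category.assoc, pullback.map, pullback.lift_snd,
        pullbackSpecIso_inv_snd_assoc]
      rfl
  haveI : IsIso e.left := by rw [he]; exact IsIso.comp_isIso
  haveI : IsIso ((Over.forget _).map e) := inferInstanceAs (IsIso e.left)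
  haveI : IsIso e := isIso_of_reflects_iso e (Over.forget _)
  refine (cancel_epi e).1 (ext_of_val' ?_)
  refine AlgHom.ext fun F => eq_of_forall_eval_sep {χ | P (VecGrp.ptMap χ ≫ InvRing21.uPt Y)} (fun b hb => ?_)
    fun χ hχ => ?_
  · obtain ⟨y, hy, hyb⟩ := hP b hb
    refine ⟨InvRing21.val y, ?_, hyb⟩
    show P _
    rwa [show VecGrp.ptMap (InvRing21.val y) ≫ InvRing21.uPt Y = y from ext_of_val' (by
      rw [InvRing21.val_ptMap, InvRing21.val_uPt, AlgHom.comp_id])]
  have hy : VecGrp.ptMap (Algebra.TensorProduct.lift (AlgHom.id k A) ((Algebra.ofId k A).comp χ)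
      (fun _ _ => Commute.all _ _)) ≫ e =
      InvRing21.uPt X ≫ lift (𝟙 X) (InvRing21.toPt X ≫ VecGrp.ptMap χ ≫ InvRing21.uPt Y) := by
    refine CartesianMonoidalCategory.hom_ext _ _ ?_ ?_
    · simp only [e, Category.assoc, lift_fst]
      rw [← Category.assoc, InvRing21.ptMap_comp, Algebra.TensorProduct.lift_comp_includeLeft,
        show VecGrp.ptMap (AlgHom.id k A) = 𝟙 (VecGrp.pt k A) from Over.OverMorphism.ext (by
          show Spec.map (CommRingCat.ofHom (AlgHom.id k A).toRingHom) = 𝟙 _
          exact Spec.map_id _), Category.id_comp, Category.comp_id]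
    · simp only [e, Category.assoc, lift_snd]
      have hr : (Algebra.TensorProduct.lift (AlgHom.id k A) ((Algebra.ofId k A).comp χ)
          (fun _ _ => Commute.all _ _)).comp Algebra.TensorProduct.includeRight = (Algebra.ofId k A).comp χ :=
        AlgHom.ext fun b => by simp
      rw [← Category.assoc, InvRing21.ptMap_comp, hr, ← InvRing21.ptMap_comp, Category.assoc,
        ← Category.assoc (InvRing21.uPt X), InvRing21.hom_ext_toPt (InvRing21.uPt X ≫ InvRing21.toPt X)
          (VecGrp.ptMap (Algebra.ofId k A))]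
  have h1 := congrArg (InvRing21.uPt X ≫ ·) (h (VecGrp.ptMap χ ≫ InvRing21.uPt Y) hχ)
  simp only [← Category.assoc] at h1
  rw [show InvRing21.uPt X ≫ lift (𝟙 X) ((InvRing21.toPt X ≫ VecGrp.ptMap χ) ≫ InvRing21.uPt Y) =
    VecGrp.ptMap (Algebra.TensorProduct.lift (AlgHom.id k A) ((Algebra.ofId k A).comp χ)
      (fun _ _ => Commute.all _ _)) ≫ e from by rw [hy, Category.assoc (InvRing21.toPt X)]] at h1
  have h2 := congrArg (fun q : VecGrp.pt k A ⟶ Z => InvRing21.val q F) h1
  simp only [Category.assoc, InvRing21.val_ptMap, AlgHom.comp_apply] at h2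
  exact h2

set_option maxHeartbeats 800000 in
/-- Morphisms from a product agreeing at a separating set of rational points of the second factor agree. -/
theorem eq_of_forall_pt_sep [IsAffine Y.left] (P : (VecGrp.pt k k ⟶ Y) → Prop)
    (hP : ∀ F : Γ(Y.left, ⊤), F ≠ 0 → ∃ y, P y ∧ InvRing21.val y F ≠ 0) (f g : X ⊗ Y ⟶ Z)
    (h : ∀ y, P y → lift (𝟙 X) (InvRing21.toPt X ≫ y) ≫ f = lift (𝟙 X) (InvRing21.toPt X ≫ y) ≫ g) :
    f = g := by
  refine Over.OverMorphism.ext ((Scheme.Pullback.openCoverOfLeft X.left.affineCover X.hom Y.hom).hom_ext _ _ fun i => ?_)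
  let U : Over (Spec (CommRingCat.of k)) := Over.mk (X.left.affineCover.f i ≫ X.hom)
  haveI : IsAffine U.left := inferInstanceAs (IsAffine (X.left.affineCover.X i))
  let j : U ⟶ X := Over.homMk (X.left.affineCover.f i) rfl
  have h1 : (j ▷ Y) ≫ f = (j ▷ Y) ≫ g := eq_of_forall_pt_sep_affine P hP _ _ fun y hy => by
    have e : lift (𝟙 U) (InvRing21.toPt U ≫ y) ≫ (j ▷ Y) = j ≫ lift (𝟙 X) (InvRing21.toPt X ≫ y) := by
      refine CartesianMonoidalCategory.hom_ext _ _ ?_ ?_
      · simp
      · simp [← Category.assoc, InvRing21.comp_toPt]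
    rw [reassoc_of% e, reassoc_of% e, h y hy]
  have h2 := congrArg CommaMorphism.left h1
  have e2 : (j ▷ Y).left = (Scheme.Pullback.openCoverOfLeft X.left.affineCover X.hom Y.hom).f i := by
    refine pullback.hom_ext ?_ ?_
    · rw [Over.whiskerRight_left_fst]
      exact (pullback.lift_fst _ _ _).symm
    · rw [Over.whiskerRight_left_snd]
      exact ((pullback.lift_snd _ _ _).trans (Category.comp_id _)).symm
  simp only [Over.comp_left, e2] at h2
  exact h2

end Gen

section SepClosed

variable {k : Type u} [Field k] [IsSepClosed k] {G : Over (Spec (CommRingCat.of k))} [GrpObj G]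

omit [IsSepClosed k] in
/-- A reductive group over a field is irreducible. -/
theorem irreducibleSpace_of_isReductive (hG : Red.IsReductive G) : IrreducibleSpace G.left := by
  let s : ↥(Spec (CommRingCat.of k)) := IsLocalRing.closedPoint k
  obtain ⟨hR₁, hR₂, hR₃, -⟩ := hG.2.2 s
  haveI := hR₁
  haveI := hR₂
  haveI := hR₃
  haveI : IrreducibleSpace (Red.geomFibre s G).left := AbRigid.irreducibleSpace_of_isAlgClosed _
  let π : (Red.geomFibre s G).left ⟶ G.left := pullback.fst G.hom (Red.geomPt s)
  haveI : Surjective (Red.geomPt s) := ⟨fun z => ⟨IsLocalRing.closedPoint _, Subsingleton.elim _ _⟩⟩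
  haveI : Surjective π := inferInstanceAs (Surjective (pullback.fst G.hom (Red.geomPt s)))
  exact π.surjective.irreducibleSpace π.continuous

/-- The regular rational points separate the functions. -/
theorem exists_regular_val_ne_zero (hG : Red.IsReductive G) (U : G.left.Opens) (hU : (U : Set G.left).Nonempty)
    (F : Γ(G.left, ⊤)) (hF : F ≠ 0) :
    ∃ g : 𝟙_ (Over (Spec (CommRingCat.of k))) ⟶ G,
      g.left (IsLocalRing.closedPoint k) ∈ U ∧ InvRing21.val (toUnit (VecGrp.pt k k) ≫ g) F ≠ 0 := by
  obtain ⟨hGa, hGs, hGc⟩ := props_of_isReductive hG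
  haveI := hGa
  haveI := hGs
  haveI := irreducibleSpace_of_isReductive hG
  haveI := OrbitTop19.isReduced_of_smooth G.hom
  have hb : (G.left.basicOpen F : Set G.left).Nonempty := by
    rw [Set.nonempty_iff_ne_empty]
    intro h
    exact hF ((basicOpen_eq_bot_iff F).1 (TopologicalSpace.Opens.ext h))
  obtain ⟨g, hg⟩ := exists_kpt_open (U ⊓ G.left.basicOpen F)
    (nonempty_preirreducible_inter U.2 (G.left.basicOpen F).2 hU hb)
  refine ⟨g, hg.1, fun h0 => ?_⟩
  let y := toUnit (VecGrp.pt k k) ≫ g
  have e : y.left (IsLocalRing.closedPoint k) = g.left (IsLocalRing.closedPoint k) :=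
    congrArg g.left (Subsingleton.elim (α := PrimeSpectrum k) _ _)
  have h2 : y.left (IsLocalRing.closedPoint k) ∈ G.left.basicOpen F := e.symm ▸ hg.2
  have h3 : IsLocalRing.closedPoint k ∈ (VecGrp.pt k k).left.basicOpen (y.left.appTop F) := by
    rw [← Scheme.preimage_basicOpen_top]
    exact h2
  rw [show y.left.appTop F = 0 from InvRing21.ptHom_injective k (h0.trans (map_zero _).symm),
    Scheme.basicOpen_zero] at h3
  exact h3

/-- A closed subgroup containing all maximal tori is everything. -/
theorem isIso_of_forall_maximalTorus (hG : Red.IsReductive G) {H : Over (Spec (CommRingCat.of k))}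
    (i : H ⟶ G) (hi : IsClosedImmersion i.left)
    (hH : ∀ (T : Over (Spec (CommRingCat.of k))) [GrpObj T] (iT : T ⟶ G), Red.IsMaximalTorus iT →
      ∃ t : T ⟶ H, t ≫ i = iT) : IsIso i := by
  obtain ⟨hGa, hGs, hGc⟩ := props_of_isReductive hG
  haveI := hGs
  haveI := hi
  haveI := irreducibleSpace_of_isReductive hG
  haveI := OrbitTop19.isReduced_of_smooth G.hom
  obtain ⟨U, hU, hreg⟩ := exists_open_maximalTorus_centralizer hG
  have hsurj : Function.Surjective i.left := by
    intro z
    by_contra hz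
    let V : G.left.Opens := ⟨(Set.range i.left)ᶜ, i.left.isClosedEmbedding.isClosed_range.isOpen_compl⟩
    obtain ⟨g, hg⟩ := exists_kpt_open (U ⊓ V) (nonempty_preirreducible_inter U.2 V.2 hU ⟨z, hz⟩)
    obtain ⟨T, _, iT, hT, hcen⟩ := hreg g hg.1
    obtain ⟨y, hy⟩ := (hcen.2.2 _ g).2 fun X' x h => by
      rw [show x = h from toUnit_unique _ _]
    obtain ⟨t, ht⟩ := hH T iT hT
    refine hg.2 ⟨(y ≫ t).left (IsLocalRing.closedPoint k), ?_⟩
    rw [← ht, ← Category.assoc] at hy
    exact congrArg (fun q : 𝟙_ (Over (Spec (CommRingCat.of k))) ⟶ G => q.left (IsLocalRing.closedPoint k)) hy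
  haveI : Surjective i.left := ⟨hsurj⟩
  haveI : IsIso i.left := isIso_of_isClosedImmersion_of_surjective i.left
  haveI : IsIso ((Over.forget _).map i) := inferInstanceAs (IsIso i.left)
  exact isIso_of_reflects_iso i (Over.forget _)

/-- What lies in every maximal torus is central. -/
theorem comm_of_forall_maximalTorus (hG : Red.IsReductive G) {X : Over (Spec (CommRingCat.of k))} (g : X ⟶ G)
    (hg : ∀ (T : Over (Spec (CommRingCat.of k))) [GrpObj T] (iT : T ⟶ G), Red.IsMaximalTorus iT →
      ∃ t : X ⟶ T, t ≫ iT = g)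
    (X' : Over (Spec (CommRingCat.of k))) (x : X' ⟶ X) (t : X' ⟶ G) : (x ≫ g) * t = t * (x ≫ g) := by
  obtain ⟨hGa, hGs, hGc⟩ := props_of_isReductive hG
  haveI := hGa
  obtain ⟨U, hU, hreg⟩ := exists_open_maximalTorus_centralizer hG
  have key : (fst X G ≫ g) * snd X G = snd X G * (fst X G ≫ g) := by
    refine eq_of_forall_pt_sep (fun y => ∃ h : 𝟙_ (Over (Spec (CommRingCat.of k))) ⟶ G,
      h.left (IsLocalRing.closedPoint k) ∈ U ∧ toUnit _ ≫ h = y) (fun F hF => ?_) _ _ fun y hy => ?_
    · obtain ⟨h, hh, hh'⟩ := exists_regular_val_ne_zero hG U hU F hF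
      exact ⟨_, ⟨h, hh, rfl⟩, hh'⟩
    · obtain ⟨h, hh, rfl⟩ := hy
      obtain ⟨T, _, iT, hT, hcen⟩ := hreg h hh
      have := (hcen.2.2 X g).1 (hg T iT hT) X (𝟙 X) (toUnit X)
      rw [Category.id_comp] at this
      rw [MonObj.comp_mul, MonObj.comp_mul, lift_fst_assoc, lift_snd, Category.id_comp, ← Category.assoc,
        toUnit_unique (InvRing21.toPt X ≫ toUnit _) (toUnit X)]
      exact this
  have := congrArg (lift x t ≫ ·) key
  simp only [MonObj.comp_mul, lift_fst_assoc, lift_snd] at this
  exact this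

end SepClosed

end Groth.Agent.AttrBorel21
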