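import Groth.Agent.Lib.AttrBorel21.MTNilp
import Groth.Agent.Lib.AttrBorel21.MaxSepGen
import Groth.Agent.Lib.TorPts21.GeomIso
import Groth.Agent.Lib.MTRigid29.SubgrpFlatScheme
import Groth.Agent.Lib.GrpTrans20.Transporter

/-!
# Maximal tori over an algebraically closed field and what lies in all of them
-/

set_option autoImplicit false
set_option linter.style.haveILetI false
set_option linter.unusedSectionVars false
set_option backward.isDefEq.respectTransparency.types false
universe u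

open CategoryTheory Limits MonoidalCategory CartesianMonoidalCategory MonObj AlgebraicGeometry

noncomputable section

namespace Groth.Agent.AttrBorel21

open InvRing21 DiagGL TorPts21

attribute [local instance] InvRing21.gamAlg BorelFix21.ptsTop

variable {k : Type u} [Field k] [IsAlgClosed k] {G T : Over (Spec (CommRingCat.of k))} [GrpObj G] [GrpObj T]

/-- Over an algebraically closed field maximal tori are geometrically maximal. -/
theorem isMaximalTorus_of_isMaxTorus {iT : T ⟶ G} (hT : AGF.IsMaxTorus iT) : Red.IsMaximalTorus iT := by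
  obtain ⟨hm, hmono, htor, hmax⟩ := hT
  refine ⟨hm, hmono, htor, fun s T' _ j _ _ f hT' hf => ?_⟩
  haveI := hm
  haveI := hmono
  let φ := Red.geomPt s
  haveI : IsIso φ := isIso_geomPt s
  let ψ := inv φ
  let ι₀ : ∀ X : Over (Spec (CommRingCat.of k)), (Over.map φ).obj ((Over.map ψ).obj X) ≅ X := fun X =>
    Over.isoMk (Iso.refl _) (by
      show 𝟙 _ ≫ X.hom = (X.hom ≫ ψ) ≫ φ
      rw [Category.id_comp, Category.assoc, IsIso.inv_hom_id, Category.comp_id])
  let c : ∀ {X : Over (Spec (CommRingCat.of k))}, (X ⟶ Red.bc ψ T') → (X ⟶ G) := fun {X} x =>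
    (ι₀ X).inv ≫ fl φ G (fl ψ T' x ≫ j)
  have hcmul : ∀ {X : Over (Spec (CommRingCat.of k))} (x y : X ⟶ Red.bc ψ T'), c (x * y) = c x * c y := fun x y => by
    simp only [c, fl_mul, MonObj.mul_comp, MonObj.comp_mul]
  have hcn : ∀ {X Y : Over (Spec (CommRingCat.of k))} (t : X ⟶ Y) (y : Y ⟶ Red.bc ψ T'), c (t ≫ y) = t ≫ c y :=
    fun {X Y} t y => by
      simp only [c]
      rw [show fl ψ T' (t ≫ y) ≫ j = (Over.map ψ).map t ≫ (fl ψ T' y ≫ j) by rw [fl_comp, Category.assoc],
        fl_comp, ← Category.assoc, ← Category.assoc]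
      congr 1
  have hcinj : ∀ {X : Over (Spec (CommRingCat.of k))} (x y : X ⟶ Red.bc ψ T'), c x = c y → x = y := fun x y hxy => by
    simp only [c, cancel_epi] at hxy
    exact fl_injective ψ T' ((cancel_mono j).1 (fl_injective φ G hxy))
  let j' : Red.bc ψ T' ⟶ G := c (𝟙 _)
  have hj' : ∀ {X : Over (Spec (CommRingCat.of k))} (x : X ⟶ Red.bc ψ T'), x ≫ j' = c x := fun x => by
    rw [← hcn, Category.comp_id]
  haveI : IsMonHom j' := TorsorSch25.isMonHom_of_points j' fun X x y => by rw [hj', hj', hj', hcmul]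
  haveI : Mono j' := ⟨fun x y hxy => hcinj x y (by rw [← hj', ← hj', hxy])⟩
  obtain ⟨g, hg⟩ := fl_surjective φ T (T := (Over.map ψ).obj T) (ι₀ T).hom
  obtain ⟨x, hx⟩ := fl_surjective ψ T' (T := T) (g ≫ f)
  haveI : IsIso x := hmax (Red.bc ψ T') j' x (isTorus_bc ψ hT') (by
    rw [hj']
    show (ι₀ T).inv ≫ fl φ G (fl ψ T' x ≫ j) = iT
    rw [hx, Category.assoc, hf, DiagGL.fl_comp_map, hg, Iso.inv_hom_id_assoc])
  haveI : IsIso x.left := inferInstanceAs (IsIso ((Over.forget _).map x))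
  have e1 : x.left ≫ pullback.fst T'.hom ψ = g.left ≫ f.left := by
    have := congrArg CommaMorphism.left hx
    simp only [fl, Adjunction.homEquiv_counit, Over.comp_left] at this
    exact this
  have e2 : g.left ≫ pullback.fst T.hom φ = 𝟙 T.left := by
    have := congrArg CommaMorphism.left hg
    simp only [fl, Adjunction.homEquiv_counit, Over.comp_left] at this
    exact this
  haveI : IsIso (pullback.fst T.hom φ) := inferInstance
  haveI : IsIso (pullback.fst T'.hom ψ) := inferInstance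
  have hgi : g.left = inv (pullback.fst T.hom φ) := IsIso.eq_inv_of_inv_hom_id e2
  haveI : IsIso g.left := hgi ▸ inferInstance
  haveI : IsIso ((Over.forget (Spec (CommRingCat.of (AlgebraicClosure ((Spec (CommRingCat.of k)).residueField s))))).map f) := by
    show IsIso f.left
    rw [show f.left = inv g.left ≫ x.left ≫ pullback.fst T'.hom ψ by rw [e1, IsIso.inv_hom_id_assoc]]
    infer_instance
  exact isIso_of_reflects_iso f (Over.forget _)

omit [IsAlgClosed k] in
/-- Lifts descend along the base change by the identity. -/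
theorem exists_lift_of_bc_id {X Y Z : Over (Spec (CommRingCat.of k))} [GrpObj X] [GrpObj Y] [GrpObj Z] (i : Y ⟶ Z)
    (g : X ⟶ Z) (f : Red.bc (𝟙 (Spec (CommRingCat.of k))) X ⟶ Red.bc (𝟙 _) Y)
    (hf : f ≫ (Over.pullback (𝟙 _)).map i = (Over.pullback (𝟙 _)).map g) : ∃ f₀ : X ⟶ Y, f₀ ≫ i = g := by
  let φ : Spec (CommRingCat.of k) ⟶ Spec (CommRingCat.of k) := 𝟙 _
  let ι₀ : (Over.map φ).obj X ≅ X := Over.isoMk (Iso.refl _) (by
    show 𝟙 _ ≫ X.hom = X.hom ≫ φ
    rw [Category.id_comp, Category.comp_id])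
  obtain ⟨g₀, hg₀⟩ := fl_surjective φ X (T := X) ι₀.hom
  refine ⟨ι₀.inv ≫ fl φ Y (g₀ ≫ f), ?_⟩
  rw [Category.assoc, ← DiagGL.fl_comp_map, Category.assoc, hf, DiagGL.fl_comp_map, hg₀, Iso.inv_hom_id_assoc]

variable [IsAffine G.left] [Smooth G.hom] [ConnectedSpace G.left]

/-- A point in every maximal torus is central. -/
theorem comm_of_forall_maximalTorus_closed {X : Over (Spec (CommRingCat.of k))} (g : X ⟶ G)
    (hg : ∀ (T : Over (Spec (CommRingCat.of k))) [GrpObj T] (iT : T ⟶ G), Red.IsMaximalTorus iT →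
      ∃ t : X ⟶ T, t ≫ iT = g)
    (X' : Over (Spec (CommRingCat.of k))) (x : X' ⟶ X) (h : X' ⟶ G) : (x ≫ g) * h = h * (x ≫ g) := by
  obtain ⟨T, _, iT, hT⟩ := exists_maxTorus G
  haveI := hT.1
  haveI := hT.2.1
  obtain ⟨C, _, c, hc, -, -⟩ :=
    MTRigid29.exists_centralizer (MTRigid29.isMT_of_ft (isMultTypeFT_of_isTorus hT.2.2.1)) inferInstance inferInstance iT
  obtain ⟨C₀, _, j, U, -, -, -, -, -, hU, hUx⟩ := exists_open_conj hT hc
  haveI : IrreducibleSpace G.left := AbRigid.irreducibleSpace_of_isAlgClosed G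
  haveI := OrbitTop19.isReduced_of_smooth G.hom
  have key : (fst X G ≫ g) * snd X G = snd X G * (fst X G ≫ g) := by
    refine eq_of_forall_pt_sep (fun y => ∃ x : 𝟙_ (Over (Spec (CommRingCat.of k))) ⟶ G,
      img' x ∈ U ∧ gpt x = y) (fun F hF => ?_) _ _ fun y hy => ?_
    · have hb : (G.left.basicOpen F : Set G.left).Nonempty := by
        rw [Set.nonempty_iff_ne_empty]
        intro h
        exact hF ((basicOpen_eq_bot_iff F).1 (TopologicalSpace.Opens.ext h))
      obtain ⟨y, hy⟩ := BorelFix21.exists_pt_mem (G := G)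
        ((U ⊓ G.left.basicOpen F).2.isLocallyClosed)
        (nonempty_preirreducible_inter U.2 (G.left.basicOpen F).2 hU hb)
      obtain ⟨x, rfl⟩ := exists_gpt y
      exact ⟨_, ⟨x, (img_gpt x) ▸ hy.1, rfl⟩, (img_mem_basicOpen _ _).1 hy.2⟩
    · obtain ⟨x, hx, rfl⟩ := hy
      obtain ⟨a, z, hax⟩ := hUx x hx
      obtain ⟨τ, hτ⟩ := hg T (AGF.conjBy a iT) (isMaximalTorus_of_isMaxTorus (isMaxTorus_conjBy hT a))
      have hcomm : g * (toUnit X ≫ x) = (toUnit X ≫ x) * g := by
        have h0 := centralizer_comm hc (toUnit X ≫ z ≫ j) τ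
        have hgτ : (toUnit X ≫ a) * (τ ≫ iT) * (toUnit X ≫ a)⁻¹ = g := by
          rw [← hτ]
          simp only [AGF.conjBy, MonObj.comp_mul, GrpObj.comp_inv, comp_toUnit_assoc]
        rw [← hgτ, ← hax]
        simp only [MonObj.comp_mul, GrpObj.comp_inv, Category.assoc] at h0 ⊢
        calc _ = (toUnit X ≫ a) * ((τ ≫ iT) * (toUnit X ≫ z ≫ j ≫ c)) * (toUnit X ≫ a)⁻¹ := by group
          _ = (toUnit X ≫ a) * ((toUnit X ≫ z ≫ j ≫ c) * (τ ≫ iT)) * (toUnit X ≫ a)⁻¹ := by rw [h0]
          _ = _ := by group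
      rw [MonObj.comp_mul, MonObj.comp_mul, lift_fst_assoc, lift_snd, Category.id_comp, gpt, ← Category.assoc,
        toUnit_unique (InvRing21.toPt X ≫ toUnit _) (toUnit X)]
      exact hcomm
  have := congrArg (lift x h ≫ ·) key
  simp only [MonObj.comp_mul, lift_fst_assoc, lift_snd] at this
  exact this

/-- The central part of a maximal torus. -/
theorem exists_central_torus_part {iT : T ⟶ G} (hT : Red.IsMaximalTorus iT) :
    ∃ (D : Over (Spec (CommRingCat.of k))) (_ : GrpObj D) (d : D ⟶ T), IsMonHom d ∧ SGA3x.IsMultTypeFT D ∧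
      ∀ (X : Over (Spec (CommRingCat.of k))) (y : X ⟶ T), (∃ z, z ≫ d = y) ↔
        ∀ (X' : Over (Spec (CommRingCat.of k))) (x : X' ⟶ X) (h : X' ⟶ G),
          (x ≫ y ≫ iT) * h = h * (x ≫ y ≫ iT) := by
  haveI := hT.1
  haveI := hT.2.1
  obtain ⟨hTa, hTs, -, -⟩ := props_of_isTorus hT.2.2.1
  haveI := hTa
  haveI := hTs
  obtain ⟨Z, _, z, hzm, hzc, hz⟩ := GrpTrans20.exists_centralizer (𝟙 G)
  haveI := hzm
  haveI := hzc
  obtain ⟨D, _, d, dZ, hdm, hdc, hD⟩ := exists_subgroup_inter iT z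
  haveI := hdm
  haveI := hdc
  refine ⟨D, inferInstance, d, hdm, ?_, fun X y => ⟨?_, fun h => ?_⟩⟩
  · haveI : LocallyOfFinitePresentation D.hom := by
      rw [← Over.w d]
      haveI : LocallyOfFiniteType (d.left ≫ T.hom) := inferInstance
      exact LocallyOfFinitePresentation.iff_locallyOfFiniteType.2 inferInstance
    exact MTRigid29.isMultTypeFT_of_closedSubgroup D T (isMultTypeFT_of_isTorus hT.2.2.1) d hdc inferInstance inferInstance
  · rintro ⟨w, rfl⟩ X' x h
    have h0 := (hz X ((w ≫ dZ) ≫ z)).1 ⟨w ≫ dZ, rfl⟩ X' x h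
    rw [Category.comp_id, Category.assoc, ← hD.w] at h0
    simpa only [Category.assoc] using h0
  · obtain ⟨v, hv⟩ := (hz X (y ≫ iT)).2 fun X' x h' => by
      rw [Category.comp_id]
      exact h X' x h'
    exact ⟨hD.lift y v hv.symm, hD.lift_fst _ _ _⟩

end Groth.Agent.AttrBorel21
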