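import Groth.Agent.Lib.AttrBorel21.CartanGen
import Groth.Agent.Lib.AttrBorel21.MaxTori
import Groth.Agent.Lib.TorPts21.MaximalTorusClosed
import Groth.Agent.Lib.BorelFix21.Component
import Groth.Agent.Lib.BorelFix21.Borel
import Groth.Agent.Lib.AbRigid.GrpTop
import Groth.Prelude.Def_SGA3x

/-!
# Borel subgroups of groups that need not be connected
-/

set_option autoImplicit false
set_option linter.style.haveILetI false
set_option linter.unusedSectionVars false
set_option backward.isDefEq.respectTransparency.types false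
universe u

open CategoryTheory Limits MonoidalCategory CartesianMonoidalCategory MonObj AlgebraicGeometry

noncomputable section

namespace Groth.Agent.AttrBorel21

variable {k : Type u} [Field k] [IsAlgClosed k]

/-- The identity component as a closed subgroup. -/
theorem exists_component_closed (G : Over (Spec (CommRingCat.of k))) [GrpObj G] [Smooth G.hom] [QuasiCompact G.hom] :
    ∃ (G₀ : Over (Spec (CommRingCat.of k))) (_ : GrpObj G₀) (j : G₀ ⟶ G), IsMonHom j ∧ IsOpenImmersion j.left ∧
      IsClosedImmersion j.left ∧ Smooth G₀.hom ∧ QuasiCompact G₀.hom ∧ ConnectedSpace ↥G₀.left := by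
  obtain ⟨G₀, _, j, hjm, hjo, hc⟩ := BorelFix21.exists_identity_component G
  haveI := hjm
  haveI := hjo
  have hcl : IsClosed (Set.range j.left) := AbRigid.isClosed_range_of_isOpen j j.left.isOpenEmbedding.isOpen_range
  haveI : IsClosedImmersion j.left := IsClosedImmersion.of_isPreimmersion j.left hcl
  haveI : CompactSpace G.left := (quasiCompact_iff_compactSpace G.hom).1 inferInstance
  haveI : CompactSpace G₀.left := j.left.isClosedEmbedding.compactSpace
  exact ⟨G₀, inferInstance, j, hjm, hjo, inferInstance, by rw [← Over.w j]; infer_instance,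
    (quasiCompact_iff_compactSpace G₀.hom).2 inferInstance, hc⟩

/-- A Borel subgroup lies in the identity component and is a Borel subgroup there. -/
theorem exists_lift_borel_component {G G₀ B : Over (Spec (CommRingCat.of k))} [GrpObj G] [GrpObj G₀] [GrpObj B]
    (j : G₀ ⟶ G) [IsMonHom j] [IsOpenImmersion j.left] [IsClosedImmersion j.left] {b : B ⟶ G}
    (hB : Red.IsBorelOver k b) : ∃ l : B ⟶ G₀, l ≫ j = b ∧ Red.IsBorelOver k l := by
  obtain ⟨hm, hc, hs, hn, hsol, hmax⟩ := id hB
  haveI := hm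
  haveI := hc
  haveI := hn
  haveI : Mono j := Over.mono_of_mono_left j
  obtain ⟨l, hl⟩ := BorelFix21.exists_lift_component j j.left.isClosedEmbedding.isClosed_range b
  haveI : IsClosedImmersion (l.left ≫ j.left) := by
    rw [← Over.comp_left, hl]
    exact hc
  haveI : IsMonHom (l ≫ j) := hl.symm ▸ hm
  refine ⟨l, hl, BorelFix21.isMonHom_of_comp j l inferInstance, IsClosedImmersion.of_comp l.left j.left, hs, hn, hsol,
    fun B' _ i' _ f hi hs' hn' hsol' hf => ?_⟩
  haveI := hi
  haveI : IsClosedImmersion (i' ≫ j).left := by rw [Over.comp_left]; infer_instance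
  exact hmax B' (i' ≫ j) f inferInstance hs' hn' hsol' (by rw [← Category.assoc, hf, hl])

/-- A maximal torus of the identity component is a maximal torus of the group. -/
theorem isMaxTorus_comp_component {G G₀ T : Over (Spec (CommRingCat.of k))} [GrpObj G] [GrpObj G₀] [GrpObj T]
    (j : G₀ ⟶ G) [IsMonHom j] [IsOpenImmersion j.left] [IsClosedImmersion j.left] {i : T ⟶ G₀}
    (hT : AGF.IsMaxTorus i) : AGF.IsMaxTorus (i ≫ j) := by
  haveI := hT.1
  haveI := hT.2.1
  haveI : Mono j := Over.mono_of_mono_left j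
  refine ⟨inferInstance, inferInstance, hT.2.2.1, fun T' _ i' _ _ f hT' hf => ?_⟩
  obtain ⟨-, -, hTc, -⟩ := TorPts21.props_of_isTorus hT'
  haveI := hTc
  obtain ⟨l, hl⟩ := BorelFix21.exists_lift_component j j.left.isClosedEmbedding.isClosed_range i'
  haveI : IsMonHom l := BorelFix21.isMonHom_of_comp j l (hl.symm ▸ (inferInstance : IsMonHom i'))
  haveI : Mono (l ≫ j) := hl.symm ▸ (inferInstance : Mono i')
  haveI : Mono l := mono_of_mono l j
  exact hT.2.2.2 T' l f hT' ((cancel_mono j).1 (by rw [Category.assoc, hl, hf]))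

set_option maxHeartbeats 1000000 in
/-- Borel subgroups of a smooth group are conjugate. -/
theorem exists_conj_borel_disc {G B₁ B₂ : Over (Spec (CommRingCat.of k))} [GrpObj G] [GrpObj B₁] [GrpObj B₂]
    [Smooth G.hom] [QuasiCompact G.hom] {b₁ : B₁ ⟶ G} {b₂ : B₂ ⟶ G}
    (h₁ : Red.IsBorelOver k b₁) (h₂ : Red.IsBorelOver k b₂) :
    ∃ g : 𝟙_ (Over (Spec (CommRingCat.of k))) ⟶ G, SGA3x.ConjBy b₁ b₂ g := by
  obtain ⟨G₀, _, j, hjm, hjo, hjc, hs, hq, hn⟩ := exists_component_closed G
  haveI := hjm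
  haveI := hjo
  haveI := hjc
  haveI := hs
  haveI := hq
  haveI := hn
  obtain ⟨l₁, hl₁, hB₁⟩ := exists_lift_borel_component j h₁
  obtain ⟨l₂, hl₂, hB₂⟩ := exists_lift_borel_component j h₂
  obtain ⟨g, φ, hφ⟩ := exists_conj_borel_gen hB₁ hB₂
  refine ⟨g ≫ j, φ, ?_⟩
  have h := congrArg (· ≫ j) hφ
  simp only [MonObj.mul_comp, GrpObj.inv_comp, Category.assoc] at h
  rw [hl₁, hl₂] at h
  exact h

/-- A maximal torus of a Borel subgroup is a maximal torus of the possibly disconnected group. -/
theorem isMaxTorus_comp_borel_disc {G B T : Over (Spec (CommRingCat.of k))} [GrpObj G] [GrpObj B] [GrpObj T]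
    [Smooth G.hom] [QuasiCompact G.hom] {b : B ⟶ G} (hB : Red.IsBorelOver k b) {t : T ⟶ B}
    (hT : AGF.IsMaxTorus t) : AGF.IsMaxTorus (t ≫ b) := by
  obtain ⟨G₀, _, j, hjm, hjo, hjc, hs, hq, hn⟩ := exists_component_closed G
  haveI := hjm
  haveI := hjo
  haveI := hjc
  haveI := hs
  haveI := hq
  haveI := hn
  obtain ⟨l, hl, hBl⟩ := exists_lift_borel_component j hB
  rw [← hl, ← Category.assoc]
  exact isMaxTorus_comp_component j (isMaxTorus_comp_borel hBl hT)

set_option maxHeartbeats 1000000 in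
/-- A Cartan subgroup of a Borel subgroup is a Cartan subgroup of the group. -/
theorem isCartanOver_comp_borel {G B C : Over (Spec (CommRingCat.of k))} [GrpObj G] [GrpObj B] [GrpObj C]
    [Smooth G.hom] [QuasiCompact G.hom] [ConnectedSpace ↥G.left] {b : B ⟶ G} (hB : Red.IsBorelOver k b) {c : C ⟶ B}
    (hc : SGA3x.IsCartanOver k c) : SGA3x.IsCartanOver k (c ≫ b) := by
  obtain ⟨hcm, hcmono, T, _, i, hT, hC⟩ := hc
  haveI := hcm
  haveI := hcmono
  haveI := hB.1
  haveI := hB.2.1
  haveI : Mono b := Over.mono_of_mono_left b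
  have hT' := isMaxTorus_comp_borel hB (TorPts21.isMaxTorus_of_isMaximalTorus hT)
  refine ⟨inferInstance, inferInstance, T, inferInstance, i ≫ b, isMaximalTorus_of_isMaxTorus hT',
    inferInstance, inferInstance, fun X g => ⟨?_, fun hg => ?_⟩⟩
  · rintro ⟨z, rfl⟩ X' x h
    have h1 := (hC.2.2 X (z ≫ c)).1 ⟨z, rfl⟩ X' x h
    simpa only [MonObj.mul_comp, Category.assoc] using congrArg (· ≫ b) h1
  · haveI : IsSeparated G.hom := AbRigid.isSeparated_of_grpObj G
    haveI := hT'.1
    obtain ⟨C', _, c', hC', -, -⟩ := TorusCentr19.exists_centralizer'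
      (MTRigid29.isMT_of_ft (TorPts21.isMultTypeFT_of_isTorus hT'.2.2.1)) ‹_› (i ≫ b)
    obtain ⟨f, hf⟩ := exists_lift_centralizer_borel_gen hB i hT' hC'
    obtain ⟨w, hw⟩ := (hC'.2.2 X g).2 hg
    obtain ⟨z, hz⟩ := (hC.2.2 X (w ≫ f)).2 fun X' x h => by
      refine (cancel_mono b).1 ?_
      simpa only [MonObj.mul_comp, Category.assoc, hf, hw] using hg X' x h
    exact ⟨z, by rw [← Category.assoc, hz, Category.assoc, hf, hw]⟩

end Groth.Agent.AttrBorel21
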