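import Groth.Agent.Lib.AttrBorel21.BorelGen
import Groth.Agent.Lib.BorelFix21.BorelConj
import Groth.Agent.Lib.TorPts21.CentralizerRadical
import Groth.Agent.Lib.VarDim.Scheme
import Groth.Agent.S3036

/-!
# Conjugacy of Borel subgroups and maximal tori in possibly non-affine connected groups
-/

set_option autoImplicit false
set_option linter.style.haveILetI false
set_option linter.unusedSectionVars false
set_option backward.isDefEq.respectTransparency.types false
universe u

open CategoryTheory Limits MonoidalCategory CartesianMonoidalCategory MonObj AlgebraicGeometry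

noncomputable section

namespace Groth.Agent.AttrBorel21

open InvRing21 TorPts21 MatGrp21

attribute [local instance] InvRing21.gamAlg BorelFix21.ptsTop

variable {k : Type u} [Field k] [IsAlgClosed k]

/-- A monomorphism from a torus is a closed immersion. -/
theorem isClosedImmersion_torus_gen {T G : Over (Spec (CommRingCat.of k))} [GrpObj T] [GrpObj G]
    [LocallyOfFiniteType G.hom] (hT : Red.IsTorus T) (i : T ⟶ G) [IsMonHom i] [Mono i] : IsClosedImmersion i.left := by
  obtain ⟨hTa, hTs, -, -⟩ := TorPts21.props_of_isTorus hT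
  haveI := hTa
  haveI := hTs
  haveI : IsSeparated G.hom := AbRigid.isSeparated_of_grpObj G
  haveI : QuasiCompact T.hom := inferInstance
  haveI : QuasiCompact (i.left ≫ G.hom) := by rw [Over.w i]; infer_instance
  haveI : QuasiCompact i.left := QuasiCompact.of_comp i.left G.hom
  exact Groth.Agent.S3036.result k T G i

/-- Conjugate of a point by the image of a point. -/
theorem conjBy_comp_hom {B G Q : Over (Spec (CommRingCat.of k))} [GrpObj G] [GrpObj Q] (q : G ⟶ Q) [IsMonHom q]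
    (a : 𝟙_ (Over (Spec (CommRingCat.of k))) ⟶ G) (b : B ⟶ G) : AGF.conjBy a b ≫ q = AGF.conjBy (a ≫ q) (b ≫ q) := by
  simp only [AGF.conjBy, MonObj.mul_comp, GrpObj.inv_comp, GrpObj.comp_inv, Category.assoc]

set_option synthInstance.maxHeartbeats 80000 in
set_option maxHeartbeats 1000000 in
/-- Borel subgroups of a smooth connected group are conjugate. -/
theorem exists_conj_borel_gen {G B₁ B₂ : Over (Spec (CommRingCat.of k))} [GrpObj G] [GrpObj B₁] [GrpObj B₂]
    [Smooth G.hom] [QuasiCompact G.hom] [ConnectedSpace ↥G.left] {b₁ : B₁ ⟶ G} {b₂ : B₂ ⟶ G}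
    (h₁ : Red.IsBorelOver k b₁) (h₂ : Red.IsBorelOver k b₂) :
    ∃ g : 𝟙_ (Over (Spec (CommRingCat.of k))) ⟶ G, SGA3x.ConjBy b₁ b₂ g := by
  obtain ⟨Z, _, z, Q, _, q, hZ, hzc, hqm, hqs, hqf, hker, hQa, hQs, hQc⟩ := exists_centre_quotient G
  haveI := hzc
  haveI := hqm
  haveI := hqs
  haveI := hqf
  haveI := hQa
  haveI := hQs
  haveI := hQc
  obtain ⟨B₁', _, i₁', hB₁', hiff₁⟩ := exists_borel_image hZ hker h₁
  obtain ⟨B₂', _, i₂', hB₂', hiff₂⟩ := exists_borel_image hZ hker h₂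
  obtain ⟨g, f, hf⟩ := BorelFix21.exists_conjBy i₁' i₂' hB₁' hB₂'
  obtain ⟨x₀, hx₀⟩ := exists_pt_lift q (gpt g)
  obtain ⟨a, rfl⟩ := exists_gpt x₀
  have hag : ∀ (X : Over (Spec (CommRingCat.of k))), (toUnit X ≫ a) ≫ q = toUnit X ≫ g := fun X => by
    have := congrArg (InvRing21.toPt X ≫ ·) hx₀
    simpa only [gpt, ← Category.assoc, comp_toUnit] using this
  have hcb := BorelFix21.isBorelOver_conj b₁ h₁ a⁻¹
  have hce : (toUnit B₁ ≫ a⁻¹)⁻¹ * b₁ * (toUnit B₁ ≫ a⁻¹) = AGF.conjBy a b₁ := by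
    simp only [AGF.conjBy, GrpObj.comp_inv, inv_inv]
  rw [hce] at hcb
  obtain ⟨hm, hc, hs, hn, hsol, hmax⟩ := id hcb
  haveI := hm
  haveI := hc
  haveI := hs
  haveI := hn
  haveI := h₂.2.1
  haveI := h₂.1
  haveI := OrbitTop19.isReduced_of_smooth B₁.hom
  obtain ⟨φ, hφ⟩ := exists_lift_closed_of_pts b₂ (AGF.conjBy a b₁) fun y => by
    obtain ⟨y₁, hy₁⟩ := (hiff₁ (y ≫ b₁)).1 ⟨y, rfl⟩
    refine (hiff₂ _).2 ⟨y₁ ≫ f.hom, ?_⟩
    rw [Category.assoc y₁, hf, comp_conjBy, comp_conjBy, hy₁, MonObj.mul_comp, MonObj.mul_comp, GrpObj.inv_comp, hag]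
  haveI : IsIso φ := hmax B₂ b₂ φ h₂.2.1 h₂.2.2.1 h₂.2.2.2.1 h₂.2.2.2.2.1 hφ
  exact ⟨a, asIso φ, hφ.symm⟩

set_option synthInstance.maxHeartbeats 80000 in
/-- A torus lies in a Borel subgroup. -/
theorem exists_borel_containing_gen {G T : Over (Spec (CommRingCat.of k))} [GrpObj G] [GrpObj T]
    [Smooth G.hom] [QuasiCompact G.hom] [ConnectedSpace ↥G.left] (hT : Red.IsTorus T) (i : T ⟶ G) [IsMonHom i] :
    ∃ (B : Over (Spec (CommRingCat.of k))) (_ : GrpObj B) (b : B ⟶ G) (t : T ⟶ B),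
      Red.IsBorelOver k b ∧ t ≫ b = i := by
  obtain ⟨Z, _, z, Q, _, q, hZ, hzc, hqm, hqs, hqf, hker, hQa, hQs, hQc⟩ := exists_centre_quotient G
  haveI := hzc
  haveI := hqm
  haveI := hqs
  haveI := hqf
  haveI := hQa
  haveI := hQs
  haveI := hQc
  obtain ⟨σ, _, s, p, hs, hs', hσ, hp⟩ := exists_torus_image hT (i ≫ q)
  haveI := hs
  haveI := hs'
  obtain ⟨B', _, iB', t', hB', ht'⟩ := TorPts21.exists_borel_containing s hσ
  obtain ⟨B, _, b, hB, hiff⟩ := exists_borel_preimage hZ hker hB'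
  haveI := hB.2.1
  obtain ⟨-, hTs, -, -⟩ := TorPts21.props_of_isTorus hT
  haveI := hTs
  haveI := OrbitTop19.isReduced_of_smooth T.hom
  obtain ⟨t, ht⟩ := exists_lift_closed_of_pts b i fun y =>
    (hiff _).2 ⟨y ≫ p ≫ t', by rw [Category.assoc, Category.assoc, ht', hp, Category.assoc]⟩
  exact ⟨B, inferInstance, b, t, hB, ht⟩

/-- Mutually embedded tori are isomorphic. -/
theorem isIso_of_torus_endo {T T' : Over (Spec (CommRingCat.of k))} [GrpObj T] [GrpObj T'] (hT : Red.IsTorus T)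
    (hT' : Red.IsTorus T') (f : T ⟶ T') (g : T' ⟶ T) [IsMonHom f] [IsMonHom g] [Mono f] [Mono g] : IsIso f := by
  obtain ⟨hTa, hTs, -, -⟩ := TorPts21.props_of_isTorus hT
  haveI := hTa
  haveI := hTs
  haveI : IsReduced T.left := OrbitTop19.isReduced_of_smooth T.hom
  haveI : IsLocallyNoetherian T.left := LocallyOfFiniteType.isLocallyNoetherian T.hom
  haveI : IsNoetherian T.left := ⟨⟩
  haveI : IsClosedImmersion (f ≫ g).left := isClosedImmersion_torus_gen hT (f ≫ g)
  haveI : IsIso ((Over.forget _).map (f ≫ g)) := BorelFix21.isIso_of_endo (f ≫ g).left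
  haveI : IsIso (f ≫ g) := isIso_of_reflects_iso _ (Over.forget _)
  haveI : IsSplitEpi g := IsSplitEpi.mk' ⟨inv (f ≫ g) ≫ f, by simp⟩
  haveI : IsIso g := isIso_of_mono_of_isSplitEpi g
  exact IsIso.of_isIso_comp_right f g

/-- In a connected group every torus lies in a maximal one. -/
theorem exists_maxTorus_ge_gen {G S : Over (Spec (CommRingCat.of k))} [GrpObj G] [GrpObj S]
    [LocallyOfFiniteType G.hom] [ConnectedSpace ↥G.left] (hS : Red.IsTorus S) (j : S ⟶ G) [IsMonHom j] [Mono j] :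
    ∃ (T : Over (Spec (CommRingCat.of k))) (_ : GrpObj T) (i : T ⟶ G) (f : S ⟶ T), AGF.IsMaxTorus i ∧ f ≫ i = j := by
  haveI : IrreducibleSpace G.left := AbRigid.irreducibleSpace_of_isAlgClosed G
  let A : Set ℕ := {n | ∃ (T : Over (Spec (CommRingCat.of k))) (_ : GrpObj T) (i : T ⟶ G) (f : S ⟶ T) (ξ : T.left),
    IsMonHom i ∧ Mono i ∧ Red.IsTorus T ∧ f ≫ i = j ∧ IsGenericPoint ξ Set.univ ∧ VarDim.sdim G.hom (i.left ξ) = n}
  have hirr : ∀ {T : Over (Spec (CommRingCat.of k))} [GrpObj T], Red.IsTorus T → IrreducibleSpace T.left :=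
    fun {T} _ hT => by
    obtain ⟨-, hTs, hTc, -⟩ := TorPts21.props_of_isTorus hT
    haveI := hTs
    haveI := hTc
    exact AbRigid.irreducibleSpace_of_isAlgClosed T
  have hA : A.Nonempty := by
    haveI := hirr hS
    exact ⟨_, S, inferInstance, j, 𝟙 S, genericPoint S.left, inferInstance, inferInstance, hS, Category.id_comp j,
      genericPoint_spec S.left, rfl⟩
  have hbd : BddAbove A := ⟨VarDim.sdim G.hom (genericPoint G.left), by
    rintro _ ⟨T, _, i, f, ξ, -, -, -, -, -, rfl⟩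
    by_cases h : genericPoint G.left = i.left ξ
    · rw [h]
    · exact (VarDim.sdim_lt_of_specializes G.hom (genericPoint_specializes _) h).le⟩
  obtain ⟨T, _, i, f, ξ, hi, hi', hT, hf, hξ, hn⟩ := Nat.sSup_mem hA hbd
  haveI := hi
  haveI := hi'
  refine ⟨T, inferInstance, i, f, ⟨hi, hi', hT, fun T' _ j' _ _ e hT' he => ?_⟩, hf⟩
  haveI := hirr hT'
  haveI := isClosedImmersion_torus_gen hT i
  haveI := isClosedImmersion_torus_gen hT' j'
  haveI : IsClosedImmersion (e.left ≫ j'.left) := by rw [← Over.comp_left, he]; infer_instance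
  haveI : IsClosedImmersion e.left := IsClosedImmersion.of_comp e.left j'.left
  have hle : VarDim.sdim G.hom (j'.left (genericPoint T'.left)) ≤ sSup A :=
    le_csSup hbd ⟨T', inferInstance, j', f ≫ e, genericPoint T'.left, inferInstance, inferInstance, hT',
      by rw [Category.assoc, he, hf], genericPoint_spec _, rfl⟩
  have hej : j'.left (e.left ξ) = i.left ξ := by rw [← Scheme.Hom.comp_apply, ← Over.comp_left, he]
  have hgen : genericPoint T'.left = e.left ξ := by
    refine j'.left.isClosedEmbedding.injective ?_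
    by_contra hne
    have := VarDim.sdim_lt_of_specializes G.hom
      ((genericPoint_specializes (e.left ξ)).map j'.left.continuous) hne
    rw [hej, hn] at this
    omega
  haveI : Surjective e.left := ⟨fun x => by
    have hx : x ∈ closure (Set.range e.left) := closure_mono (s := {genericPoint T'.left}) (t := Set.range e.left) (Set.singleton_subset_iff.2 (Set.mem_range.2 ⟨ξ, hgen.symm⟩))
      (specializes_iff_mem_closure.1 (genericPoint_specializes x))
    rwa [e.left.isClosedEmbedding.isClosed_range.closure_eq] at hx⟩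
  obtain ⟨-, hT's, -, -⟩ := TorPts21.props_of_isTorus hT'
  haveI := hT's
  haveI := OrbitTop19.isReduced_of_smooth T'.hom
  haveI : IsIso ((Over.forget _).map e) := isIso_of_isClosedImmersion_of_surjective e.left
  exact isIso_of_reflects_iso e (Over.forget _)

set_option synthInstance.maxHeartbeats 80000 in
set_option maxHeartbeats 1000000 in
/-- A maximal torus of a Borel subgroup is a maximal torus of the group. -/
theorem isMaxTorus_comp_borel {G B T : Over (Spec (CommRingCat.of k))} [GrpObj G] [GrpObj B] [GrpObj T]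
    [Smooth G.hom] [QuasiCompact G.hom] [ConnectedSpace ↥G.left] {b : B ⟶ G} (hB : Red.IsBorelOver k b) {t : T ⟶ B}
    (hT : AGF.IsMaxTorus t) : AGF.IsMaxTorus (t ≫ b) := by
  obtain ⟨hm, hc, hs, hn, -, -⟩ := id hB
  haveI := hm
  haveI := hc
  haveI := hs
  haveI := hn
  haveI := hT.1
  haveI := hT.2.1
  haveI : Mono b := Over.mono_of_mono_left b
  haveI : CompactSpace G.left := (quasiCompact_iff_compactSpace G.hom).1 inferInstance
  haveI : CompactSpace B.left := b.left.isClosedEmbedding.compactSpace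
  haveI : QuasiCompact B.hom := (quasiCompact_iff_compactSpace B.hom).2 inferInstance
  refine ⟨inferInstance, inferInstance, hT.2.2.1, fun T' _ j _ _ f hT' hf => ?_⟩
  obtain ⟨B₁, _, b₁, s, hB₁, hs₁⟩ := exists_borel_containing_gen hT' j
  haveI := hB₁.1
  haveI := hB₁.2.1
  haveI : Mono b₁ := Over.mono_of_mono_left b₁
  obtain ⟨g, φ, hφ⟩ := exists_conj_borel_gen hB hB₁
  haveI := TorPts21.isMonHom_conjBy g⁻¹ j
  haveI := TorPts21.mono_conjBy g⁻¹ j
  have hinv : φ.inv ≫ AGF.conjBy g b = b₁ := by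
    rw [show AGF.conjBy g b = φ.hom ≫ b₁ from hφ, Iso.inv_hom_id_assoc]
  have hu : (s ≫ φ.inv) ≫ b = AGF.conjBy g⁻¹ j := by
    have h := congrArg (s ≫ ·) hinv
    simp only [← Category.assoc, comp_conjBy, hs₁] at h
    rw [AGF.conjBy, ← h, GrpObj.comp_inv]
    group
  haveI : IsMonHom (s ≫ φ.inv) := BorelFix21.isMonHom_of_comp b _ (hu.symm ▸ (inferInstance : IsMonHom (AGF.conjBy g⁻¹ j)))
  haveI : Mono ((s ≫ φ.inv) ≫ b) := hu.symm ▸ (inferInstance : Mono (AGF.conjBy g⁻¹ j))
  haveI : Mono (s ≫ φ.inv) := mono_of_mono (s ≫ φ.inv) b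
  obtain ⟨M, _, iM, v, hM, hv⟩ := exists_maxTorus_ge_gen hT' (s ≫ φ.inv)
  haveI := hM.1
  haveI := hM.2.1
  obtain ⟨c, ψ, hψ⟩ := exists_conj_maximalTorus hM hT
  haveI := TorPts21.isMonHom_conjBy c iM
  haveI := TorPts21.mono_conjBy c iM
  haveI : IsMonHom ψ.hom := BorelFix21.isMonHom_of_comp t ψ.hom
    ((show AGF.conjBy c iM = ψ.hom ≫ t from hψ) ▸ (inferInstance : IsMonHom (AGF.conjBy c iM)))
  haveI : IsMonHom v := BorelFix21.isMonHom_of_comp iM v (hv.symm ▸ (inferInstance : IsMonHom (s ≫ φ.inv)))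
  haveI : Mono (v ≫ iM) := hv.symm ▸ (inferInstance : Mono (s ≫ φ.inv))
  haveI : Mono v := mono_of_mono v iM
  haveI : IsMonHom f := BorelFix21.isMonHom_of_comp j f (hf.symm ▸ (inferInstance : IsMonHom (t ≫ b)))
  haveI : Mono (f ≫ j) := hf.symm ▸ (inferInstance : Mono (t ≫ b))
  haveI : Mono f := mono_of_mono f j
  exact isIso_of_torus_endo hT.2.2.1 hT' f (v ≫ ψ.hom)

end Groth.Agent.AttrBorel21
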