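import Groth.Agent.Lib.AttrBorel21.CentAff
import Groth.Agent.Lib.BorelFix21.Image
import Groth.Agent.Lib.BorelFix21.Solvable
import Groth.Agent.Lib.TorPts21.BorelUnion
import Groth.Agent.Lib.TorPts21.BorelCentre

/-!
# Borel subgroups of possibly non-affine connected groups
-/

set_option autoImplicit false
set_option linter.style.haveILetI false
set_option linter.unusedSectionVars false
set_option backward.isDefEq.respectTransparency.types false
universe u

open CategoryTheory Limits MonoidalCategory CartesianMonoidalCategory MonObj AlgebraicGeometry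

noncomputable section

namespace Groth.Agent.AttrBorel21

open InvRing21 TorPts21 MatGrp21

attribute [local instance] InvRing21.gamAlg BorelFix21.ptsTop

variable {k : Type u} [Field k] [IsAlgClosed k]

/-- A morphism from a reduced scheme whose rational points lie in a closed subscheme factors through it. -/
theorem exists_lift_closed_of_pts {X H G : Over (Spec (CommRingCat.of k))} [IsReduced X.left]
    [LocallyOfFiniteType X.hom] (i : H ⟶ G) [IsClosedImmersion i.left] (f : X ⟶ G)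
    (hf : ∀ x : VecGrp.pt k k ⟶ X, ∃ h : VecGrp.pt k k ⟶ H, h ≫ i = x ≫ f) : ∃ f' : X ⟶ H, f' ≫ i = f := by
  haveI : IsClosedImmersion (pullback.fst f.left i.left) := MorphismProperty.pullback_fst _ _ ‹IsClosedImmersion i.left›
  let p := pullback.fst f.left i.left
  haveI : Surjective p := ⟨fun ζ => by
    by_contra hζ
    obtain ⟨x, hx⟩ := BorelFix21.exists_pt_mem (G := X) (Z := (Set.range p)ᶜ)
      p.isClosedEmbedding.isClosed_range.isOpen_compl.isLocallyClosed ⟨ζ, hζ⟩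
    obtain ⟨h, hh⟩ := hf x
    refine hx ?_
    rw [Scheme.Pullback.range_fst]
    exact ⟨InvRing21.img h, congrArg InvRing21.img hh⟩⟩
  haveI : IsIso p := isIso_of_isClosedImmersion_of_surjective p
  refine ⟨Over.homMk (inv p ≫ pullback.snd f.left i.left) ?_, Over.OverMorphism.ext ?_⟩
  · rw [← Over.w i, Category.assoc, ← pullback.condition_assoc, IsIso.inv_hom_id_assoc, Over.w f]
  · show (inv p ≫ pullback.snd f.left i.left) ≫ i.left = f.left
    rw [Category.assoc, ← pullback.condition, IsIso.inv_hom_id_assoc]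

/-- The image of a smooth group of finite type in a smooth affine group. -/
theorem exists_image_gen {B Q : Over (Spec (CommRingCat.of k))} [GrpObj B] [GrpObj Q] [Smooth B.hom]
    [QuasiCompact B.hom] [IsAffine Q.left] [Smooth Q.hom] (f : B ⟶ Q) [IsMonHom f] :
    ∃ (H : Over (Spec (CommRingCat.of k))) (_ : GrpObj H) (i : H ⟶ Q) (p : B ⟶ H), IsMonHom i ∧
      IsClosedImmersion i.left ∧ Smooth H.hom ∧ IsMonHom p ∧ Surjective p.left ∧ p ≫ i = f := by
  haveI : QuasiCompact (f.left ≫ Q.hom) := by rw [Over.w f]; infer_instance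
  haveI : QuasiCompact f.left := QuasiCompact.of_comp f.left Q.hom
  let Z : Over (Spec (CommRingCat.of k)) := Over.mk (f.left.imageι ≫ Q.hom)
  let i : Z ⟶ Q := Over.homMk f.left.imageι rfl
  let g : B ⟶ Z := Over.homMk f.left.toImage (by
    show f.left.toImage ≫ f.left.imageι ≫ Q.hom = B.hom
    rw [Scheme.Hom.toImage_imageι_assoc, Over.w])
  have hgi : g ≫ i = f := Over.OverMorphism.ext f.left.toImage_imageι
  haveI : IsClosedImmersion i.left := inferInstanceAs (IsClosedImmersion f.left.imageι)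
  haveI : IsSchemeTheoreticallyDominant g.left := AbRigid.isSchemeTheoreticallyDominant_toImage f.left
  obtain ⟨hZ, hi, hg⟩ := GrpImage19.exists_grpObj f i g hgi
  haveI := GrpImage19.surjective f i g hgi
  haveI := hi
  haveI := hg
  haveI : LocallyOfFiniteType Z.hom := by rw [← Over.w i]; infer_instance
  obtain ⟨H, _, r, hr, hrc, hrs, hHr, hHs⟩ := BorelFix21.exists_reduced_subgroup Z
  haveI := hr
  haveI := hrc
  haveI := hHr
  haveI : IsReduced B.left := OrbitTop19.isReduced_of_smooth B.hom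
  obtain ⟨g', hg'⟩ := PerfProd19.exists_lift_of_surjective r g
  haveI : Mono r := Over.mono_of_mono_left r
  refine ⟨H, inferInstance, r ≫ i, g', inferInstance, inferInstanceAs (IsClosedImmersion (r.left ≫ i.left)), hHs,
    BorelFix21.isMonHom_of_comp r g' (hg'.symm ▸ hg), ⟨fun h => ?_⟩, by rw [← Category.assoc, hg', hgi]⟩
  obtain ⟨w, hw⟩ := g.left.surjective (r.left h)
  exact ⟨w, r.left.isClosedEmbedding.injective ((OrbitTop19.apply_comp_left g' r g hg' w).trans hw)⟩

/-- The image of a connected solvable subgroup is connected solvable. -/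
theorem props_image {B H : Over (Spec (CommRingCat.of k))} [GrpObj B] [GrpObj H] [Smooth H.hom]
    [LocallyOfFiniteType B.hom] [ConnectedSpace ↥B.left] (p : B ⟶ H) [IsMonHom p] [Surjective p.left]
    (hsol : Red.IsSolvableGrp B) : ConnectedSpace ↥H.left ∧ Red.IsSolvableGrp H := by
  haveI : IsSeparated H.hom := AbRigid.isSeparated_of_grpObj H
  refine ⟨p.left.surjective.connectedSpace p.left.continuous, ?_⟩
  obtain ⟨n, hn⟩ := hsol
  refine BorelFix21.isSolvableGrp_of_points ((Group.isSolvable_def _).2 ⟨n, ?_⟩)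
  let F : (VecGrp.pt k k ⟶ B) →* (VecGrp.pt k k ⟶ H) :=
    MonoidHom.mk' (fun x => x ≫ p) (fun x y => MonObj.mul_comp x y p)
  rw [← map_derivedSeries_eq (f := F) (fun y => exists_pt_lift p y) n, hn, Subgroup.map_bot]

set_option synthInstance.maxHeartbeats 80000 in
set_option maxHeartbeats 1600000 in
/-- The reduced preimage of a Borel subgroup of the adjoint group is a Borel subgroup. -/
theorem exists_borel_preimage {G Q Z B' : Over (Spec (CommRingCat.of k))} [GrpObj G] [GrpObj Q] [GrpObj Z]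
    [GrpObj B'] [Smooth G.hom] [QuasiCompact G.hom] [ConnectedSpace ↥G.left] [IsAffine Q.left] [Smooth Q.hom]
    {z : Z ⟶ G} (hZ : Red.IsCentre z) [IsClosedImmersion z.left] {q : G ⟶ Q} [IsMonHom q] [Surjective q.left]
    [Flat q.left] (hker : AlgGrp.IsKernel z q) {iB' : B' ⟶ Q} (hB' : Red.IsBorelOver k iB') :
    ∃ (B : Over (Spec (CommRingCat.of k))) (_ : GrpObj B) (b : B ⟶ G), Red.IsBorelOver k b ∧
      ∀ x : VecGrp.pt k k ⟶ G, (∃ y : VecGrp.pt k k ⟶ B, y ≫ b = x) ↔ ∃ y : VecGrp.pt k k ⟶ B', y ≫ iB' = x ≫ q := by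
  obtain ⟨hm', hc', hs', hn', hsol', hmax'⟩ := id hB'
  haveI := hc'
  haveI : Mono iB'.left :=
    AlgebraicGeometry.SurjectiveOnStalks.mono_of_injective iB'.left.isClosedEmbedding.injective
  haveI : Mono iB' := Over.mono_of_mono_left iB'
  haveI := hm'
  haveI := hs'
  haveI := hn'
  haveI : ConnectedSpace Q.left := q.left.surjective.connectedSpace q.left.continuous
  haveI : IsSeparated G.hom := AbRigid.isSeparated_of_grpObj G
  haveI : CompactSpace G.left := (quasiCompact_iff_compactSpace G.hom).1 inferInstance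
  haveI : IsAffine B'.left := isAffine_of_isAffineHom iB'.left
  have hzm := hZ.1
  haveI := hzm
  have hqz : z ≫ q = 1 := by rw [hker.w, Hom.one_def]
  have hzcen : ∀ (X : Over (Spec (CommRingCat.of k))) (x : X ⟶ Z) (g : X ⟶ G), (x ≫ z) * g = g * (x ≫ z) :=
    fun X x g => by
    have h := (hZ.2.2 X (x ≫ z)).1 ⟨x, rfl⟩ X (𝟙 X) g
    simpa only [Category.id_comp, Category.comp_id] using h
  obtain ⟨H, _, dG, d', hdm, hdc, hH⟩ := TorPts21.exists_subgroup_inter q iB'
  haveI := hdm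
  haveI := hdc
  haveI : LocallyOfFiniteType H.hom := by rw [← Over.w dG]; infer_instance
  obtain ⟨H₀, _, j₀, hjm, hjo, hj0⟩ := BorelFix21.exists_identity_component H
  haveI := hjm
  haveI := hjo
  haveI := hj0
  obtain ⟨G₂, _, p, p₂, hpm, hps, hpf, hp₂m, hp₂s, hp₂, hG₂s, hG₂a, hG₂c, hpepi, hkp⟩ :=
    exists_affine_quotient hZ hker dG j₀ fun x => ⟨hH.lift (x ≫ z) 1 (by
      rw [Category.assoc, hqz, MonObj.comp_one, MonObj.one_comp]), hH.lift_fst _ _ _⟩
  haveI := hpm
  haveI := hps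
  haveI := hp₂m
  haveI := hp₂s
  haveI := hG₂s
  haveI := hG₂a
  haveI := hG₂c
  haveI := hpepi
  obtain ⟨B₂, _, iB₂, pB, hB₂, hpBs, hpB⟩ := BorelFix21.exists_borel_over p₂ iB' hB'
  haveI := hB₂.1
  haveI := hB₂.2.1
  haveI := hB₂.2.2.1
  haveI := hB₂.2.2.2.1
  haveI := hpBs
  haveI : IsAffine B₂.left := isAffine_of_isAffineHom iB₂.left
  haveI : Mono iB₂ := Over.mono_of_mono_left iB₂
  -- rational points over the Borel subgroup
  have hR : ∀ x : VecGrp.pt k k ⟶ G, (∃ y : VecGrp.pt k k ⟶ B', y ≫ iB' = x ≫ q) →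
      ∃ y : VecGrp.pt k k ⟶ B₂, y ≫ iB₂ = x ≫ p := by
    rintro x ⟨y', hy'⟩
    obtain ⟨y, hy⟩ := exists_pt_lift pB y'
    obtain ⟨g, hg⟩ := exists_pt_lift p (y ≫ iB₂)
    have hgx : (x * g⁻¹) ≫ q = 1 := by
      rw [MonObj.mul_comp, GrpObj.inv_comp, ← hy', show g ≫ q = y' ≫ iB' by
        rw [← hp₂, ← Category.assoc, hg, Category.assoc, ← hpB, ← Category.assoc, hy], mul_inv_cancel]
    obtain ⟨w, hw⟩ : ∃ w : VecGrp.pt k k ⟶ Z, w ≫ z = x * g⁻¹ :=
      ⟨hker.lift _ (toUnit _) (by rw [hgx, Hom.one_def]), hker.lift_fst _ _ _⟩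
    obtain ⟨b, hb⟩ := TorPts21.exists_lift_of_central (TorPts21.isBorel_of_isBorelOver hB₂) ((x * g⁻¹) ≫ p)
      (fun W v h => by
        obtain ⟨e, rfl⟩ : ∃ e : W ⟶ VecGrp.pt k k, e = v := ⟨v, rfl⟩
        have he : InvRing21.toPt W = e := (InvRing21.hom_ext_toPt _ _)
        subst he
        let c₀ : VecGrp.pt k k ⟶ G₂ := (x * g⁻¹) ≫ p
        have key : (InvRing21.toPt G₂ ≫ c₀) * 𝟙 G₂ = 𝟙 G₂ * (InvRing21.toPt G₂ ≫ c₀) := by
          rw [← cancel_epi p, MonObj.comp_mul, MonObj.comp_mul, Category.comp_id, ← Category.assoc,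
            InvRing21.comp_toPt]
          have h1 := congrArg (· ≫ p) (hzcen G (InvRing21.toPt G ≫ w) (𝟙 G))
          simp only [MonObj.mul_comp, Category.id_comp, Category.assoc] at h1
          simpa only [c₀, hw.symm, Category.assoc] using h1
        have h2 := congrArg (h ≫ ·) key
        simpa only [c₀, MonObj.comp_mul, Category.comp_id, ← Category.assoc, InvRing21.comp_toPt] using h2)
    exact ⟨b * y, by rw [MonObj.mul_comp, hb, ← hg, ← MonObj.mul_comp, inv_mul_cancel_right]⟩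
  obtain ⟨D, _, eG, e₂, hem, hec, hD⟩ := TorPts21.exists_subgroup_inter p iB₂
  haveI := hem
  haveI := hec
  haveI : LocallyOfFiniteType D.hom := by rw [← Over.w eG]; infer_instance
  haveI : IsMonHom e₂ := BorelFix21.isMonHom_of_comp iB₂ e₂ (hD.w ▸ (inferInstance : IsMonHom (eG ≫ p)))
  haveI : CompactSpace D.left := eG.left.isClosedEmbedding.compactSpace
  obtain ⟨D₀, _, jD, hjDm, hjDo, hD0⟩ := BorelFix21.exists_identity_component D
  haveI := hjDm
  haveI := hjDo
  haveI := hD0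
  haveI : IsClosedImmersion jD.left :=
    IsClosedImmersion.of_isPreimmersion _ (AbRigid.isClosed_range_of_isOpen jD jD.left.isOpenEmbedding.isOpen_range)
  haveI : CompactSpace D₀.left := jD.left.isClosedEmbedding.compactSpace
  haveI : IsClosedImmersion j₀.left :=
    IsClosedImmersion.of_isPreimmersion _ (AbRigid.isClosed_range_of_isOpen j₀ j₀.left.isOpenEmbedding.isOpen_range)
  let u : D ⟶ H := hH.lift eG (e₂ ≫ pB) (by
    rw [← hp₂, ← Category.assoc, hD.w, Category.assoc, ← hpB, Category.assoc])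
  have hu : u ≫ dG = eG := hH.lift_fst _ _ _
  haveI : Mono dG := Over.mono_of_mono_left dG
  haveI : IsMonHom u := BorelFix21.isMonHom_of_comp dG u (hu.symm ▸ hem)
  obtain ⟨v, hv⟩ := BorelFix21.exists_lift_component j₀ j₀.left.isClosedEmbedding.isClosed_range (jD ≫ u)
  have hall : ∀ x : VecGrp.pt k k ⟶ G, (∃ y : VecGrp.pt k k ⟶ B', y ≫ iB' = x ≫ q) →
      ∃ y : VecGrp.pt k k ⟶ H₀, y ≫ j₀ ≫ dG = x := by
    intro x hx
    obtain ⟨y₂, hy₂⟩ := hR x hx
    obtain ⟨a, ha⟩ := forall_exists_lift_component jD e₂ (fun b => by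
      obtain ⟨g, hg⟩ := exists_pt_lift p (b ≫ iB₂)
      exact ⟨hD.lift g b hg, hD.lift_snd _ _ _⟩) y₂
    have e1 : (a ≫ v) ≫ j₀ ≫ dG = a ≫ jD ≫ eG := by
      rw [Category.assoc, ← Category.assoc v, hv, Category.assoc, hu]
    obtain ⟨w, hw⟩ := hkp (x * ((a ≫ v) ≫ j₀ ≫ dG)⁻¹) (by
      rw [e1, MonObj.mul_comp, GrpObj.inv_comp, ← hy₂, ← ha]
      simp only [Category.assoc, hD.w, mul_inv_cancel])
    exact ⟨w * (a ≫ v), by rw [MonObj.mul_comp, hw, inv_mul_cancel_right]⟩
  -- the reduced group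
  haveI : LocallyOfFiniteType H₀.hom := by rw [← Over.w j₀]; infer_instance
  haveI : IsSeparated H₀.hom := AbRigid.isSeparated_of_grpObj H₀
  obtain ⟨B, _, r, hrm, hrc, hrs, hBr, hBsm⟩ := BorelFix21.exists_reduced_subgroup H₀
  haveI := hrm
  haveI := hrc
  haveI := hrs
  haveI := hBr
  haveI := hBsm
  haveI : ConnectedSpace B.left :=
    (r.left.isClosedEmbedding.isEmbedding.toHomeomorphOfSurjective r.left.surjective).symm.surjective.connectedSpace
      (Homeomorph.continuous _)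
  haveI : IsClosedImmersion (r ≫ j₀ ≫ dG).left := by
    rw [Over.comp_left, Over.comp_left]; infer_instance
  have hiff : ∀ x : VecGrp.pt k k ⟶ G, (∃ y : VecGrp.pt k k ⟶ B, y ≫ r ≫ j₀ ≫ dG = x) ↔
      ∃ y : VecGrp.pt k k ⟶ B', y ≫ iB' = x ≫ q := by
    refine fun x => ⟨?_, fun hx => ?_⟩
    · rintro ⟨y, rfl⟩
      exact ⟨y ≫ r ≫ j₀ ≫ d', by simp only [Category.assoc, hH.w]⟩
    · obtain ⟨y, hy⟩ := hall x hx
      obtain ⟨y', hy'⟩ := exists_pt_lift r y
      exact ⟨y', by rw [← Category.assoc, hy', hy]⟩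
  haveI : IsSeparated B.hom := AbRigid.isSeparated_of_grpObj B
  have hsolB : Red.IsSolvableGrp B := by
    refine BorelFix21.isSolvableGrp_of_points ?_
    haveI : IsMonHom d' := BorelFix21.isMonHom_of_comp iB' d' (hH.w ▸ (inferInstance : IsMonHom (dG ≫ q)))
    let F : (VecGrp.pt k k ⟶ B) →* (VecGrp.pt k k ⟶ B') :=
      MonoidHom.mk' (fun x => x ≫ r ≫ j₀ ≫ d') (fun x y => MonObj.mul_comp x y _)
    haveI : Group.IsSolvable (VecGrp.pt k k ⟶ B') := by
      obtain ⟨n, hn⟩ := hsol'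
      exact (Group.isSolvable_def _).2 ⟨n, hn _⟩
    haveI : Group.IsSolvable F.ker := Group.isSolvable_of_comm fun a b => Subtype.ext (by
      haveI : Mono (r ≫ j₀ ≫ dG) := Over.mono_of_mono_left _
      refine (cancel_mono (r ≫ j₀ ≫ dG)).1 ?_
      show (a.1 * b.1) ≫ _ = (b.1 * a.1) ≫ _
      rw [MonObj.mul_comp, MonObj.mul_comp]
      obtain ⟨w, hw⟩ : ∃ w : VecGrp.pt k k ⟶ Z, w ≫ z = a.1 ≫ r ≫ j₀ ≫ dG := by
        refine ⟨hker.lift _ (toUnit _) ?_, hker.lift_fst _ _ _⟩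
        have h1 : a.1 ≫ r ≫ j₀ ≫ d' = 1 := a.2
        have h2 := congrArg (· ≫ iB') h1
        simp only [Category.assoc, ← hH.w, MonObj.one_comp] at h2
        rw [Category.assoc, Category.assoc, Category.assoc, h2, Hom.one_def]
      rw [← hw]
      exact hzcen _ w _)
    exact Group.isSolvable_of_ker_le_range F.ker.subtype F (by rw [Subgroup.range_subtype])
  refine ⟨B, inferInstance, r ≫ j₀ ≫ dG, ⟨inferInstance, inferInstance, inferInstance, inferInstance, hsolB, ?_⟩, hiff⟩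
  intro B'' _ i'' _ f hc'' hs'' hn'' hsol'' hf
  haveI := hc''
  haveI := hs''
  haveI := hn''
  haveI : LocallyOfFiniteType B''.hom := inferInstance
  haveI : CompactSpace B''.left := i''.left.isClosedEmbedding.compactSpace
  haveI : QuasiCompact B''.hom := (quasiCompact_iff_compactSpace B''.hom).2 inferInstance
  obtain ⟨I, _, iI, pI, hiIm, hiIc, hIs, hpIm, hpIs, hpI⟩ := exists_image_gen (i'' ≫ q)
  haveI := hiIm
  haveI := hiIc
  haveI := hIs
  haveI := hpIm
  haveI := hpIs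
  obtain ⟨hIc, hIsol⟩ := props_image pI hsol''
  haveI := OrbitTop19.isReduced_of_smooth B'.hom
  obtain ⟨l, hl⟩ := exists_lift_closed_of_pts iI iB' fun y => by
    obtain ⟨g, hg⟩ := exists_pt_lift q (y ≫ iB')
    obtain ⟨yB, hyB⟩ := (hiff g).2 ⟨y, hg.symm⟩
    exact ⟨yB ≫ f ≫ pI, by simp only [Category.assoc, hpI]; rw [← Category.assoc f, hf, ← Category.assoc, hyB, hg]⟩
  haveI : IsIso l := hmax' I iI l hiIc hIs hIc hIsol hl
  haveI := OrbitTop19.isReduced_of_smooth B''.hom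
  haveI : Mono i'' := Over.mono_of_mono_left i''
  haveI : Mono (r ≫ j₀ ≫ dG) := Over.mono_of_mono_left _
  obtain ⟨m, hm⟩ := exists_lift_closed_of_pts (r ≫ j₀ ≫ dG) i'' fun y =>
    (hiff _).2 ⟨y ≫ pI ≫ inv l, by
      rw [Category.assoc, Category.assoc, show inv l ≫ iB' = iI from (IsIso.inv_comp_eq l).2 hl.symm, hpI,
        Category.assoc]⟩
  exact ⟨m, (cancel_mono (r ≫ j₀ ≫ dG)).1 (by rw [Category.assoc, hm, hf, Category.id_comp]),
    (cancel_mono i'').1 (by rw [Category.assoc, hf, hm, Category.id_comp])⟩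

/-- Every Borel subgroup is the preimage of one of the adjoint group. -/
theorem exists_borel_image {G Q Z B : Over (Spec (CommRingCat.of k))} [GrpObj G] [GrpObj Q] [GrpObj Z]
    [GrpObj B] [Smooth G.hom] [QuasiCompact G.hom] [ConnectedSpace ↥G.left] [IsAffine Q.left] [Smooth Q.hom]
    {z : Z ⟶ G} (hZ : Red.IsCentre z) [IsClosedImmersion z.left] {q : G ⟶ Q} [IsMonHom q] [Surjective q.left]
    [Flat q.left] (hker : AlgGrp.IsKernel z q) {b : B ⟶ G} (hB : Red.IsBorelOver k b) :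
    ∃ (B' : Over (Spec (CommRingCat.of k))) (_ : GrpObj B') (iB' : B' ⟶ Q), Red.IsBorelOver k iB' ∧
      ∀ x : VecGrp.pt k k ⟶ G, (∃ y : VecGrp.pt k k ⟶ B, y ≫ b = x) ↔ ∃ y : VecGrp.pt k k ⟶ B', y ≫ iB' = x ≫ q := by
  obtain ⟨hm, hc, hs, hn, hsol, hmax⟩ := id hB
  haveI := hm
  haveI := hc
  haveI := hs
  haveI := hn
  haveI : ConnectedSpace Q.left := q.left.surjective.connectedSpace q.left.continuous
  haveI : CompactSpace G.left := (quasiCompact_iff_compactSpace G.hom).1 inferInstance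
  haveI : CompactSpace B.left := b.left.isClosedEmbedding.compactSpace
  haveI : QuasiCompact B.hom := (quasiCompact_iff_compactSpace B.hom).2 inferInstance
  obtain ⟨I, _, iI, pI, hiIm, hiIc, hIs, hpIm, hpIs, hpI⟩ := exists_image_gen (b ≫ q)
  haveI := hiIm
  haveI := hiIc
  haveI := hIs
  haveI := hpIm
  haveI := hpIs
  obtain ⟨hIc, hIsol⟩ := props_image pI hsol
  obtain ⟨B', _, iB', fI, hB', hfI⟩ := BorelFix21.exists_le_borel iI hIsol
  obtain ⟨B₁, _, b₁, hB₁, hiff⟩ := exists_borel_preimage hZ hker hB'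
  haveI := hB₁.1
  haveI := hB₁.2.1
  haveI : Mono b₁ := Over.mono_of_mono_left b₁
  haveI := OrbitTop19.isReduced_of_smooth B.hom
  obtain ⟨f, hf⟩ := exists_lift_closed_of_pts b₁ b fun y =>
    (hiff _).2 ⟨y ≫ pI ≫ fI, by rw [Category.assoc, Category.assoc, hfI, hpI, Category.assoc]⟩
  haveI : IsIso f := hmax B₁ b₁ f hB₁.2.1 hB₁.2.2.1 hB₁.2.2.2.1 hB₁.2.2.2.2.1 hf
  refine ⟨B', inferInstance, iB', hB', fun x => Iff.trans ⟨?_, ?_⟩ (hiff x)⟩
  · rintro ⟨y, rfl⟩; exact ⟨y ≫ f, by rw [Category.assoc, hf]⟩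
  · rintro ⟨y, rfl⟩; exact ⟨y ≫ inv f, by rw [Category.assoc, show inv f ≫ b = b₁ from (IsIso.inv_comp_eq f).2 hf.symm]⟩

/-- Every rational point of a connected group lies in a Borel subgroup. -/
theorem exists_borel_mem {G : Over (Spec (CommRingCat.of k))} [GrpObj G] [Smooth G.hom] [QuasiCompact G.hom]
    [ConnectedSpace ↥G.left] (g : 𝟙_ (Over (Spec (CommRingCat.of k))) ⟶ G) :
    ∃ (B : Over (Spec (CommRingCat.of k))) (_ : GrpObj B) (b : B ⟶ G), Red.IsBorelOver k b ∧
      ∃ g' : 𝟙_ (Over (Spec (CommRingCat.of k))) ⟶ B, g' ≫ b = g := by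
  obtain ⟨Z, _, z, Q, _, q, hZ, hzc, hqm, hqs, hqf, hker, hQa, hQs, hQc⟩ := exists_centre_quotient G
  haveI := hzc
  haveI := hqm
  haveI := hqs
  haveI := hqf
  haveI := hQa
  haveI := hQs
  haveI := hQc
  obtain ⟨B₀, _, b₀, hB₀, -⟩ := BorelFix21.exists_isBorelOver Q
  obtain ⟨x, y, hxy⟩ := TorPts21.exists_conj_mem_borel b₀ hB₀ (g ≫ q)
  obtain ⟨B, _, b, hB, hiff⟩ := exists_borel_preimage hZ hker (BorelFix21.isBorelOver_conj b₀ hB₀ x⁻¹)
  obtain ⟨w, hw⟩ := (hiff (gpt g)).2 ⟨gpt y, by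
    simp only [gpt, MonObj.comp_mul, GrpObj.comp_inv, ← Category.assoc, comp_toUnit, inv_inv]
    rw [Category.assoc _ g q, ← hxy]
    simp only [MonObj.comp_mul, GrpObj.comp_inv, Category.assoc]⟩
  refine ⟨B, inferInstance, b, hB, InvRing21.toPt _ ≫ w, ?_⟩
  rw [Category.assoc, hw, gpt, ← Category.assoc, toUnit_unique (InvRing21.toPt _ ≫ toUnit _) (𝟙 _), Category.id_comp]

end Groth.Agent.AttrBorel21
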