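import Groth.Agent.Lib.AttrBorel21.BorelFacts
import Groth.Agent.Lib.TorPts21.FiniteBorels
import Groth.Agent.Lib.TorPts21.WeylFixed
import Groth.Agent.Lib.TorPts21.BorelNormalizer
import Groth.Agent.Lib.TorPts21.BorelCent
import Groth.Agent.Lib.TorPts21.Sep

/-!
# Cartan subgroups of connected groups lie in Borel subgroups
-/

set_option autoImplicit false
set_option linter.style.haveILetI false
set_option linter.unusedSectionVars false
set_option backward.isDefEq.respectTransparency.types false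
universe u

open CategoryTheory Limits MonoidalCategory CartesianMonoidalCategory MonObj AlgebraicGeometry

noncomputable section

namespace Groth.Agent.AttrBorel21

open InvRing21 TorPts21 MatGrp21

attribute [local instance] InvRing21.gamAlg BorelFix21.ptsTop

variable {k : Type u} [Field k] [IsAlgClosed k]

/-- A morphism out of a torus trivial on torsion of invertible order is trivial. -/
theorem eq_one_of_forall_tors {G S : Over (Spec (CommRingCat.of k))} [GrpObj G] [GrpObj S]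
    [LocallyOfFiniteType G.hom] (hS : Red.IsTorus S) (f : S ⟶ G)
    (h : ∀ (t : VecGrp.pt k k ⟶ S) (n : ℕ), (n : k) ≠ 0 → t ^ n = 1 → t ≫ f = 1) : f = 1 := by
  obtain ⟨hSa, hSs, -, -⟩ := TorPts21.props_of_isTorus hS
  haveI := hSa
  haveI := hSs
  obtain ⟨d, ⟨C⟩⟩ := exists_chars hS
  obtain ⟨n, r, hr, hrc⟩ := GrassAct21.exists_embedding_GL S
  haveI := hr
  haveI := hrc
  haveI : IsSeparated G.hom := AbRigid.isSeparated_of_grpObj G
  haveI := OrbitTop19.isReduced_of_smooth S.hom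
  refine TorPts21.eq_one_of_forall_pts f fun x => ?_
  have hcl : IsClosed ((fun y => y ≫ f) ⁻¹' ({1} : Set (VecGrp.pt k k ⟶ G))) := by
    refine IsClosed.preimage (continuous_pts_comp f) ?_
    have hs : ({1} : Set (VecGrp.pt k k ⟶ G)) = InvRing21.img ⁻¹' {InvRing21.img (1 : VecGrp.pt k k ⟶ G)} :=
      Set.ext fun z => ⟨fun h => congrArg InvRing21.img h, fun h => pt_ext h⟩
    rw [hs]
    exact (isClosed_singleton_img _).preimage continuous_induced_dom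
  have hx : mtx r x ∈ closure (MatGrp21.tors ((mtx r).range : Set (GL (Fin n) k))) := range_mtx_dense C r ⟨x, rfl⟩
  have hsub : MatGrp21.tors ((mtx r).range : Set (GL (Fin n) k)) ⊆ mtxFn r '' ((fun y => y ≫ f) ⁻¹' {1}) := by
    rintro _ ⟨⟨t, rfl⟩, L, hL, hLt⟩
    exact ⟨t, h t L hL (mtxFn_injective r (by rw [← mtx_apply, map_pow, hLt]; exact (map_one (mtx r)).symm)), rfl⟩
  obtain ⟨x', hx', hxx'⟩ := closure_minimal hsub (isClosed_image_mtxFn r hcl) hx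
  rw [mtxFn_injective r hxx'] at hx'
  exact hx'

set_option maxHeartbeats 1000000 in
/-- A connected group in which the normaliser of a maximal torus centralises it is solvable. -/
theorem isSolvableGrp_of_weyl_trivial {L T : Over (Spec (CommRingCat.of k))} [GrpObj L] [GrpObj T] [IsAffine L.left]
    [Smooth L.hom] [ConnectedSpace ↥L.left] {iT : T ⟶ L} (hT : AGF.IsMaxTorus iT)
    (hW : ∀ n : VecGrp.pt k k ⟶ L,
      (∀ τ : VecGrp.pt k k ⟶ T, ∃ τ' : VecGrp.pt k k ⟶ T, n * (τ ≫ iT) * n⁻¹ = τ' ≫ iT) →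
      ∀ σ : VecGrp.pt k k ⟶ T, n * (σ ≫ iT) = (σ ≫ iT) * n) : Red.IsSolvableGrp L := by
  classical
  haveI := hT.1
  haveI := hT.2.1
  obtain ⟨B, _, iB, t, hB, ht⟩ := TorPts21.exists_borel_containing iT hT.2.2.1
  obtain ⟨hm, hc, hs, hn, hsol, -⟩ := id hB
  haveI := hm
  haveI := hc
  haveI := hs
  haveI := hn
  haveI : Mono iB := Over.mono_of_mono_left iB
  obtain ⟨-, hTs, -, -⟩ := TorPts21.props_of_isTorus hT.2.2.1
  haveI := hTs
  haveI := OrbitTop19.isReduced_of_smooth T.hom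
  have hmem : ∀ (x : VecGrp.pt k k ⟶ L) (σ : VecGrp.pt k k ⟶ T), ∃ β : VecGrp.pt k k ⟶ B,
      β ≫ iB = x⁻¹ * (σ ≫ iT) * x :=
    exists_pt_mem_borel_of_weyl_invariant hB hT t ht hT.2.2.1 iT (𝟙 T) (Category.id_comp iT) hW
  let A : (VecGrp.pt k k ⟶ L) → (𝟙_ (Over (Spec (CommRingCat.of k))) ⟶ L) := fun x => InvRing21.toPt _ ≫ x
  have hA : ∀ x, gpt (A x) = x := fun x => by
    simp only [A, gpt, ← Category.assoc, InvRing21.comp_toPt, InvRing21.toPt_pt, Category.id_comp]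
  let Φ : (VecGrp.pt k k ⟶ L) → Subobject L := fun x =>
    @Subobject.mk _ _ _ _ (AGF.conjBy (A x) iB) (mono_conjBy (A x) iB)
  have hΦ : (Set.range Φ).Finite := by
    refine (TorPts21.finite_borels hT).subset ?_
    rintro _ ⟨x, rfl⟩
    haveI := mono_conjBy (A x) iB
    have hBx : Red.IsBorelOver k (AGF.conjBy (A x) iB) := by
      have h := BorelFix21.isBorelOver_conj iB hB (A x)⁻¹
      rwa [show (toUnit B ≫ (A x)⁻¹)⁻¹ * iB * (toUnit B ≫ (A x)⁻¹) = AGF.conjBy (A x) iB by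
        simp only [AGF.conjBy, GrpObj.comp_inv, inv_inv]] at h
    haveI := hBx.2.1
    obtain ⟨t', ht'⟩ := exists_lift_closed_of_pts (AGF.conjBy (A x) iB) iT fun σ => by
      obtain ⟨β, hβ⟩ := hmem x σ
      refine ⟨β, ?_⟩
      rw [comp_conjBy, hβ, show toUnit (VecGrp.pt k k) ≫ A x = x from hA x]
      group
    exact ⟨B, inferInstance, _, inferInstance, hBx, ⟨t', ht'⟩, rfl⟩
  have hnorm := TorPts21.isNormalizerOf_borel (TorPts21.isBorel_of_isBorelOver hB)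
  let R : (VecGrp.pt k k ⟶ L) → Set (VecGrp.pt k k ⟶ L) := fun y => {x | ∃ β : VecGrp.pt k k ⟶ B, β ≫ iB = y⁻¹ * x}
  have hRcl : ∀ y, IsClosed (R y) := fun y => by
    have : R y = (fun x => y⁻¹ * x) ⁻¹' (InvRing21.img ⁻¹' Set.range iB.left) := Set.ext fun x => by
      refine ⟨fun ⟨β, hβ⟩ => ⟨InvRing21.img β, congrArg InvRing21.img hβ⟩, fun hx => ?_⟩
      obtain ⟨β, hβ⟩ := BorelFix21.exists_pt_mem (G := B)
        ((isClosed_singleton_img (y⁻¹ * x)).preimage iB.left.continuous).isLocallyClosed hx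
      exact ⟨β, pt_ext hβ⟩
    rw [this]
    exact (iB.left.isClosedEmbedding.isClosed_range.preimage continuous_induced_dom).preimage
      (BorelFix21.continuous_mul_left _)
  have hfib : ∀ x y, Φ x = Φ y → x ∈ R y := fun x y hxy => by
    haveI := mono_conjBy (A x) iB
    haveI := mono_conjBy (A y) iB
    let φ := Subobject.isoOfMkEqMk _ _ hxy
    have hφ : φ.hom ≫ AGF.conjBy (A y) iB = AGF.conjBy (A x) iB := Subobject.ofMkLEMk_comp _
    have hnw : NormalizesSub iB ((A y)⁻¹ * A x) := fun X' e h => by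
      have e0 : ∀ (u : X' ⟶ B), (toUnit X' ≫ A y) * (u ≫ φ.hom ≫ iB) * (toUnit X' ≫ A y)⁻¹ =
          (toUnit X' ≫ A x) * (u ≫ iB) * (toUnit X' ≫ A x)⁻¹ := fun u => by
        have := congrArg (u ≫ ·) hφ
        simpa only [← Category.assoc, comp_conjBy] using this
      rw [toUnit_unique e (toUnit X'), MonObj.comp_mul, GrpObj.comp_inv]
      refine ⟨⟨h ≫ φ.hom, ?_⟩, ⟨h ≫ φ.inv, ?_⟩⟩
      · rw [Category.assoc]
        calc _ = (toUnit X' ≫ A y)⁻¹ * ((toUnit X' ≫ A x) * (h ≫ iB) * (toUnit X' ≫ A x)⁻¹) * (toUnit X' ≫ A y) := by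
              group
          _ = _ := by rw [← e0 h]; group
      · have e2 := e0 (h ≫ φ.inv)
        rw [Category.assoc h φ.inv, Iso.inv_hom_id_assoc] at e2
        calc _ = (toUnit X' ≫ A x)⁻¹ * ((toUnit X' ≫ A y) * (h ≫ iB) * (toUnit X' ≫ A y)⁻¹) * (toUnit X' ≫ A x) := by
              group
          _ = _ := by rw [e2]; group
    obtain ⟨β, hβ⟩ := (hnorm.2.2 _ ((A y)⁻¹ * A x)).2 hnw
    refine ⟨toUnit _ ≫ β, ?_⟩
    rw [Category.assoc, hβ, MonObj.comp_mul, GrpObj.comp_inv]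
    exact congrArg₂ (fun a b => a⁻¹ * b) (hA y) (hA x)
  haveI := BorelFix21.preconnectedSpace_pts (G := L)
  have hR1 : IsClopen (R 1) := by
    refine ⟨hRcl 1, isClosed_compl_iff.1 ?_⟩
    choose rep hrep using fun v : Set.range Φ => v.2
    haveI := hΦ.to_subtype
    have : (R 1)ᶜ = ⋃ v ∈ {v : Set.range Φ | rep v ∉ R 1}, R (rep v) := Set.ext fun x => by
      simp only [Set.mem_compl_iff, Set.mem_iUnion]
      constructor
      · intro hx
        have hxv := hfib x (rep ⟨Φ x, x, rfl⟩) (hrep ⟨Φ x, x, rfl⟩).symm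
        refine ⟨⟨Φ x, x, rfl⟩, fun ⟨β, hβ⟩ => hx ?_, hxv⟩
        obtain ⟨γ', hγ'⟩ := hxv
        exact ⟨β * γ', by rw [MonObj.mul_comp, hβ, hγ', inv_one, _root_.one_mul, _root_.one_mul, mul_inv_cancel_left]⟩
      · rintro ⟨v, hv, γ', hγ'⟩ ⟨β, hβ⟩
        refine hv ⟨β * γ'⁻¹, ?_⟩
        rw [MonObj.mul_comp, GrpObj.inv_comp, hβ, hγ', inv_one, _root_.one_mul, _root_.one_mul, _root_.mul_inv_rev,
          _root_.inv_inv, mul_inv_cancel_left]
    rw [this]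
    exact (Set.toFinite _).isClosed_biUnion fun v _ => hRcl _
  have huniv : R 1 = Set.univ := hR1.eq_univ ⟨1, 1, by rw [MonObj.one_comp, inv_one, _root_.one_mul]⟩
  haveI : IsReduced L.left := OrbitTop19.isReduced_of_smooth L.hom
  obtain ⟨w, hw⟩ := exists_lift_closed_of_pts iB (𝟙 L) fun x => by
    obtain ⟨β, hβ⟩ : x ∈ R 1 := by rw [huniv]; trivial
    exact ⟨β, by rw [hβ, inv_one, _root_.one_mul, Category.comp_id]⟩
  haveI : IsIso iB := ⟨w, (cancel_mono iB).1 (by rw [Category.assoc, hw, Category.comp_id, Category.id_comp]), hw⟩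
  exact BorelFix21.isSolvableGrp_of_isIso iB hsol

/-- Commutators of lifts are central when the images commute. -/
theorem exists_central_commutator {G Q Z : Over (Spec (CommRingCat.of k))} [GrpObj G] [GrpObj Q] {z : Z ⟶ G}
    {q : G ⟶ Q} [IsMonHom q] (hker : AlgGrp.IsKernel z q) {X : Over (Spec (CommRingCat.of k))} (a b : X ⟶ G)
    (hab : (a ≫ q) * (b ≫ q) = (b ≫ q) * (a ≫ q)) : ∃ w : X ⟶ Z, w ≫ z = a * b * a⁻¹ * b⁻¹ :=
  ⟨hker.lift _ (toUnit X) (by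
    rw [MonObj.mul_comp, MonObj.mul_comp, MonObj.mul_comp, GrpObj.inv_comp, GrpObj.inv_comp, hab, mul_inv_cancel_right,
      mul_inv_cancel, Hom.one_def]), hker.lift_fst _ _ _⟩

/-- Elements killed by the quotient map by the centre are central. -/
theorem commute_of_comp_eq_one {G Q Z X : Over (Spec (CommRingCat.of k))} [GrpObj G] [GrpObj Q]
    {z : Z ⟶ G} [GrpObj Z] (hZ : Red.IsCentre z) {q : G ⟶ Q} (hker : AlgGrp.IsKernel z q) (a g : X ⟶ G)
    (ha : a ≫ q = 1) : a * g = g * a := by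
  have hw := hker.lift_fst a (toUnit X) (by rw [ha, Hom.one_def])
  have h := (hZ.2.2 X (hker.lift a (toUnit X) (by rw [ha, Hom.one_def]) ≫ z)).1 ⟨_, rfl⟩ X (𝟙 X) g
  rw [hw] at h
  simpa only [Category.id_comp, Category.comp_id] using h

/-- Points of a torus in a quotient lift to the preimage. -/
theorem exists_pt_lift_pullback {G Q H S : Over (Spec (CommRingCat.of k))} [GrpObj G] [GrpObj Q] [Smooth G.hom]
    [Smooth Q.hom] [IsAffine Q.left] {q : G ⟶ Q} [Surjective q.left] {dG : H ⟶ G} {dS : H ⟶ S} {u : S ⟶ Q}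
    (hH : IsPullback dG dS q u) (t : VecGrp.pt k k ⟶ S) : ∃ h : VecGrp.pt k k ⟶ H, h ≫ dS = t := by
  obtain ⟨g, hg⟩ := exists_pt_lift q (t ≫ u)
  exact ⟨hH.lift g t hg, hH.lift_snd _ _ _⟩

set_option maxHeartbeats 1000000 in
/-- The commutator with a point descends to the torus. -/
theorem exists_desc_commutator {G Q Z H S : Over (Spec (CommRingCat.of k))} [GrpObj G] [GrpObj Q] [GrpObj Z]
    {z : Z ⟶ G} (hZ : Red.IsCentre z) {q : G ⟶ Q} [IsMonHom q] (hq : QuotField20.IsFppf q)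
    (hker : AlgGrp.IsKernel z q) {dG : H ⟶ G} {dS : H ⟶ S} {u : S ⟶ Q}
    (hH : IsPullback dG dS q u) (c₀ : VecGrp.pt k k ⟶ G) :
    ∃ ψ : S ⟶ G, ∀ h : VecGrp.pt k k ⟶ H, (h ≫ dS) ≫ ψ = c₀ * (h ≫ dG) * c₀⁻¹ * (h ≫ dG)⁻¹ := by
  have hdSf : QuotField20.IsFppf dS :=
    QuotField20.IsFppf.of_isPullback_left ((hH.map (Over.forget _)).flip) hq
  have hqH : ∀ {X : Over (Spec (CommRingCat.of k))} (h : X ⟶ H), (h ≫ dG) ≫ q = (h ≫ dS) ≫ u := fun h => by
    rw [Category.assoc, hH.w, Category.assoc]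
  have hinvar : ∀ {X : Over (Spec (CommRingCat.of k))} (a b : X ⟶ H), a ≫ dS = b ≫ dS →
      (InvRing21.toPt X ≫ c₀) * (a ≫ dG) * (InvRing21.toPt X ≫ c₀)⁻¹ * (a ≫ dG)⁻¹ =
        (InvRing21.toPt X ≫ c₀) * (b ≫ dG) * (InvRing21.toPt X ≫ c₀)⁻¹ * (b ≫ dG)⁻¹ := by
    intro X a b hab
    obtain ⟨x, hx, hxa⟩ : ∃ x : X ⟶ G, x ≫ q = 1 ∧ x * (b ≫ dG) = a ≫ dG := ⟨(a ≫ dG) * (b ≫ dG)⁻¹, by
      rw [MonObj.mul_comp, GrpObj.inv_comp, hqH, hqH, hab, mul_inv_cancel], by rw [inv_mul_cancel_right]⟩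
    have h1 : Commute x (InvRing21.toPt X ≫ c₀) := commute_of_comp_eq_one hZ hker x _ hx
    rw [← hxa]
    calc _ = (InvRing21.toPt X ≫ c₀) * x * (b ≫ dG) * (InvRing21.toPt X ≫ c₀)⁻¹ * (b ≫ dG)⁻¹ * x⁻¹ := by group
      _ = x * ((InvRing21.toPt X ≫ c₀) * (b ≫ dG) * (InvRing21.toPt X ≫ c₀)⁻¹ * (b ≫ dG)⁻¹) * x⁻¹ := by
        rw [← h1.eq]; group
      _ = _ := by rw [commute_of_comp_eq_one hZ hker x _ hx, mul_inv_cancel_right]
  obtain ⟨ψ, hψ⟩ := hdSf.exists_desc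
    ((InvRing21.toPt H ≫ c₀) * dG * (InvRing21.toPt H ≫ c₀)⁻¹ * dG⁻¹) fun {X} a b hab => by
      simp only [MonObj.comp_mul, GrpObj.comp_inv, ← Category.assoc, InvRing21.comp_toPt]
      exact hinvar a b hab
  refine ⟨ψ, fun h => ?_⟩
  rw [Category.assoc, hψ]
  simp only [MonObj.comp_mul, GrpObj.comp_inv, ← Category.assoc, InvRing21.comp_toPt, InvRing21.toPt_pt,
    Category.id_comp]

set_option maxHeartbeats 1000000 in
/-- The preimage of a torus under a central quotient is commutative. -/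
theorem commute_preimage_torus {G Q Z H S : Over (Spec (CommRingCat.of k))} [GrpObj G] [GrpObj Q] [GrpObj Z]
    [GrpObj H] [GrpObj S] [Smooth G.hom] [Smooth Q.hom] [IsAffine Q.left] {z : Z ⟶ G} (hZ : Red.IsCentre z)
    {q : G ⟶ Q} [IsMonHom q] [Surjective q.left] (hq : QuotField20.IsFppf q) (hker : AlgGrp.IsKernel z q)
    {u : S ⟶ Q} [IsMonHom u] (hS : Red.IsTorus S) {dG : H ⟶ G} {dS : H ⟶ S} [IsMonHom dG]
    (hH : IsPullback dG dS q u) (a h' : VecGrp.pt k k ⟶ H) :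
    (a ≫ dG) * (h' ≫ dG) = (h' ≫ dG) * (a ≫ dG) := by
  have hqH : ∀ {X : Over (Spec (CommRingCat.of k))} (h : X ⟶ H), (h ≫ dG) ≫ q = (h ≫ dS) ≫ u := fun h => by
    rw [Category.assoc, hH.w, Category.assoc]
  obtain ⟨ψ, hψ⟩ := exists_desc_commutator hZ hq hker hH (h' ≫ dG)
  have h1 : ψ = 1 := eq_one_of_forall_tors hS ψ fun t L hL htL => by
    obtain ⟨h, hh⟩ := exists_pt_lift_pullback hH t
    have hL0 : 0 < L := Nat.pos_of_ne_zero fun e => hL (by rw [e, Nat.cast_zero])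
    obtain ⟨s', hs'⟩ := TorPts21.exists_pow_eq hS hL0 (h' ≫ dS)
    obtain ⟨hs, hhs⟩ := exists_pt_lift_pullback hH s'
    rw [← hh, hψ]
    have hq1 : ((h ≫ dG) ^ L) ≫ q = 1 := by
      rw [MonObj.pow_comp, hqH, ← MonObj.pow_comp, hh, htL, MonObj.one_comp]
    have hq2 : ((h' ≫ dG) * ((hs ≫ dG) ^ L)⁻¹) ≫ q = 1 := by
      rw [MonObj.mul_comp, GrpObj.inv_comp, MonObj.pow_comp, hqH, hqH, ← MonObj.pow_comp, hhs, hs',
        mul_inv_cancel]
    obtain ⟨w, hw⟩ := exists_central_commutator hker (hs ≫ dG) (h ≫ dG) (by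
      rw [hqH, hqH, ← MonObj.mul_comp (hs ≫ dS) (h ≫ dS) u, ← MonObj.mul_comp (h ≫ dS) (hs ≫ dS) u,
        mul_comm_of_isTorus hS (hs ≫ dS) (h ≫ dS)])
    set c := (hs ≫ dG) * (h ≫ dG) * (hs ≫ dG)⁻¹ * (h ≫ dG)⁻¹ with hc
    have hccen : ∀ g, c * g = g * c := fun g => by
      have hz := (hZ.2.2 _ (w ≫ z)).1 ⟨w, rfl⟩ _ (𝟙 _) g
      simpa only [Category.id_comp, Category.comp_id, hw] using hz
    have hconjh : MulAut.conj (hs ≫ dG) (h ≫ dG) = c * (h ≫ dG) := by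
      rw [MulAut.conj_apply, hc, inv_mul_cancel_right]
    have hcL : c ^ L = 1 := by
      have h3 := congrArg (· ^ L) hconjh
      simp only [← map_pow, (show Commute c (h ≫ dG) from hccen _).mul_pow] at h3
      rw [MulAut.conj_apply, ← commute_of_comp_eq_one hZ hker _ (hs ≫ dG) hq1, mul_inv_cancel_right] at h3
      exact mul_eq_right.1 h3.symm
    have hpow : ∀ j : ℕ, (hs ≫ dG) ^ j * (h ≫ dG) * ((hs ≫ dG) ^ j)⁻¹ = c ^ j * (h ≫ dG) := fun j => by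
      induction j with
      | zero => simp
      | succ j ih =>
        calc _ = (hs ≫ dG) * ((hs ≫ dG) ^ j * (h ≫ dG) * ((hs ≫ dG) ^ j)⁻¹) * (hs ≫ dG)⁻¹ := by
              rw [pow_succ']; group
          _ = MulAut.conj (hs ≫ dG) (c ^ j * (h ≫ dG)) := by rw [ih, MulAut.conj_apply]
          _ = _ := by
            rw [map_mul, hconjh, MulAut.conj_apply, ← ((show Commute c (hs ≫ dG) from hccen _).pow_left j).eq,
              mul_inv_cancel_right, pow_succ, _root_.mul_assoc (c ^ j) c]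
    have hx : Commute ((h' ≫ dG) * ((hs ≫ dG) ^ L)⁻¹) (h ≫ dG) := commute_of_comp_eq_one hZ hker _ _ hq2
    have hy : Commute ((hs ≫ dG) ^ L) (h ≫ dG) := by
      refine mul_inv_eq_iff_eq_mul.1 ?_
      rw [hpow L, hcL, _root_.one_mul]
    have hxy := (hx.mul_left hy).eq
    rw [inv_mul_cancel_right] at hxy
    rw [mul_inv_eq_one, mul_inv_eq_iff_eq_mul]
    exact hxy
  have h2 := hψ a
  rw [h1, MonObj.comp_one] at h2
  exact (mul_inv_eq_iff_eq_mul.1 (mul_inv_eq_one.1 h2.symm)).symm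

set_option maxHeartbeats 1000000 in
/-- The commutator with a point normalising the preimage is a homomorphism on the torus. -/
theorem exists_hom_commutator {G Q Z H S : Over (Spec (CommRingCat.of k))} [GrpObj G] [GrpObj Q] [GrpObj Z]
    [GrpObj H] [GrpObj S] [Smooth G.hom] [Smooth Q.hom] [IsAffine Q.left] {z : Z ⟶ G} (hZ : Red.IsCentre z)
    {q : G ⟶ Q} [IsMonHom q] [Surjective q.left] (hq : QuotField20.IsFppf q) (hker : AlgGrp.IsKernel z q)
    {u : S ⟶ Q} [IsMonHom u] (hS : Red.IsTorus S) {dG : H ⟶ G} {dS : H ⟶ S} [IsMonHom dG] [IsMonHom dS]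
    (hH : IsPullback dG dS q u) (c₀ : VecGrp.pt k k ⟶ G)
    (hδ : ∀ h : VecGrp.pt k k ⟶ H, ∃ h₂ : VecGrp.pt k k ⟶ H, h₂ ≫ dG = c₀ * (h ≫ dG) * c₀⁻¹ * (h ≫ dG)⁻¹) :
    ∃ ψ : S ⟶ G, IsMonHom ψ ∧
      ∀ h : VecGrp.pt k k ⟶ H, (h ≫ dS) ≫ ψ = c₀ * (h ≫ dG) * c₀⁻¹ * (h ≫ dG)⁻¹ := by
  obtain ⟨hSa, hSs, -, -⟩ := TorPts21.props_of_isTorus hS
  haveI := hSa
  haveI := hSs
  haveI : IsSeparated G.hom := AbRigid.isSeparated_of_grpObj G
  obtain ⟨ψ, hψ⟩ := exists_desc_commutator hZ hq hker hH c₀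
  refine ⟨ψ, isMonHom_of_forall_mul ψ fun X x y => ?_, hψ⟩
  haveI : Smooth (S ⊗ S).hom := inferInstanceAs (Smooth (pullback.fst S.hom S.hom ≫ S.hom))
  haveI := OrbitTop19.isReduced_of_smooth (S ⊗ S).hom
  let E : S ⊗ S ⟶ G := ((fst S S * snd S S) ≫ ψ) * ((fst S S ≫ ψ) * (snd S S ≫ ψ))⁻¹
  have hE : E = 1 := TorPts21.eq_one_of_forall_pts E fun p => by
    obtain ⟨a, ha⟩ := exists_pt_lift_pullback hH (p ≫ fst S S)
    obtain ⟨b, hb⟩ := exists_pt_lift_pullback hH (p ≫ snd S S)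
    simp only [E, MonObj.comp_mul, GrpObj.comp_inv, ← Category.assoc]
    rw [mul_inv_eq_one, ← ha, ← hb, ← MonObj.mul_comp a b dS, hψ, hψ, hψ, MonObj.mul_comp a b dG]
    obtain ⟨h₂, hh₂⟩ := hδ b
    have hcm : Commute (a ≫ dG) (c₀ * (b ≫ dG) * c₀⁻¹ * (b ≫ dG)⁻¹) := by
      rw [← hh₂]; exact commute_preimage_torus hZ hq hker hS hH a h₂
    calc c₀ * ((a ≫ dG) * (b ≫ dG)) * c₀⁻¹ * ((a ≫ dG) * (b ≫ dG))⁻¹
        = c₀ * (a ≫ dG) * c₀⁻¹ * ((c₀ * (b ≫ dG) * c₀⁻¹ * (b ≫ dG)⁻¹) * (a ≫ dG)⁻¹) := by group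
      _ = c₀ * (a ≫ dG) * c₀⁻¹ * ((a ≫ dG)⁻¹ * (c₀ * (b ≫ dG) * c₀⁻¹ * (b ≫ dG)⁻¹)) := by rw [hcm.inv_left.eq]
      _ = _ := by group
  have h := congrArg (lift x y ≫ ·) hE
  simp only [E, MonObj.comp_mul, GrpObj.comp_inv, ← Category.assoc, MonObj.comp_one, lift_fst, lift_snd] at h
  exact mul_inv_eq_one.1 h

set_option maxHeartbeats 1000000 in
/-- The displacement of a normalising point lands in the image of the torus. -/
theorem exists_factor_displacement {G Q Z H S T : Over (Spec (CommRingCat.of k))} [GrpObj G] [GrpObj Q] [GrpObj Z]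
    [GrpObj H] [GrpObj S] [GrpObj T] [Smooth G.hom] [QuasiCompact G.hom] [Smooth Q.hom] [IsAffine Q.left]
    {z : Z ⟶ G} (hZ : Red.IsCentre z) {q : G ⟶ Q} [IsMonHom q] [Surjective q.left] (hq : QuotField20.IsFppf q)
    (hker : AlgGrp.IsKernel z q) {i : T ⟶ G} (hT : AGF.IsMaxTorus i) {u : S ⟶ Q} [IsMonHom u]
    (hS : Red.IsTorus S) {dG : H ⟶ G} {dS : H ⟶ S} [IsMonHom dG] [IsMonHom dS]
    (hH : IsPullback dG dS q u) (e : T ⟶ S) (he : e ≫ u = i ≫ q) (c₀ : VecGrp.pt k k ⟶ G)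
    (hδ : ∀ h : VecGrp.pt k k ⟶ H, ∃ h₂ : VecGrp.pt k k ⟶ H, h₂ ≫ dG = c₀ * (h ≫ dG) * c₀⁻¹ * (h ≫ dG)⁻¹) :
    ∃ g : S ⟶ T, ∀ h : VecGrp.pt k k ⟶ H, (h ≫ dS) ≫ g ≫ i = c₀ * (h ≫ dG) * c₀⁻¹ * (h ≫ dG)⁻¹ := by
  haveI := hT.1
  haveI := hT.2.1
  haveI : IsSeparated G.hom := AbRigid.isSeparated_of_grpObj G
  obtain ⟨ψ, hψm, hψ⟩ := exists_hom_commutator hZ hq hker hS hH c₀ hδ
  haveI := hψm
  have hc : ∀ (x : VecGrp.pt k k ⟶ S) (y : VecGrp.pt k k ⟶ T) (g : VecGrp.pt k k ⟶ G),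
      g * ((x ≫ ψ) * (y ≫ i) * (x ≫ ψ)⁻¹ * (y ≫ i)⁻¹) = ((x ≫ ψ) * (y ≫ i) * (x ≫ ψ)⁻¹ * (y ≫ i)⁻¹) * g := by
    intro x y g
    obtain ⟨a, ha⟩ := exists_pt_lift_pullback hH x
    obtain ⟨h₂, hh₂⟩ := hδ a
    have hyT : (y ≫ i) ≫ q = (y ≫ e) ≫ u := by
      rw [Category.assoc, Category.assoc, he]
    have := commute_preimage_torus hZ hq hker hS hH h₂ (hH.lift (y ≫ i) (y ≫ e) hyT)
    rw [hH.lift_fst, hh₂, ← hψ a, ha] at this
    rw [this, mul_inv_cancel_right, mul_inv_cancel, _root_.mul_one, _root_.one_mul]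
  obtain ⟨R', _, m', g₁, g₂, hm', hmono', hR', hg₁, hg₂⟩ := exists_torus_ge_of_commute hS hT.2.2.1 ψ i
    (commute_tori_of_central hS hT.2.2.1 ψ i hc)
  haveI := hm'
  haveI := hmono'
  haveI : IsIso g₂ := hT.2.2.2 R' m' g₂ hR' hg₂
  refine ⟨g₁ ≫ inv g₂, fun h => ?_⟩
  rw [← hψ h, Category.assoc g₁, show inv g₂ ≫ i = m' from (IsIso.inv_comp_eq g₂).2 hg₂.symm, hg₁]

set_option synthInstance.maxHeartbeats 80000 in
set_option maxHeartbeats 1600000 in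
/-- In the centraliser of the image of a maximal torus, the normaliser of a maximal torus centralises it. -/
theorem weyl_trivial_centralizer {G Q Z T L S : Over (Spec (CommRingCat.of k))} [GrpObj G] [GrpObj Q] [GrpObj Z]
    [GrpObj T] [GrpObj L] [GrpObj S] [Smooth G.hom] [QuasiCompact G.hom] [IsAffine Q.left] [Smooth Q.hom]
    {z : Z ⟶ G} (hZ : Red.IsCentre z) {q : G ⟶ Q} [IsMonHom q] [Surjective q.left] [Flat q.left]
    (hker : AlgGrp.IsKernel z q) {i : T ⟶ G} (hT : AGF.IsMaxTorus i) {cL : L ⟶ Q}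
    (hL : Red.IsCentralizerOf (i ≫ q) cL) [IsClosedImmersion cL.left] [Smooth L.hom] [IsAffine L.left]
    {iS : S ⟶ L} (hS : AGF.IsMaxTorus iS) (n : VecGrp.pt k k ⟶ L)
    (hn : ∀ τ : VecGrp.pt k k ⟶ S, ∃ τ' : VecGrp.pt k k ⟶ S, n * (τ ≫ iS) * n⁻¹ = τ' ≫ iS)
    (σ : VecGrp.pt k k ⟶ S) : n * (σ ≫ iS) = (σ ≫ iS) * n := by
  haveI := hT.1
  haveI := hT.2.1
  haveI := hL.1
  haveI := hL.2.1
  haveI := hS.1
  haveI := hS.2.1
  obtain ⟨hSa, hSs, hSc, -⟩ := TorPts21.props_of_isTorus hS.2.2.1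
  haveI := hSa
  haveI := hSs
  haveI := hSc
  obtain ⟨d, ⟨Ch⟩⟩ := exists_chars hS.2.2.1
  obtain ⟨dT, ⟨ChT⟩⟩ := exists_chars hT.2.2.1
  have hScomm : ∀ {X : Over (Spec (CommRingCat.of k))} (a b : X ⟶ S), a * b = b * a :=
    fun a b => mul_comm_of_isTorus hS.2.2.1 a b
  -- the image of the torus lies in the maximal torus
  obtain ⟨iC, hiC, hiCm⟩ := TorPts21.exists_lift_centralizer hL (fun x y => commute_of_chars ChT x y)
  haveI := hiCm
  obtain ⟨R, _, m, f₁, f₂, hm, hmono, hR, hf₁, hf₂⟩ := exists_torus_ge_of_commute hT.2.2.1 hS.2.2.1 iC iS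
    fun X x y => (cancel_mono cL).1 (by
      rw [MonObj.mul_comp, MonObj.mul_comp, Category.assoc x, hiC]
      exact (TorPts21.centralizer_comm hL (y ≫ iS) x).symm)
  haveI := hm
  haveI := hmono
  haveI : IsIso f₂ := hS.2.2.2 R m f₂ hR hf₂
  obtain ⟨e, he⟩ : ∃ e : T ⟶ S, e ≫ iS = iC := ⟨f₁ ≫ inv f₂, by
    rw [Category.assoc, show inv f₂ ≫ iS = m from (IsIso.inv_comp_eq f₂).2 hf₂.symm, hf₁]⟩
  -- the preimage of the maximal torus
  haveI : IsClosedImmersion iS.left := TorPts21.isClosedImmersion_of_torus hS.2.2.1 iS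
  haveI : IsClosedImmersion (iS ≫ cL).left := by rw [Over.comp_left]; infer_instance
  obtain ⟨H, _, dG, dS, hdm, hdc, hH⟩ := TorPts21.exists_subgroup_inter q (iS ≫ cL)
  haveI := hdm
  haveI := hdc
  haveI : Mono (iS ≫ cL) := Over.mono_of_mono_left _
  haveI : IsMonHom dS := BorelFix21.isMonHom_of_comp (iS ≫ cL) dS (hH.w ▸ (inferInstance : IsMonHom (dG ≫ q)))
  haveI : LocallyOfFiniteType (q.left ≫ Q.hom) := by rw [Over.w q]; infer_instance
  haveI : LocallyOfFiniteType q.left := locallyOfFiniteType_of_comp q.left Q.hom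
  haveI : IsLocallyNoetherian Q.left := LocallyOfFiniteType.isLocallyNoetherian Q.hom
  have hq : QuotField20.IsFppf q := ⟨inferInstance, inferInstance, inferInstance⟩
  have hqH : ∀ {X : Over (Spec (CommRingCat.of k))} (h : X ⟶ H), (h ≫ dG) ≫ q = (h ≫ dS) ≫ iS ≫ cL := fun h => by
    rw [Category.assoc, hH.w, Category.assoc]
  obtain ⟨ñ, hñ⟩ := exists_pt_lift q (n ≫ cL)
  have hδ : ∀ (h : VecGrp.pt k k ⟶ H), ∃ h₂ : VecGrp.pt k k ⟶ H,
      h₂ ≫ dG = ñ * (h ≫ dG) * ñ⁻¹ * (h ≫ dG)⁻¹ := fun h => by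
    obtain ⟨τ', hτ'⟩ := hn (h ≫ dS)
    refine ⟨hH.lift _ (τ' * (h ≫ dS)⁻¹) ?_, hH.lift_fst _ _ _⟩
    simp only [MonObj.mul_comp, GrpObj.inv_comp, hñ, hqH]
    have h3 := congrArg (· ≫ cL) hτ'
    simp only [MonObj.mul_comp, GrpObj.inv_comp, Category.assoc] at h3 ⊢
    rw [← h3]
  obtain ⟨g, hg⟩ := exists_factor_displacement hZ hq hker hT hS.2.2.1 hH e
    (by rw [← Category.assoc, he, hiC]) ñ hδ
  -- the displacement is fixed
  choose C₀ hC₀ using hn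
  let D : (VecGrp.pt k k ⟶ S) → (VecGrp.pt k k ⟶ S) := fun t => C₀ t * t⁻¹
  have hDiS : ∀ t, D t ≫ iS = n * (t ≫ iS) * n⁻¹ * (t ≫ iS)⁻¹ := fun t => by
    simp only [D, MonObj.mul_comp, GrpObj.inv_comp, hC₀]
  have hDfix : ∀ t, n * (D t ≫ iS) = (D t ≫ iS) * n := fun t => by
    obtain ⟨a, ha⟩ := exists_pt_lift_pullback hH t
    have h1 : (D t ≫ iS) ≫ cL = (t ≫ g) ≫ i ≫ q := by
      rw [show (t ≫ g) ≫ i ≫ q = ((a ≫ dS) ≫ g ≫ i) ≫ q by rw [ha]; simp only [Category.assoc], hg, hDiS]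
      simp only [MonObj.mul_comp, GrpObj.inv_comp, hñ, hqH, ha, Category.assoc]
    refine (cancel_mono cL).1 ?_
    rw [MonObj.mul_comp n (D t ≫ iS) cL, MonObj.mul_comp (D t ≫ iS) n cL, h1]
    exact TorPts21.centralizer_comm hL n (t ≫ g)
  have hiter : ∀ (t : VecGrp.pt k k ⟶ S) (j : ℕ), n ^ j * (t ≫ iS) * (n ^ j)⁻¹ = (D t ≫ iS) ^ j * (t ≫ iS) :=
    fun t j => by
    induction j with
    | zero => simp
    | succ j ih =>
      calc _ = n * (n ^ j * (t ≫ iS) * (n ^ j)⁻¹) * n⁻¹ := by rw [pow_succ']; group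
        _ = MulAut.conj n ((D t ≫ iS) ^ j * (t ≫ iS)) := by rw [ih, MulAut.conj_apply]
        _ = _ := by
          rw [map_mul, map_pow, MulAut.conj_apply, MulAut.conj_apply, hDfix, mul_inv_cancel_right,
            show n * (t ≫ iS) * n⁻¹ = (D t ≫ iS) * (t ≫ iS) by rw [hDiS, inv_mul_cancel_right], pow_succ,
            _root_.mul_assoc]
  obtain ⟨nG, r, hr, hrc⟩ := GrassAct21.exists_embedding_GL L
  haveI := hr
  haveI := hrc
  obtain ⟨P, hP⟩ := range_mtx_diag Ch (iS ≫ r)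
  obtain ⟨s₀, hs₀⟩ := TorPts21.exists_pt_centralizer iS hS.2.2.1
  set sp : VecGrp.pt k k ⟶ S := toUnit _ ≫ s₀ with hsp
  let F : ℕ → GL (Fin nG) k := fun j => mtx r (n ^ j * (sp ≫ iS) * (n ^ j)⁻¹)
  have hF : (Set.range F).Finite := by
    refine (finite_of_isDiag_charpoly P ((mtx r (sp ≫ iS) : GL (Fin nG) k) : Matrix (Fin nG) (Fin nG) k).charpoly
      (Matrix.charpoly_monic _).ne_zero).subset ?_
    rintro _ ⟨j, rfl⟩
    refine ⟨?_, ?_⟩
    · simp only [F]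
      rw [hiter, ← MonObj.pow_comp, ← MonObj.mul_comp, ← mtx_comp]
      exact hP _ ⟨_, rfl⟩
    · simp only [F, map_mul, map_inv]
      rw [Units.val_mul, Units.val_mul, Matrix.coe_units_inv, Matrix.charpoly_units_conj]
  haveI := hF.to_subtype
  obtain ⟨j₁, j₂, hne, hjj⟩ := Finite.exists_ne_map_eq_of_infinite (Set.rangeFactorization F)
  have hjj' : F j₁ = F j₂ := congrArg Subtype.val hjj
  obtain ⟨M, hM, hMc⟩ : ∃ M : ℕ, 0 < M ∧ n ^ M * (sp ≫ iS) = (sp ≫ iS) * n ^ M := by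
    wlog hlt : j₁ < j₂ generalizing j₁ j₂
    · exact this j₂ j₁ hne.symm hjj.symm hjj'.symm (lt_of_le_of_ne (not_lt.1 hlt) hne.symm)
    refine ⟨j₂ - j₁, by omega, ?_⟩
    have h1 : n ^ j₁ * (sp ≫ iS) * (n ^ j₁)⁻¹ = n ^ j₂ * (sp ≫ iS) * (n ^ j₂)⁻¹ := mtxFn_injective r hjj'
    rw [show j₂ = j₁ + (j₂ - j₁) by omega, pow_add] at h1
    have h2 := congrArg (fun a => (n ^ j₁)⁻¹ * a * n ^ j₁) h1
    simp only [_root_.mul_inv_rev, _root_.mul_assoc, inv_mul_cancel, _root_.mul_one, inv_mul_cancel_left] at h2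
    rw [← _root_.mul_assoc, eq_mul_inv_iff_mul_eq] at h2
    exact h2.symm
  have hcomm : ∀ t : VecGrp.pt k k ⟶ S, n ^ M * (t ≫ iS) = (t ≫ iS) * n ^ M := fun t => by
    have := (hs₀ _ (n ^ M)).1 (by rw [← Category.assoc]; exact hMc) _ (𝟙 _) t
    rwa [Category.id_comp] at this
  have hDM : ∀ t, D t ^ M = 1 := fun t => by
    have h1 := hiter t M
    rw [hcomm, mul_inv_cancel_right, right_eq_mul] at h1
    exact (cancel_mono iS).1 (by rw [MonObj.pow_comp, MonObj.one_comp, h1])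
  have hDmul : ∀ a b, D (a * b) = D a * D b := fun a b => by
    refine (cancel_mono iS).1 ?_
    rw [hDiS, MonObj.mul_comp (D a) (D b) iS, hDiS, hDiS, MonObj.mul_comp a b iS]
    have hcm : Commute (a ≫ iS)⁻¹ (n * (b ≫ iS) * n⁻¹ * (b ≫ iS)⁻¹) := by
      rw [← hDiS, ← GrpObj.inv_comp]
      show _ * _ = _ * _
      rw [← MonObj.mul_comp, ← MonObj.mul_comp, hScomm]
    calc _ = n * (a ≫ iS) * n⁻¹ * ((n * (b ≫ iS) * n⁻¹ * (b ≫ iS)⁻¹) * (a ≫ iS)⁻¹) := by group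
      _ = _ := by rw [← hcm.eq]; group
  have hDpow : ∀ (a : VecGrp.pt k k ⟶ S) (j : ℕ), D (a ^ (j + 1)) = D a ^ (j + 1) := fun a j => by
    induction j with
    | zero => rw [pow_one, pow_one]
    | succ j ih => rw [pow_succ, hDmul, ih, ← pow_succ]
  obtain ⟨s', hs'⟩ := TorPts21.exists_pow_eq hS.2.2.1 hM σ
  have hD1 : D σ = 1 := by
    rw [← hs', show M = M - 1 + 1 by omega, hDpow, show M - 1 + 1 = M by omega, hDM]
  have h1 := hDiS σ
  rw [hD1, MonObj.one_comp] at h1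
  exact mul_inv_eq_iff_eq_mul.1 (mul_inv_eq_one.1 h1.symm)

set_option synthInstance.maxHeartbeats 80000 in
set_option maxHeartbeats 1000000 in
/-- The centraliser of a maximal torus lies in every Borel subgroup containing it. -/
theorem exists_lift_centralizer_borel_gen {G B T C : Over (Spec (CommRingCat.of k))} [GrpObj G] [GrpObj B] [GrpObj T]
    [GrpObj C] [Smooth G.hom] [QuasiCompact G.hom] [ConnectedSpace ↥G.left] {b : B ⟶ G}
    (hB : Red.IsBorelOver k b) (t : T ⟶ B) (hT : AGF.IsMaxTorus (t ≫ b)) {c : C ⟶ G}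
    (hC : Red.IsCentralizerOf (t ≫ b) c) : ∃ f : C ⟶ B, f ≫ b = c := by
  haveI := hT.1
  haveI := hB.2.1
  obtain ⟨-, -, hCs⟩ := centralizer_props_gen hT.2.2.1 hC
  haveI := hCs
  haveI := OrbitTop19.isReduced_of_smooth C.hom
  obtain ⟨Z, _, z, Q, _, q, hZ, hzc, hqm, hqs, hqf, hker, hQa, hQs, hQc⟩ := exists_centre_quotient G
  haveI := hzc
  haveI := hqm
  haveI := hqs
  haveI := hqf
  haveI := hQa
  haveI := hQs
  haveI := hQc
  obtain ⟨B', _, iB', hB', hiff⟩ := exists_borel_image hZ hker hB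
  haveI := hB'.1
  haveI := hB'.2.1
  obtain ⟨hTa, hTs, -, -⟩ := TorPts21.props_of_isTorus hT.2.2.1
  haveI := hTs
  haveI := OrbitTop19.isReduced_of_smooth T.hom
  obtain ⟨t', ht'⟩ := exists_lift_closed_of_pts iB' ((t ≫ b) ≫ q) fun y => by
    obtain ⟨y', hy'⟩ := (hiff (y ≫ t ≫ b)).1 ⟨y ≫ t, Category.assoc _ _ _⟩
    exact ⟨y', by rw [hy', Category.assoc]⟩
  obtain ⟨L, _, cL, hL, hcLc, hLs⟩ := TorusCentr19.exists_centralizer'
    (MTRigid29.isMT_of_ft (TorPts21.isMultTypeFT_of_isTorus hT.2.2.1)) hQs ((t ≫ b) ≫ q)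
  haveI := hL.1
  haveI := hcLc
  haveI := hLs
  haveI : IsAffine L.left := isAffine_of_isAffineHom cL.left
  haveI : ConnectedSpace L.left := TorPts21.connectedSpace_centralizer hT.2.2.1 hL
  obtain ⟨S, _, iS, hS⟩ := TorPts21.exists_maxTorus L
  have hLsol : Red.IsSolvableGrp L :=
    isSolvableGrp_of_weyl_trivial hS fun n hn σ => weyl_trivial_centralizer hZ hker hT hL hS n hn σ
  obtain ⟨D, _, dL, dB, hdm, hdc, hD⟩ := TorPts21.exists_subgroup_inter cL iB'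
  haveI := hdm
  haveI : IsIso dL := BorelFix21.isIso_borel_of_isSolvable dL
    (TorPts21.isBorelOver_inter hT.2.2.1 hB' t' ht' hL dL dB hD) hLsol
  refine exists_lift_closed_of_pts b c fun y => (hiff _).2 ?_
  obtain ⟨w, hw⟩ := (hL.2.2 _ ((y ≫ c) ≫ q)).2 fun X' x h => by
    have h1 := congrArg (· ≫ q) ((hC.2.2 _ (y ≫ c)).1 ⟨y, rfl⟩ X' x h)
    simpa only [MonObj.mul_comp, Category.assoc] using h1
  exact ⟨w ≫ inv dL ≫ dB, by rw [Category.assoc, Category.assoc, ← hD.w, IsIso.inv_hom_id_assoc, hw]⟩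

end Groth.Agent.AttrBorel21
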