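import Groth.Agent.Lib.AttrBorel21.CentGenMain

/-!
# Quotients by the part of the centre in the identity component of a subgroup containing the centre
-/

set_option autoImplicit false
set_option linter.style.haveILetI false
set_option linter.unusedSectionVars false
set_option backward.isDefEq.respectTransparency.types false
universe u

open CategoryTheory Limits MonoidalCategory CartesianMonoidalCategory MonObj AlgebraicGeometry

noncomputable section

namespace Groth.Agent.AttrBorel21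

open InvRing21 TorPts21 MatGrp21

attribute [local instance] InvRing21.gamAlg BorelFix21.ptsTop

variable {k : Type u} [Field k] [IsAlgClosed k]

set_option maxHeartbeats 1000000 in
/-- If the rational central points lie in a closed subgroup `C` with open subgroup `C₀`, then `G/(Z ∩ C₀)` is
affine. -/
theorem exists_affine_quotient {G Q Z C C₀ : Over (Spec (CommRingCat.of k))} [GrpObj G] [GrpObj Q] [GrpObj Z]
    [GrpObj C] [GrpObj C₀] [Smooth G.hom] [QuasiCompact G.hom] [ConnectedSpace ↥G.left] [IsAffine Q.left]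
    [Smooth Q.hom] {z : Z ⟶ G} (hZ : Red.IsCentre z) [IsClosedImmersion z.left] {q : G ⟶ Q} [IsMonHom q]
    [Surjective q.left] [Flat q.left] (hker : AlgGrp.IsKernel z q)
    (c : C ⟶ G) [IsMonHom c] [IsClosedImmersion c.left] (j₀ : C₀ ⟶ C) [IsMonHom j₀] [IsOpenImmersion j₀.left]
    (hzC : ∀ x : VecGrp.pt k k ⟶ Z, ∃ y : VecGrp.pt k k ⟶ C, y ≫ c = x ≫ z) :
    ∃ (G₂ : Over (Spec (CommRingCat.of k))) (_ : GrpObj G₂) (p : G ⟶ G₂) (p₂ : G₂ ⟶ Q),
      IsMonHom p ∧ Surjective p.left ∧ Flat p.left ∧ IsMonHom p₂ ∧ Surjective p₂.left ∧ p ≫ p₂ = q ∧ Smooth G₂.hom ∧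
        IsAffine G₂.left ∧ ConnectedSpace ↥G₂.left ∧ Epi p ∧
          ∀ x : VecGrp.pt k k ⟶ G, x ≫ p = 1 → ∃ y : VecGrp.pt k k ⟶ C₀, y ≫ j₀ ≫ c = x := by
  haveI : IsSeparated G.hom := AbRigid.isSeparated_of_grpObj G
  haveI : CompactSpace G.left := (quasiCompact_iff_compactSpace G.hom).1 inferInstance
  haveI : LocallyOfFiniteType C.hom := by rw [← Over.w c]; infer_instance
  haveI : CompactSpace C.left := c.left.isClosedEmbedding.compactSpace
  haveI : IsClosedImmersion j₀.left :=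
    IsClosedImmersion.of_isPreimmersion _ (AbRigid.isClosed_range_of_isOpen j₀ j₀.left.isOpenEmbedding.isOpen_range)
  obtain ⟨hzm, hzmono, hzp⟩ := hZ
  haveI := hzm
  haveI := hzmono
  haveI : Mono c := Over.mono_of_mono_left c
  have hzcen : ∀ (X : Over (Spec (CommRingCat.of k))) (x : X ⟶ Z) (g : X ⟶ G), (x ≫ z) * g = g * (x ≫ z) :=
    fun X x g => by
    have h := (hzp X (x ≫ z)).1 ⟨x, rfl⟩ X (𝟙 X) g
    simpa only [Category.id_comp, Category.comp_id] using h
  haveI : IsClosedImmersion (j₀ ≫ c).left := by rw [Over.comp_left]; infer_instance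
  obtain ⟨Z₀, _, dZ, d₀, hdm, hdc, hZ₀⟩ := TorPts21.exists_subgroup_inter z (j₀ ≫ c)
  haveI := hdm
  haveI := hdc
  haveI : IsClosedImmersion (dZ ≫ z).left := by rw [Over.comp_left]; infer_instance
  have hz₀ : ∀ (X : Over (Spec (CommRingCat.of k))) (x : X ⟶ Z₀) (g : X ⟶ G),
      (x ≫ dZ ≫ z) * g = g * (x ≫ dZ ≫ z) := fun X x g => by
    rw [← Category.assoc]; exact hzcen X (x ≫ dZ) g
  obtain ⟨G₂, _, p, hpm, hp, hk₀, hG₂s, hG₂q, hG₂c⟩ := exists_quotient_central (dZ ≫ z) hz₀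
  haveI := hpm
  haveI := hp.surj
  haveI := hp.flat
  haveI := hG₂s
  haveI := hG₂q
  haveI := hG₂c
  haveI : IsSeparated G₂.hom := AbRigid.isSeparated_of_grpObj G₂
  haveI : CompactSpace G₂.left := (quasiCompact_iff_compactSpace G₂.hom).1 inferInstance
  haveI : CompactSpace Q.left := inferInstance
  haveI : QuasiCompact Q.hom := (quasiCompact_iff_compactSpace Q.hom).2 inferInstance
  have hkp : ∀ {X : Over (Spec (CommRingCat.of k))} (x : X ⟶ G), x ≫ p = 1 → ∃ w : X ⟶ Z₀, w ≫ dZ ≫ z = x :=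
    fun {X} x hx => ⟨hk₀.lift x (toUnit X) (by rw [hx, Hom.one_def]), hk₀.lift_fst _ _ _⟩
  have hkq : ∀ {X : Over (Spec (CommRingCat.of k))} (x : X ⟶ G), x ≫ q = 1 → ∃ w : X ⟶ Z, w ≫ z = x :=
    fun {X} x hx => ⟨hker.lift x (toUnit X) (by rw [hx, Hom.one_def]), hker.lift_fst _ _ _⟩
  have hpz : (dZ ≫ z) ≫ p = 1 := by rw [hk₀.w, Hom.one_def]
  have hqz : z ≫ q = 1 := by rw [hker.w, Hom.one_def]
  obtain ⟨p₂, hp₂⟩ := hp.exists_desc q (fun {X} a b hab => by
    obtain ⟨w, hw⟩ := hkp (a * b⁻¹) (by rw [MonObj.mul_comp, GrpObj.inv_comp, hab, mul_inv_cancel])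
    have h1 : (a * b⁻¹) ≫ q = 1 := by
      rw [← hw, ← Category.assoc, Category.assoc (w ≫ dZ), hqz, MonObj.comp_one]
    rwa [MonObj.mul_comp, GrpObj.inv_comp, mul_inv_eq_one] at h1)
  haveI hp₂m : IsMonHom p₂ := by
    haveI := hp.epi
    haveI : Epi (p ⊗ₘ p) := by
      haveI : Surjective (p ⊗ₘ p).left :=
        MorphismProperty.pullbackMap (P := @Surjective) hp.surj hp.surj (Over.w p).symm (Over.w p).symm
      haveI : Flat (p ⊗ₘ p).left :=
        MorphismProperty.pullbackMap (P := @Flat) hp.flat hp.flat (Over.w p).symm (Over.w p).symm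
      haveI := hp.lfp
      haveI : LocallyOfFinitePresentation (p ⊗ₘ p).left :=
        MorphismProperty.pullbackMap (P := @LocallyOfFinitePresentation) hp.lfp hp.lfp (Over.w p).symm (Over.w p).symm
      exact QuotField20.IsFppf.epi ⟨inferInstance, inferInstance, inferInstance⟩
    refine ⟨?_, ?_⟩
    · rw [← IsMonHom.one_hom p, Category.assoc, hp₂, IsMonHom.one_hom]
    · rw [← cancel_epi (p ⊗ₘ p), ← Category.assoc, ← IsMonHom.mul_hom p, Category.assoc, hp₂,
        IsMonHom.mul_hom q, ← Category.assoc, tensorHom_comp_tensorHom, hp₂]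
  haveI : LocallyOfFiniteType (q.left ≫ Q.hom) := by rw [Over.w q]; infer_instance
  haveI : LocallyOfFiniteType q.left := locallyOfFiniteType_of_comp q.left Q.hom
  haveI : IsLocallyNoetherian Q.left := LocallyOfFiniteType.isLocallyNoetherian Q.hom
  have hq : QuotField20.IsFppf q := ⟨inferInstance, inferInstance, inferInstance⟩
  have hp₂f : QuotField20.IsFppf p₂ := hp.of_comp_left (hp₂.symm ▸ hq)
  haveI := hp₂f.surj
  haveI := hp₂f.flat
  haveI : IsClosedImmersion (η[Q]).left := isClosedImmersion_of_comp_eq_id Q.hom (η[Q]).left (Over.w η[Q])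
  obtain ⟨F, _, kF, uF, hkFm, hkFc, hF⟩ := TorPts21.exists_subgroup_inter p₂ η[Q]
  haveI := hkFm
  haveI := hkFc
  obtain rfl : uF = toUnit F := toUnit_unique _ _
  haveI : Mono kF := Over.mono_of_mono_left kF
  haveI : LocallyOfFiniteType F.hom := by rw [← Over.w kF]; infer_instance
  let O : (VecGrp.pt k k ⟶ C) → Set C.left := fun a => (InvRing21.rTr a⁻¹).left ⁻¹' Set.range j₀.left
  have hOmem : ∀ a x : VecGrp.pt k k ⟶ C, InvRing21.img x ∈ O a ↔ ∃ y : VecGrp.pt k k ⟶ C₀, y ≫ j₀ = x * a⁻¹ := by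
    intro a x
    have e : x ≫ InvRing21.rTr a⁻¹ = x * a⁻¹ := by rw [InvRing21.comp_rTr, InvRing21.toPt_pt, Category.id_comp]
    rw [← InvRing21.img_mem_iff j₀, ← e]
    rfl
  obtain ⟨s, hs⟩ := isCompact_univ.elim_finite_subcover O
    (fun a => j₀.left.isOpenEmbedding.isOpen_range.preimage (InvRing21.rTr a⁻¹).left.continuous)
    (fun ζ _ => Set.mem_iUnion.2 (by
      obtain ⟨a, ha⟩ := BorelFix21.exists_pt_mem (G := C) (Z := closure {ζ}) isClosed_closure.isLocallyClosed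
        ⟨ζ, subset_closure rfl⟩
      refine ⟨a, (specializes_iff_mem_closure.2 ha).mem_open
        (j₀.left.isOpenEmbedding.isOpen_range.preimage (InvRing21.rTr a⁻¹).left.continuous)
        ((hOmem a a).2 ⟨1, by rw [MonObj.one_comp, mul_inv_cancel]⟩)⟩))
  have hchoose : ∀ y : VecGrp.pt k k ⟶ C, ∃ a : s, ∃ w : VecGrp.pt k k ⟶ C₀, w ≫ j₀ = y * (a.1)⁻¹ := fun y => by
    obtain ⟨a, ha⟩ := Set.mem_iUnion.1 (hs (Set.mem_univ (InvRing21.img y)))
    obtain ⟨has, hay⟩ := Set.mem_iUnion.1 ha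
    exact ⟨⟨a, has⟩, (hOmem a y).1 hay⟩
  have hpre : ∀ f : VecGrp.pt k k ⟶ F, ∃ (x : VecGrp.pt k k ⟶ Z) (y : VecGrp.pt k k ⟶ C),
      (x ≫ z) ≫ p = f ≫ kF ∧ y ≫ c = x ≫ z := fun f => by
    obtain ⟨g, hg⟩ := exists_pt_lift p (f ≫ kF)
    obtain ⟨x, hx⟩ := hkq g (by
      rw [← hp₂, ← Category.assoc, hg, Category.assoc, hF.w, ← Category.assoc, comp_toUnit, Hom.one_def])
    obtain ⟨y, hy⟩ := hzC x
    exact ⟨x, y, by rw [hx, hg], hy⟩
  choose xF yF hxF hyF using hpre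
  choose aF wF hwF using hchoose
  haveI : Finite (VecGrp.pt k k ⟶ F) := Finite.of_injective (fun f => aF (yF f)) fun f f' h => by
    simp only at h
    refine (cancel_mono kF).1 ?_
    rw [← hxF, ← hxF, ← mul_inv_eq_one, ← GrpObj.inv_comp, ← MonObj.mul_comp]
    have h1 : (xF f ≫ z) * (xF f' ≫ z)⁻¹ = (wF (yF f) * (wF (yF f'))⁻¹) ≫ j₀ ≫ c := by
      rw [← Category.assoc, MonObj.mul_comp, GrpObj.inv_comp, hwF, hwF, h, MonObj.mul_comp, GrpObj.inv_comp,
        MonObj.mul_comp, MonObj.mul_comp, GrpObj.inv_comp, hyF, hyF]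
      group
    rw [← GrpObj.inv_comp, ← MonObj.mul_comp] at h1 ⊢
    rw [← hZ₀.lift_fst _ _ h1]
    simp only [Category.assoc] at hpz ⊢
    rw [hpz, MonObj.comp_one]
  haveI : IsAffine F.left := isAffine_of_finite_pts
  haveI : IsAffineHom p₂.left := isAffineHom_of_kernel kF p₂ hF
  haveI : IsAffine G₂.left := isAffine_of_isAffineHom p₂.left
  refine ⟨G₂, inferInstance, p, p₂, hpm, hp.surj, hp.flat, hp₂m, hp₂f.surj, hp₂, hG₂s, inferInstance, hG₂c, hp.epi,
    fun x hx => ?_⟩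
  obtain ⟨w, hw⟩ := hkp x hx
  exact ⟨w ≫ d₀, by rw [Category.assoc, ← hZ₀.w, hw]⟩

end Groth.Agent.AttrBorel21
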