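import Groth.Agent.Lib.AttrBorel21.CentreQuot
import Groth.Agent.Lib.MulEtale20.Basic
import Groth.Agent.Lib.FibDim4.GenericFP
import Groth.Agent.Lib.TorusCentr19.Norm
import Groth.Agent.Lib.TorPts21.Connected
import Groth.Agent.Lib.AlgGrpBasic19.Basic
import Groth.Agent.Lib.FlatDesc26.Basic
import Groth.Agent.Lib.EtStalk.FiniteSplit
import Mathlib.AlgebraicGeometry.Morphisms.QuasiFinite

/-!
# Centralisers of tori in possibly non-affine connected groups
-/

set_option autoImplicit false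
set_option linter.style.haveILetI false
set_option linter.unusedSectionVars false
set_option backward.isDefEq.respectTransparency.types false
universe u

open CategoryTheory Limits MonoidalCategory CartesianMonoidalCategory MonObj AlgebraicGeometry

noncomputable section

namespace Groth.Agent.AttrBorel21

open InvRing21 TorPts21 MatGrp21

attribute [local instance] InvRing21.gamAlg BorelFix21.ptsTop

variable {k : Type u} [Field k] [IsAlgClosed k]

/-- A morphism of schemes surjective on rational points is dominant, indeed hits an open subset. -/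
theorem exists_open_subset_range {A B : Over (Spec (CommRingCat.of k))} [LocallyOfFiniteType A.hom]
    [LocallyOfFiniteType B.hom] [CompactSpace A.left] [CompactSpace B.left] [IrreducibleSpace B.left] [IsSeparated B.hom] (f : A ⟶ B)
    (hf : ∀ b : VecGrp.pt k k ⟶ B, ∃ a : VecGrp.pt k k ⟶ A, a ≫ f = b) :
    genericPoint B.left ∈ Set.range f.left := by
  haveI : LocallyOfFiniteType (f.left ≫ B.hom) := by rw [Over.w f]; infer_instance
  haveI : LocallyOfFiniteType f.left := locallyOfFiniteType_of_comp f.left B.hom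
  haveI : IsLocallyNoetherian B.left := LocallyOfFiniteType.isLocallyNoetherian B.hom
  haveI : QuasiCompact A.hom := (quasiCompact_iff_compactSpace A.hom).2 inferInstance
  haveI : QuasiCompact (f.left ≫ B.hom) := by rw [Over.w f]; infer_instance
  haveI : QuasiCompact f.left := QuasiCompact.of_comp f.left B.hom
  haveI : LocallyOfFinitePresentation f.left := inferInstance
  have hcons : Topology.IsConstructible (Set.range f.left) := by
    rw [← Set.image_univ]
    exact Scheme.Hom.isConstructible_image f.left .univ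
  by_contra h
  obtain ⟨O, hO, hηO, hOs⟩ := FibDim4.exists_open_subset_of_isConstructible hcons.compl
    (fun U hU hne => (genericPoint_specializes hne.some).mem_open hU hne.some_mem) h
  obtain ⟨b, hb⟩ := BorelFix21.exists_pt_mem hO.isLocallyClosed ⟨_, hηO⟩
  obtain ⟨a, ha⟩ := hf b
  exact hOs hb ⟨InvRing21.img a, congrArg InvRing21.img ha⟩

/-- A homomorphism surjective on rational points onto a connected group stays so on an open connected subgroup. -/
theorem forall_exists_lift_component {A A₀ B : Over (Spec (CommRingCat.of k))} [GrpObj A] [GrpObj A₀] [GrpObj B]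
    [LocallyOfFiniteType A.hom] [CompactSpace A.left] [CompactSpace A₀.left] [LocallyOfFiniteType B.hom] [CompactSpace B.left]
    [ConnectedSpace B.left] (j : A₀ ⟶ A) [IsMonHom j] [IsOpenImmersion j.left] (f : A ⟶ B) [IsMonHom f]
    (hf : ∀ b : VecGrp.pt k k ⟶ B, ∃ a : VecGrp.pt k k ⟶ A, a ≫ f = b) (b : VecGrp.pt k k ⟶ B) :
    ∃ a : VecGrp.pt k k ⟶ A₀, a ≫ j ≫ f = b := by
  haveI : IsSeparated B.hom := AbRigid.isSeparated_of_grpObj B
  haveI : IrreducibleSpace B.left := AbRigid.irreducibleSpace_of_isAlgClosed B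
  haveI : JacobsonSpace A.left := LocallyOfFiniteType.jacobsonSpace A.hom
  haveI : LocallyOfFiniteType A₀.hom := by rw [← Over.w j]; infer_instance
  obtain ⟨ζ, hζ⟩ := exists_open_subset_range f hf
  -- a rational point in the closure of ζ
  obtain ⟨a, ha⟩ := BorelFix21.exists_pt_mem (G := A) (Z := closure {ζ}) isClosed_closure.isLocallyClosed
    ⟨ζ, subset_closure rfl⟩
  have hζa : ζ ⤳ InvRing21.img a := specializes_iff_mem_closure.2 ha
  have hrT : ∀ (x : VecGrp.pt k k ⟶ A) (y : VecGrp.pt k k ⟶ A), x ≫ InvRing21.rTr y = x * y := fun x y => by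
    rw [InvRing21.comp_rTr, InvRing21.toPt_pt, Category.id_comp]
  have hmem : InvRing21.img a ∈ (InvRing21.rTr a⁻¹).left ⁻¹' Set.range j.left := by
    refine ⟨InvRing21.img (1 : VecGrp.pt k k ⟶ A₀), ?_⟩
    have h := congrArg InvRing21.img (show (1 : VecGrp.pt k k ⟶ A₀) ≫ j = a ≫ InvRing21.rTr a⁻¹ by
      rw [hrT, MonObj.one_comp, mul_inv_cancel])
    exact h
  obtain ⟨ξ, hξ⟩ := hζa.mem_open (j.left.isOpenEmbedding.isOpen_range.preimage (InvRing21.rTr a⁻¹).left.continuous) hmem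
  -- translations fix the generic point
  have hfix : ∀ y : VecGrp.pt k k ⟶ B, (InvRing21.rTr y).left (genericPoint B.left) = genericPoint B.left := by
    intro y
    have h1 : InvRing21.rTr y ≫ InvRing21.rTr y⁻¹ = 𝟙 B := by
      rw [InvRing21.comp_rTr, InvRing21.rTr, GrpObj.comp_inv, mul_inv_cancel_right]
    have hsur : Function.Surjective (InvRing21.rTr y⁻¹).left := fun z => ⟨(InvRing21.rTr y).left z, by
      rw [← Scheme.Hom.comp_apply, ← Over.comp_left, h1]; rfl⟩
    have h2 : InvRing21.rTr y⁻¹ ≫ InvRing21.rTr y = 𝟙 B := by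
      rw [InvRing21.comp_rTr, InvRing21.rTr, GrpObj.comp_inv, inv_mul_cancel_right]
    have hsur' : Function.Surjective (InvRing21.rTr y).left := fun z => ⟨(InvRing21.rTr y⁻¹).left z, by
      rw [← Scheme.Hom.comp_apply, ← Over.comp_left, h2]; rfl⟩
    exact ((genericPoint_spec B.left).image (InvRing21.rTr y).left.continuous).eq (by
      rw [Set.image_univ, hsur'.range_eq, closure_univ]; exact genericPoint_spec B.left)
  have hη : genericPoint B.left ∈ Set.range (j ≫ f).left := by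
    refine ⟨ξ, ?_⟩
    have hc : InvRing21.rTr a⁻¹ ≫ f = f ≫ InvRing21.rTr (a⁻¹ ≫ f) := by
      rw [InvRing21.rTr, InvRing21.rTr, MonObj.mul_comp, MonObj.comp_mul, Category.id_comp, Category.comp_id,
        ← Category.assoc f, InvRing21.comp_toPt, Category.assoc]
    rw [Over.comp_left, Scheme.Hom.comp_apply, hξ, ← Scheme.Hom.comp_apply, ← Over.comp_left, hc, Over.comp_left,
      Scheme.Hom.comp_apply, hζ, hfix]
  -- hence the image contains an open set
  haveI : LocallyOfFiniteType ((j ≫ f).left ≫ B.hom) := by rw [Over.w (j ≫ f)]; infer_instance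
  haveI : LocallyOfFiniteType (j ≫ f).left := locallyOfFiniteType_of_comp (j ≫ f).left B.hom
  haveI : IsLocallyNoetherian B.left := LocallyOfFiniteType.isLocallyNoetherian B.hom
  haveI : QuasiCompact A₀.hom := (quasiCompact_iff_compactSpace A₀.hom).2 inferInstance
  haveI : QuasiCompact ((j ≫ f).left ≫ B.hom) := by rw [Over.w (j ≫ f)]; infer_instance
  haveI : QuasiCompact (j ≫ f).left := QuasiCompact.of_comp (j ≫ f).left B.hom
  haveI : LocallyOfFinitePresentation (j ≫ f).left := inferInstance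
  have hcons : Topology.IsConstructible (Set.range (j ≫ f).left) := by
    rw [← Set.image_univ]
    exact Scheme.Hom.isConstructible_image (j ≫ f).left .univ
  obtain ⟨O, hO, hηO, hOs⟩ := FibDim4.exists_open_subset_of_isConstructible hcons
    (fun U hU hne => (genericPoint_specializes hne.some).mem_open hU hne.some_mem) hη
  let R : Subgroup (VecGrp.pt k k ⟶ B) := (ptsHom (j ≫ f)).range
  have hR : ∀ x : VecGrp.pt k k ⟶ B, InvRing21.img x ∈ O → x ∈ R := fun x hx => by
    obtain ⟨z, hz⟩ := hOs hx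
    obtain ⟨q, hq⟩ := BorelFix21.exists_pt_mem (G := A₀)
      ((isClosed_singleton_img x).preimage (j ≫ f).left.continuous).isLocallyClosed ⟨z, hz⟩
    exact ⟨q, pt_ext hq⟩
  obtain ⟨x₀, hx₀⟩ := BorelFix21.exists_pt_mem hO.isLocallyClosed ⟨_, hηO⟩
  let O' : Set (VecGrp.pt k k ⟶ B) := InvRing21.img ⁻¹' O
  have hO' : IsOpen O' := hO.preimage continuous_induced_dom
  -- every coset of the image is open
  have hcoset : ∀ y : VecGrp.pt k k ⟶ B, ∃ W : Set (VecGrp.pt k k ⟶ B), IsOpen W ∧ y ∈ W ∧ ∀ w ∈ W, w * y⁻¹ ∈ R := by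
    intro y
    refine ⟨(· * (y⁻¹ * x₀)) ⁻¹' O', hO'.preimage (BorelFix21.continuous_mul_right _), ?_, fun w hw => ?_⟩
    · show InvRing21.img (y * (y⁻¹ * x₀)) ∈ O
      rwa [mul_inv_cancel_left]
    · have h1 := R.mul_mem (hR _ hw) (R.inv_mem (hR x₀ hx₀))
      rwa [mul_assoc w, mul_assoc y⁻¹, mul_inv_cancel, _root_.mul_one] at h1
  haveI := BorelFix21.preconnectedSpace_pts (G := B)
  have hclop : IsClopen (R : Set (VecGrp.pt k k ⟶ B)) := by
    refine ⟨isOpen_compl_iff.1 (isOpen_iff_mem_nhds.2 fun y hy => ?_), isOpen_iff_mem_nhds.2 fun y hy => ?_⟩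
    · obtain ⟨W, hW, hyW, hw⟩ := hcoset y
      exact Filter.mem_of_superset (hW.mem_nhds hyW) fun w hwW hwR => hy (by
        have h2 := R.mul_mem (R.inv_mem (hw w hwW)) hwR
        rwa [_root_.mul_inv_rev, _root_.inv_inv, inv_mul_cancel_right] at h2)
    · obtain ⟨W, hW, hyW, hw⟩ := hcoset y
      exact Filter.mem_of_superset (hW.mem_nhds hyW) fun w hwW => by
        have h2 := R.mul_mem (hw w hwW) hy
        rwa [inv_mul_cancel_right] at h2
  have : b ∈ (R : Set (VecGrp.pt k k ⟶ B)) := by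
    rw [hclop.eq_univ ⟨1, R.one_mem⟩]
    trivial
  obtain ⟨q, hq⟩ := this
  exact ⟨q, hq⟩

/-- Points killed by an invertible power are isolated at the unit, so connected families of them are trivial. -/
theorem pt_comp_eq_one_of_pow {A Z : Over (Spec (CommRingCat.of k))} [GrpObj Z] [LocallyOfFiniteType A.hom]
    [LocallyOfFiniteType Z.hom] [PreconnectedSpace A.left]
    (hZ : ∀ x y : VecGrp.pt k k ⟶ Z, x * y = y * x) {n : ℕ} (hn : (n : k) ≠ 0) (ψ : A ⟶ Z)
    (hψ : ∀ a : VecGrp.pt k k ⟶ A, (a ≫ ψ) ^ n = 1) (a₀ a : VecGrp.pt k k ⟶ A) (h₀ : a₀ ≫ ψ = 1) :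
    a ≫ ψ = 1 := by
  obtain ⟨V, heV, hV⟩ := MulEtale20.exists_etale_pow Z n hn
  haveI := hV
  let g : V.toScheme ⟶ Z.left := V.ι ≫ (𝟙 Z ^ n : Z ⟶ Z).left
  haveI : LocallyQuasiFinite g := FiniteSplit.locallyQuasiFinite_of_etale g
  have hd := g.isDiscrete_preimage_singleton (η[Z].left (IsLocalRing.closedPoint k))
  have h1 : InvRing21.img (1 : VecGrp.pt k k ⟶ Z) = η[Z].left (IsLocalRing.closedPoint k) := by
    rw [Hom.one_def]
    exact congrArg η[Z].left (Subsingleton.elim (α := PrimeSpectrum k) _ _)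
  let e : V.toScheme := ⟨InvRing21.img (1 : VecGrp.pt k k ⟶ Z), h1 ▸ heV⟩
  have hek : ∀ (x : VecGrp.pt k k ⟶ Z) (hx : InvRing21.img x ∈ V), x ^ n = 1 →
      (⟨_, hx⟩ : V.toScheme) ∈ g ⁻¹' {η[Z].left (IsLocalRing.closedPoint k)} := fun x hx hxn => by
    show (𝟙 Z ^ n : Z ⟶ Z).left (InvRing21.img x) = _
    rw [← h1, ← hxn]
    have : x ≫ (𝟙 Z ^ n : Z ⟶ Z) = x ^ n := by rw [MonObj.comp_pow, Category.comp_id]
    exact congrArg InvRing21.img this
  haveI := isDiscrete_iff_discreteTopology.1 hd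
  obtain ⟨W, hW, hWe⟩ := isOpen_induced_iff.1
    (isOpen_discrete ({⟨e, hek 1 (h1 ▸ heV) (one_pow n)⟩} : Set ↥(g ⁻¹' {η[Z].left (IsLocalRing.closedPoint k)})))
  let U : Set (VecGrp.pt k k ⟶ Z) := InvRing21.img ⁻¹' (Subtype.val '' W)
  have hU : IsOpen U := (V.2.isOpenMap_subtype_val _ hW).preimage continuous_induced_dom
  have hU1 : (1 : VecGrp.pt k k ⟶ Z) ∈ U :=
    ⟨e, (Set.ext_iff.1 hWe ⟨e, hek 1 (h1 ▸ heV) (one_pow n)⟩).2 rfl, rfl⟩
  have hiso : ∀ x ∈ U, x ^ n = 1 → x = 1 := by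
    rintro x ⟨v, hvW, hv⟩ hxn
    have hx : InvRing21.img x ∈ V := hv ▸ v.2
    have hv' : v = ⟨_, hx⟩ := Subtype.ext hv
    have := (Set.ext_iff.1 hWe ⟨_, hek x hx hxn⟩).1 (hv' ▸ hvW)
    exact pt_ext (congrArg (fun z : ↥(g ⁻¹' _) => V.ι z.1) this)
  haveI := BorelFix21.preconnectedSpace_pts (G := A)
  let F : (VecGrp.pt k k ⟶ A) → (VecGrp.pt k k ⟶ Z) := fun x => x ≫ ψ
  have hloc : IsLocallyConstant F := by
    refine (IsLocallyConstant.iff_exists_open F).2 fun x => ?_
    refine ⟨(fun y => y ≫ ψ) ⁻¹' ((· * (x ≫ ψ)⁻¹) ⁻¹' U),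
      (hU.preimage (BorelFix21.continuous_mul_right _)).preimage (BorelFix21.continuous_comp ψ), ?_, fun y hy => ?_⟩
    · show (x ≫ ψ) * (x ≫ ψ)⁻¹ ∈ U
      rwa [mul_inv_cancel]
    · have := hiso _ hy (by
        have hc : Commute (y ≫ ψ) (x ≫ ψ)⁻¹ := hZ _ _
        rw [hc.mul_pow, inv_pow, hψ, hψ, inv_one, _root_.mul_one])
      exact mul_inv_eq_one.1 this
  exact (hloc.apply_eq_of_preconnectedSpace a a₀).trans h₀

/-- A rational point commuting with the rational points of a torus modulo a central subgroup, in a connected family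
reaching the unit, commutes with them. -/
theorem commute_torus_of_family {G T Z A : Over (Spec (CommRingCat.of k))} [GrpObj G] [GrpObj T] [GrpObj Z]
    [LocallyOfFiniteType G.hom] [LocallyOfFiniteType A.hom] [PreconnectedSpace A.left] [LocallyOfFiniteType Z.hom]
    (z : Z ⟶ G) [IsMonHom z] [IsClosedImmersion z.left]
    (hz : ∀ (x : VecGrp.pt k k ⟶ Z) (g : VecGrp.pt k k ⟶ G), (x ≫ z) * g = g * (x ≫ z))
    (i : T ⟶ G) [IsMonHom i] (m : A ⟶ G) (a₀ : VecGrp.pt k k ⟶ A) (h₀ : a₀ ≫ m = 1)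
    (hm : ∀ (a : VecGrp.pt k k ⟶ A) (t : VecGrp.pt k k ⟶ T), ∃ w : VecGrp.pt k k ⟶ Z,
      w ≫ z = (a ≫ m) * (t ≫ i) * (a ≫ m)⁻¹ * (t ≫ i)⁻¹)
    (a : VecGrp.pt k k ⟶ A) (t : VecGrp.pt k k ⟶ T) {n : ℕ} (hn : (n : k) ≠ 0) (ht : t ^ n = 1) :
    (a ≫ m) * (t ≫ i) = (t ≫ i) * (a ≫ m) := by
  haveI : Mono z := Over.mono_of_mono_left z
  let P : A ⟶ G := m * (InvRing21.toPt A ≫ t ≫ i) * m⁻¹ * (InvRing21.toPt A ≫ t ≫ i)⁻¹
  have hP : ∀ b : VecGrp.pt k k ⟶ A, b ≫ P = (b ≫ m) * (t ≫ i) * (b ≫ m)⁻¹ * (t ≫ i)⁻¹ := fun b => by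
    simp only [P, MonObj.comp_mul, GrpObj.comp_inv, ← Category.assoc, InvRing21.comp_toPt, InvRing21.toPt_pt,
      Category.id_comp]
  let A' : Over (Spec (CommRingCat.of k)) := Over.mk (pullback.fst P.left z.left ≫ A.hom)
  let pA : A' ⟶ A := Over.homMk (pullback.fst P.left z.left) rfl
  let pZ : A' ⟶ Z := Over.homMk (pullback.snd P.left z.left) (by
    show _ ≫ Z.hom = pullback.fst P.left z.left ≫ A.hom
    rw [← Over.w z, ← pullback.condition_assoc, Over.w P])
  haveI : IsClosedImmersion pA.left := inferInstanceAs (IsClosedImmersion (pullback.fst P.left z.left))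
  haveI : Mono pA := Over.mono_of_mono_left pA
  have hsq : pA ≫ P = pZ ≫ z := Over.OverMorphism.ext pullback.condition
  haveI : LocallyOfFiniteType A'.hom := inferInstanceAs (LocallyOfFiniteType (pullback.fst P.left z.left ≫ A.hom))
  have hlift : ∀ b : VecGrp.pt k k ⟶ A, ∃ b' : VecGrp.pt k k ⟶ A', b' ≫ pA = b := fun b => by
    obtain ⟨w, hw⟩ := hm b t
    refine ⟨Over.homMk (pullback.lift b.left w.left (congrArg CommaMorphism.left ((hP b).trans hw.symm))) ?_, ?_⟩
    · show pullback.lift _ _ _ ≫ pullback.fst P.left z.left ≫ A.hom = _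
      rw [pullback.lift_fst_assoc, Over.w b]
    · exact Over.OverMorphism.ext (pullback.lift_fst _ _ _)
  haveI : Surjective pA.left := ⟨fun y => by
    by_contra hy
    obtain ⟨b, hb⟩ := BorelFix21.exists_pt_mem (G := A) (Z := (Set.range pA.left)ᶜ)
      pA.left.isClosedEmbedding.isClosed_range.isOpen_compl.isLocallyClosed ⟨y, hy⟩
    obtain ⟨b', rfl⟩ := hlift b
    exact hb ⟨_, rfl⟩⟩
  haveI : PreconnectedSpace A'.left :=
    (pA.left.isClosedEmbedding.isEmbedding.toHomeomorphOfSurjective pA.left.surjective).symm.surjective.denseRange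
      |>.preconnectedSpace (Homeomorph.continuous _)
  have hzc : ∀ x y : VecGrp.pt k k ⟶ Z, x * y = y * x := fun x y =>
    (cancel_mono z).1 (by rw [MonObj.mul_comp, MonObj.mul_comp]; exact hz x _)
  have hkey : ∀ b' : VecGrp.pt k k ⟶ A', (b' ≫ pZ) ^ n = 1 := fun b' => by
    refine (cancel_mono z).1 ?_
    rw [MonObj.pow_comp, MonObj.one_comp, Category.assoc, ← hsq, ← Category.assoc, hP]
    set g := (b' ≫ pA) ≫ m
    set c := g * (t ≫ i) * g⁻¹ * (t ≫ i)⁻¹ with hc
    have hcen : Commute c (t ≫ i) := by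
      obtain ⟨w, hw⟩ := hm (b' ≫ pA) t
      rw [hc, ← hw]; exact hz w _
    have h1 : MulAut.conj g (t ≫ i) = c * (t ≫ i) := by rw [MulAut.conj_apply, hc, inv_mul_cancel_right]
    have h2 := congrArg (· ^ n) h1
    simp only [← map_pow, hcen.mul_pow, ← MonObj.pow_comp, ht, MonObj.one_comp, map_one, _root_.mul_one] at h2
    exact h2.symm
  obtain ⟨a', rfl⟩ := hlift a
  obtain ⟨b₀, rfl⟩ := hlift a₀
  have h := pt_comp_eq_one_of_pow hzc hn pZ hkey b₀ a' (by
    refine (cancel_mono z).1 ?_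
    rw [MonObj.one_comp, Category.assoc, ← hsq, ← Category.assoc, hP, h₀, _root_.one_mul, inv_one,
      _root_.mul_one, mul_inv_cancel])
  have h' := congrArg (· ≫ z) h
  simp only [MonObj.one_comp, Category.assoc, ← hsq] at h'
  rw [← Category.assoc, hP, mul_inv_eq_one, mul_inv_eq_iff_eq_mul] at h'
  exact h'

/-- A point commuting with the torsion of invertible order of a torus commutes with all its points. -/
theorem commute_of_commute_tors {G T : Over (Spec (CommRingCat.of k))} [GrpObj G] [GrpObj T]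
    [LocallyOfFiniteType G.hom] (hT : Red.IsTorus T) (i : T ⟶ G) [IsMonHom i] (g : VecGrp.pt k k ⟶ G)
    (h : ∀ (t : VecGrp.pt k k ⟶ T) (n : ℕ), (n : k) ≠ 0 → t ^ n = 1 → g * (t ≫ i) = (t ≫ i) * g) :
    ∀ (X : Over (Spec (CommRingCat.of k))) (x : X ⟶ T),
      (InvRing21.toPt X ≫ g) * (x ≫ i) = (x ≫ i) * (InvRing21.toPt X ≫ g) := by
  obtain ⟨hTa, hTs, -, -⟩ := TorPts21.props_of_isTorus hT
  haveI := hTa
  haveI := hTs
  obtain ⟨d, ⟨C⟩⟩ := exists_chars hT
  obtain ⟨n, r, hr, hrc⟩ := GrassAct21.exists_embedding_GL T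
  haveI := hr
  haveI := hrc
  haveI : IsSeparated G.hom := AbRigid.isSeparated_of_grpObj G
  let K : T ⟶ G := (InvRing21.toPt T ≫ g) * i * (InvRing21.toPt T ≫ g)⁻¹ * i⁻¹
  have hK : ∀ {X : Over (Spec (CommRingCat.of k))} (x : X ⟶ T), x ≫ K =
      (InvRing21.toPt X ≫ g) * (x ≫ i) * (InvRing21.toPt X ≫ g)⁻¹ * (x ≫ i)⁻¹ := fun {X} x => by
    simp only [K, MonObj.comp_mul, GrpObj.comp_inv, ← Category.assoc, InvRing21.comp_toPt]
  haveI := OrbitTop19.isReduced_of_smooth T.hom
  have hK1 : K = 1 := TorPts21.eq_one_of_forall_pts K fun x => by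
    have hcl : IsClosed ((fun y => y ≫ K) ⁻¹' ({1} : Set (VecGrp.pt k k ⟶ G))) := by
      refine IsClosed.preimage (continuous_pts_comp K) ?_
      have hs : ({1} : Set (VecGrp.pt k k ⟶ G)) = InvRing21.img ⁻¹' {InvRing21.img (1 : VecGrp.pt k k ⟶ G)} :=
        Set.ext fun z => ⟨fun h => congrArg InvRing21.img h, fun h => pt_ext h⟩
      rw [hs]
      exact (isClosed_singleton_img _).preimage continuous_induced_dom
    have hx : mtx r x ∈ closure (MatGrp21.tors ((mtx r).range : Set (GL (Fin n) k))) := range_mtx_dense C r ⟨x, rfl⟩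
    have hsub : MatGrp21.tors ((mtx r).range : Set (GL (Fin n) k)) ⊆
        mtxFn r '' ((fun y => y ≫ K) ⁻¹' {1}) := by
      rintro _ ⟨⟨t, rfl⟩, L, hL, hLt⟩
      refine ⟨t, ?_, rfl⟩
      have htL : t ^ L = 1 := mtxFn_injective r (by
        rw [← mtx_apply, map_pow, hLt]; exact (map_one (mtx r)).symm)
      show t ≫ K = 1
      rw [hK, InvRing21.toPt_pt, Category.id_comp, h t L hL htL, mul_inv_cancel_right, mul_inv_cancel]
    obtain ⟨x', hx', hxx'⟩ := closure_minimal hsub (isClosed_image_mtxFn r hcl) hx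
    rw [mtxFn_injective r hxx'] at hx'
    exact hx'
  intro X x
  have h1 := congrArg (x ≫ ·) hK1
  simp only [hK, MonObj.comp_one] at h1
  rwa [mul_inv_eq_one, mul_inv_eq_iff_eq_mul] at h1

/-- The quotient map by an affine kernel is affine. -/
theorem isAffineHom_of_kernel {G H Q : Over (Spec (CommRingCat.of k))} [GrpObj G] [LocallyOfFiniteType G.hom]
    [QuasiCompact G.hom] [GrpObj H] (h : H ⟶ G) [IsMonHom h] [Mono h] [IsAffine H.left]
    [GrpObj Q] [LocallyOfFiniteType Q.hom] [QuasiCompact Q.hom]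
    (q : G ⟶ Q) [IsMonHom q] [Surjective q.left] [Flat q.left] (hk : AlgGrp.IsKernel h q) :
    IsAffineHom q.left := by
  have hpb : IsPullback ((G ◁ h) ≫ μ[G]) (fst G H) q q := by
    have hval : ∀ {T : Over (Spec (CommRingCat.of k))} (g : T ⟶ G) (x : T ⟶ H),
        lift g x ≫ (G ◁ h) ≫ μ[G] = g * (x ≫ h) := fun {T} g x => by
      rw [lift_whiskerLeft_assoc, Hom.mul_def]
    have hone : ∀ {T : Over (Spec (CommRingCat.of k))} (x : T ⟶ H), (x ≫ h) ≫ q = 1 := fun {T} x => by
      rw [Category.assoc, hk.w, ← Category.assoc, comp_toUnit, Hom.one_def]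
    have hid : ∀ {T : Over (Spec (CommRingCat.of k))} (p : T ⟶ G ⊗ H), p = lift (p ≫ fst G H) (p ≫ snd G H) :=
      fun p => by rw [← comp_lift, lift_fst_snd, Category.comp_id]
    refine ⟨⟨?_⟩, ⟨PullbackCone.IsLimit.mk _
      (fun s => lift s.snd (hk.lift (s.snd⁻¹ * s.fst) (toUnit _) (by
        rw [MonObj.mul_comp, GrpObj.inv_comp, s.condition, inv_mul_cancel, Hom.one_def])))
      (fun s => by rw [hval, hk.lift_fst, mul_inv_cancel_left])
      (fun s => lift_fst _ _) (fun s m h1 h2 => ?_)⟩⟩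
    · have e := hid (𝟙 (G ⊗ H))
      rw [Category.id_comp, Category.id_comp] at e
      conv_lhs => rw [← Category.id_comp ((G ◁ h) ≫ μ[G]), e, hval, MonObj.mul_comp, hone, _root_.mul_one]
    · rw [hid m, h2]
      congr 1
      rw [← cancel_mono h, hk.lift_fst, eq_inv_mul_iff_mul_eq, ← h2, ← hval, ← hid]
      exact h1
  have := (Over.forget (Spec (CommRingCat.of k))).map_isPullback hpb
  have hsq : IsPullback ((G ◁ h) ≫ μ[G]).left (fst G H).left q.left q.left := this
  haveI : IsAffineHom H.hom := inferInstance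
  haveI : IsAffineHom (fst G H).left := (MorphismProperty.pullback_fst (P := @IsAffineHom) G.hom H.hom inferInstance : IsAffineHom (pullback.fst G.hom H.hom))
  haveI : IsAffineHom (pullback.snd q.left q.left) := by
    rw [← hsq.isoPullback_inv_snd]
    infer_instance
  haveI : IsSeparated G.hom := AbRigid.isSeparated_of_grpObj G
  haveI : IsSeparated Q.hom := AbRigid.isSeparated_of_grpObj Q
  haveI : QuasiCompact (q.left ≫ Q.hom) := by rw [Over.w q]; infer_instance
  haveI : QuasiCompact q.left := QuasiCompact.of_comp q.left Q.hom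
  haveI : QuasiSeparated (q.left ≫ Q.hom) := by rw [Over.w q]; infer_instance
  haveI : QuasiSeparated q.left := QuasiSeparated.of_comp q.left Q.hom
  exact Groth.Agent.FlatDesc26.isAffineHom_of_flat_cover q.left q.left

end Groth.Agent.AttrBorel21
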