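import Groth.Agent.Lib.AttrBorel21.CentGen

/-!
# Centralisers of tori in connected groups are smooth and connected
-/

set_option autoImplicit false
set_option linter.style.haveILetI false
set_option linter.unusedSectionVars false
set_option backward.isDefEq.respectTransparency.types false
universe u

open CategoryTheory Limits MonoidalCategory CartesianMonoidalCategory MonObj AlgebraicGeometry

noncomputable section

namespace Groth.Agent.AttrBorel21

open InvRing21 TorPts21 MatGrp21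

attribute [local instance] InvRing21.gamAlg BorelFix21.ptsTop

variable {k : Type u} [Field k] [IsAlgClosed k]

/-- The centraliser of a torus in a smooth group is smooth and closed. -/
theorem centralizer_props_gen {G T C : Over (Spec (CommRingCat.of k))} [GrpObj G] [GrpObj T] [GrpObj C]
    [Smooth G.hom] {iT : T ⟶ G} [IsMonHom iT] (hT : Red.IsTorus T) {c : C ⟶ G} (hc : Red.IsCentralizerOf iT c) :
    IsMonHom c ∧ IsClosedImmersion c.left ∧ Smooth C.hom := by
  haveI : IsSeparated G.hom := AbRigid.isSeparated_of_grpObj G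
  obtain ⟨Z, _, j, hj, hjc, hZ⟩ :=
    TorusCentr19.exists_centralizer' (MTRigid29.isMT_of_ft (TorPts21.isMultTypeFT_of_isTorus hT)) ‹_› iT
  obtain ⟨hcm, hcmono, hcu⟩ := hc
  obtain ⟨-, hjmono, hju⟩ := hj
  haveI := hcmono
  haveI := hjmono
  obtain ⟨f, hf⟩ := (hju C c).2 ((hcu C c).1 ⟨𝟙 C, Category.id_comp c⟩)
  obtain ⟨g, hg⟩ := (hcu Z j).2 ((hju Z j).1 ⟨𝟙 Z, Category.id_comp j⟩)
  haveI : IsIso f := ⟨g, (cancel_mono c).1 (by rw [Category.assoc, hg, hf, Category.id_comp]),
    (cancel_mono j).1 (by rw [Category.assoc, hf, hg, Category.id_comp])⟩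
  haveI : IsIso f.left := inferInstanceAs (IsIso ((Over.forget _).map f))
  haveI : IsClosedImmersion c.left := by rw [← hf, Over.comp_left]; infer_instance
  refine ⟨hcm, inferInstance, ?_⟩
  rw [← Over.w f]
  infer_instance

/-- The quotient of a smooth connected group by a closed central subgroup. -/
theorem exists_quotient_central {G Z : Over (Spec (CommRingCat.of k))} [GrpObj G] [GrpObj Z] [Smooth G.hom]
    [QuasiCompact G.hom] [ConnectedSpace ↥G.left] (z : Z ⟶ G) [IsMonHom z] [IsClosedImmersion z.left]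
    (hz : ∀ (X : Over (Spec (CommRingCat.of k))) (x : X ⟶ Z) (g : X ⟶ G), (x ≫ z) * g = g * (x ≫ z)) :
    ∃ (Q : Over (Spec (CommRingCat.of k))) (_ : GrpObj Q) (q : G ⟶ Q), IsMonHom q ∧ QuotField20.IsFppf q ∧
      AlgGrp.IsKernel z q ∧ Smooth Q.hom ∧ QuasiCompact Q.hom ∧ ConnectedSpace ↥Q.left := by
  haveI : IsSeparated G.hom := AbRigid.isSeparated_of_grpObj G
  haveI : Mono z := Over.mono_of_mono_left z
  haveI : LocallyOfFiniteType Z.hom := by rw [← Over.w z]; infer_instance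
  obtain ⟨Q, p, hp, hpb, hQ, hQs⟩ := QuotField20.exists_quotient_field z
  have hN : AlgGrp.IsNormalHom z := fun T g f => ⟨f, by rw [← hz T f g, mul_inv_cancel_right]⟩
  obtain ⟨_, hpm, hker⟩ := QuotField20.exists_grpObj_quotient z hp hpb hN
  haveI := hpm
  haveI := hp.surj
  haveI := hp.flat
  haveI := hQ
  haveI : IsSeparated Q.hom := AbRigid.isSeparated_of_grpObj Q
  haveI : CompactSpace G.left := (quasiCompact_iff_compactSpace G.hom).1 inferInstance
  haveI : CompactSpace Q.left := ⟨by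
    rw [← (p.left.surjective).range_eq]
    exact isCompact_range p.left.continuous⟩
  haveI : QuasiCompact Q.hom := (quasiCompact_iff_compactSpace Q.hom).2 inferInstance
  haveI : ConnectedSpace Q.left := p.left.surjective.connectedSpace p.left.continuous
  haveI := OrbitTop19.isReduced_of_smooth G.hom
  haveI : IsReduced Q.left := H12.isReduced_of_flat_surjective p.left
  haveI : Smooth Q.hom := GrpSmooth19.smooth_of_isReduced Q
  exact ⟨Q, inferInstance, p, hpm, hp, hker, inferInstance, inferInstance, inferInstance⟩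

/-- A scheme of finite type with finitely many rational points is affine. -/
theorem isAffine_of_finite_pts {F : Over (Spec (CommRingCat.of k))} [LocallyOfFiniteType F.hom]
    [Finite (VecGrp.pt k k ⟶ F)] : IsAffine F.left := by
  haveI : JacobsonSpace F.left := LocallyOfFiniteType.jacobsonSpace F.hom
  have hfin : (closedPoints F.left).Finite := by
    refine (Set.finite_range (InvRing21.img : (VecGrp.pt k k ⟶ F) → F.left)).subset fun z hz => ?_
    obtain ⟨x, hx⟩ := BorelFix21.exists_pt_of_closed z hz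
    exact ⟨x, hx⟩
  have hcl : closedPoints F.left = Set.univ := by
    have h1 : IsClosed (closedPoints F.left) := by
      rw [← Set.biUnion_of_singleton (closedPoints F.left)]
      exact hfin.isClosed_biUnion fun z hz => hz
    rw [← h1.closure_eq, closure_closedPoints]
  haveI : Finite F.left := Set.finite_univ_iff.1 (hcl ▸ hfin)
  haveI : T1Space F.left := ⟨fun z => (Set.ext_iff.1 hcl z).2 trivial⟩
  haveI : DiscreteTopology F.left := inferInstance
  infer_instance

set_option maxHeartbeats 1000000 in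
/-- The centraliser of a torus in a smooth connected group is connected. -/
theorem connectedSpace_centralizer_gen {G T C : Over (Spec (CommRingCat.of k))} [GrpObj G] [GrpObj T] [GrpObj C]
    [Smooth G.hom] [QuasiCompact G.hom] [ConnectedSpace ↥G.left] {i : T ⟶ G} [IsMonHom i] (hT : Red.IsTorus T)
    {c : C ⟶ G} (hC : Red.IsCentralizerOf i c) : ConnectedSpace C.left := by
  obtain ⟨hTa, hTs, -, -⟩ := TorPts21.props_of_isTorus hT
  haveI := hTa
  haveI := hTs
  haveI : IsSeparated G.hom := AbRigid.isSeparated_of_grpObj G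
  haveI : CompactSpace G.left := (quasiCompact_iff_compactSpace G.hom).1 inferInstance
  obtain ⟨hcm, hcc, hcs⟩ := centralizer_props_gen hT hC
  haveI := hcm
  haveI := hcc
  haveI := hcs
  haveI : Mono c := Over.mono_of_mono_left c
  haveI : CompactSpace C.left := c.left.isClosedEmbedding.compactSpace
  obtain ⟨Z, _, z, Q, _, q, hZ, hzc, hqm, hqs, hqf, hker, hQa, hQs, hQc⟩ := exists_centre_quotient G
  obtain ⟨hzm, hzmono, hzp⟩ := hZ
  haveI := hzm
  haveI := hzc
  haveI := hzmono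
  haveI := hqm
  haveI := hqs
  haveI := hqf
  haveI := hQa
  haveI := hQs
  haveI := hQc
  have hzcen : ∀ (X : Over (Spec (CommRingCat.of k))) (x : X ⟶ Z) (g : X ⟶ G), (x ≫ z) * g = g * (x ≫ z) :=
    fun X x g => by
    have h := (hzp X (x ≫ z)).1 ⟨x, rfl⟩ X (𝟙 X) g
    simpa only [Category.id_comp, Category.comp_id] using h
  -- the identity component of the centraliser and its intersection with the centre
  obtain ⟨C₀, _, j₀, hjm, hjo, hj0⟩ := BorelFix21.exists_identity_component C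
  haveI := hjm
  haveI := hjo
  haveI := hj0
  haveI : Mono j₀ := Over.mono_of_mono_left j₀
  haveI : IsClosedImmersion j₀.left :=
    IsClosedImmersion.of_isPreimmersion _ (AbRigid.isClosed_range_of_isOpen j₀ j₀.left.isOpenEmbedding.isOpen_range)
  haveI : CompactSpace C₀.left := j₀.left.isClosedEmbedding.compactSpace
  haveI : IsClosedImmersion (j₀ ≫ c).left := by rw [Over.comp_left]; infer_instance
  obtain ⟨Z₀, _, dZ, d₀, hdm, hdc, hZ₀⟩ := TorPts21.exists_subgroup_inter z (j₀ ≫ c)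
  haveI := hdm
  haveI := hdc
  haveI : IsClosedImmersion (dZ ≫ z).left := by rw [Over.comp_left]; infer_instance
  have hz₀ : ∀ (X : Over (Spec (CommRingCat.of k))) (x : X ⟶ Z₀) (g : X ⟶ G),
      (x ≫ dZ ≫ z) * g = g * (x ≫ dZ ≫ z) := fun X x g => by
    rw [← Category.assoc]; exact hzcen X (x ≫ dZ) g
  obtain ⟨G₂, _, p, hpm, hp, hk₀, hG₂s, hG₂q, hG₂c⟩ := exists_quotient_central (dZ ≫ z) hz₀
  haveI := hpm
  haveI := hp.surj
  haveI := hp.flat
  haveI := hG₂s
  haveI := hG₂q
  haveI := hG₂c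
  haveI : IsSeparated G₂.hom := AbRigid.isSeparated_of_grpObj G₂
  haveI : CompactSpace G₂.left := (quasiCompact_iff_compactSpace G₂.hom).1 inferInstance
  have hkp : ∀ {X : Over (Spec (CommRingCat.of k))} (x : X ⟶ G), x ≫ p = 1 → ∃ w : X ⟶ Z₀, w ≫ dZ ≫ z = x :=
    fun {X} x hx => ⟨hk₀.lift x (toUnit X) (by rw [hx, Hom.one_def]), hk₀.lift_fst _ _ _⟩
  have hkq : ∀ {X : Over (Spec (CommRingCat.of k))} (x : X ⟶ G), x ≫ q = 1 → ∃ w : X ⟶ Z, w ≫ z = x :=
    fun {X} x hx => ⟨hker.lift x (toUnit X) (by rw [hx, Hom.one_def]), hker.lift_fst _ _ _⟩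
  have hpz : (dZ ≫ z) ≫ p = 1 := by rw [hk₀.w, Hom.one_def]
  have hqz : z ≫ q = 1 := by rw [hker.w, Hom.one_def]
  -- the map to the adjoint group
  obtain ⟨p₂, hp₂⟩ := hp.exists_desc q (fun {X} a b hab => by
    obtain ⟨w, hw⟩ := hkp (a * b⁻¹) (by rw [MonObj.mul_comp, GrpObj.inv_comp, hab, mul_inv_cancel])
    have h1 : (a * b⁻¹) ≫ q = 1 := by
      rw [← hw, ← Category.assoc, Category.assoc (w ≫ dZ), hqz, MonObj.comp_one]
    rwa [MonObj.mul_comp, GrpObj.inv_comp, mul_inv_eq_one] at h1)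
  haveI hp₂m : IsMonHom p₂ := by
    haveI := hp.epi
    haveI : Epi (p ⊗ₘ p) := by
      haveI : Surjective (p ⊗ₘ p).left :=
        MorphismProperty.pullbackMap (P := @Surjective) hp.surj hp.surj (Over.w p).symm (Over.w p).symm
      haveI : Flat (p ⊗ₘ p).left :=
        MorphismProperty.pullbackMap (P := @Flat) hp.flat hp.flat (Over.w p).symm (Over.w p).symm
      haveI := hp.lfp
      haveI : LocallyOfFinitePresentation (p ⊗ₘ p).left :=
        MorphismProperty.pullbackMap (P := @LocallyOfFinitePresentation) hp.lfp hp.lfp (Over.w p).symm (Over.w p).symm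
      exact QuotField20.IsFppf.epi ⟨inferInstance, inferInstance, inferInstance⟩
    refine ⟨?_, ?_⟩
    · rw [← IsMonHom.one_hom p, Category.assoc, hp₂, IsMonHom.one_hom]
    · rw [← cancel_epi (p ⊗ₘ p), ← Category.assoc, ← IsMonHom.mul_hom p, Category.assoc, hp₂,
        IsMonHom.mul_hom q, ← Category.assoc, tensorHom_comp_tensorHom, hp₂]
  haveI : LocallyOfFiniteType (q.left ≫ Q.hom) := by rw [Over.w q]; infer_instance
  haveI : LocallyOfFiniteType q.left := locallyOfFiniteType_of_comp q.left Q.hom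
  haveI : IsLocallyNoetherian Q.left := LocallyOfFiniteType.isLocallyNoetherian Q.hom
  have hq : QuotField20.IsFppf q := ⟨inferInstance, inferInstance, inferInstance⟩
  have hp₂f : QuotField20.IsFppf p₂ := hp.of_comp_left (hp₂.symm ▸ hq)
  haveI := hp₂f.surj
  haveI := hp₂f.flat
  haveI : IsClosedImmersion (η[Q]).left := isClosedImmersion_of_comp_eq_id Q.hom (η[Q]).left (Over.w η[Q])
  obtain ⟨F, _, kF, uF, hkFm, hkFc, hF⟩ := TorPts21.exists_subgroup_inter p₂ η[Q]
  haveI := hkFm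
  haveI := hkFc
  obtain rfl : uF = toUnit F := toUnit_unique _ _
  haveI : Mono kF := Over.mono_of_mono_left kF
  haveI : LocallyOfFiniteType F.hom := by rw [← Over.w kF]; infer_instance
  -- finitely many cosets of the identity component
  let O : (VecGrp.pt k k ⟶ C) → Set C.left := fun a => (InvRing21.rTr a⁻¹).left ⁻¹' Set.range j₀.left
  have hOmem : ∀ a x : VecGrp.pt k k ⟶ C, InvRing21.img x ∈ O a ↔ ∃ y : VecGrp.pt k k ⟶ C₀, y ≫ j₀ = x * a⁻¹ := by
    intro a x
    have e : x ≫ InvRing21.rTr a⁻¹ = x * a⁻¹ := by rw [InvRing21.comp_rTr, InvRing21.toPt_pt, Category.id_comp]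
    rw [← InvRing21.img_mem_iff j₀, ← e]
    rfl
  obtain ⟨s, hs⟩ := isCompact_univ.elim_finite_subcover O
    (fun a => j₀.left.isOpenEmbedding.isOpen_range.preimage (InvRing21.rTr a⁻¹).left.continuous)
    (fun ζ _ => Set.mem_iUnion.2 (by
      obtain ⟨a, ha⟩ := BorelFix21.exists_pt_mem (G := C) (Z := closure {ζ}) isClosed_closure.isLocallyClosed
        ⟨ζ, subset_closure rfl⟩
      refine ⟨a, (specializes_iff_mem_closure.2 ha).mem_open
        (j₀.left.isOpenEmbedding.isOpen_range.preimage (InvRing21.rTr a⁻¹).left.continuous)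
        ((hOmem a a).2 ⟨1, by rw [MonObj.one_comp, mul_inv_cancel]⟩)⟩))
  have hchoose : ∀ y : VecGrp.pt k k ⟶ C, ∃ a : s, ∃ w : VecGrp.pt k k ⟶ C₀, w ≫ j₀ = y * (a.1)⁻¹ := fun y => by
    obtain ⟨a, ha⟩ := Set.mem_iUnion.1 (hs (Set.mem_univ (InvRing21.img y)))
    obtain ⟨has, hay⟩ := Set.mem_iUnion.1 ha
    exact ⟨⟨a, has⟩, (hOmem a y).1 hay⟩
  have hpre : ∀ f : VecGrp.pt k k ⟶ F, ∃ (x : VecGrp.pt k k ⟶ Z) (y : VecGrp.pt k k ⟶ C),
      (x ≫ z) ≫ p = f ≫ kF ∧ y ≫ c = x ≫ z := fun f => by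
    obtain ⟨g, hg⟩ := exists_pt_lift p (f ≫ kF)
    obtain ⟨x, hx⟩ := hkq g (by
      rw [← hp₂, ← Category.assoc, hg, Category.assoc, hF.w, ← Category.assoc, comp_toUnit, Hom.one_def])
    obtain ⟨y, hy⟩ := (hC.2.2 _ (x ≫ z)).2 fun X' s' h => by
      rw [← Category.assoc]; exact hzcen X' (s' ≫ x) (h ≫ i)
    exact ⟨x, y, by rw [hx, hg], hy⟩
  choose xF yF hxF hyF using hpre
  choose aF wF hwF using hchoose
  haveI : Finite (VecGrp.pt k k ⟶ F) := Finite.of_injective (fun f => aF (yF f)) fun f f' h => by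
    simp only at h
    refine (cancel_mono kF).1 ?_
    rw [← hxF, ← hxF, ← mul_inv_eq_one, ← GrpObj.inv_comp, ← MonObj.mul_comp]
    have h1 : (xF f ≫ z) * (xF f' ≫ z)⁻¹ = (wF (yF f) * (wF (yF f'))⁻¹) ≫ j₀ ≫ c := by
      rw [← Category.assoc, MonObj.mul_comp, GrpObj.inv_comp, hwF, hwF, h, MonObj.mul_comp, GrpObj.inv_comp,
        MonObj.mul_comp, MonObj.mul_comp, GrpObj.inv_comp, hyF, hyF]
      group
    rw [← GrpObj.inv_comp, ← MonObj.mul_comp] at h1 ⊢
    rw [← hZ₀.lift_fst _ _ h1]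
    simp only [Category.assoc] at hpz ⊢
    rw [hpz, MonObj.comp_one]
  haveI : IsAffine F.left := isAffine_of_finite_pts
  haveI : IsAffineHom p₂.left := isAffineHom_of_kernel kF p₂ hF
  haveI : IsAffine G₂.left := isAffine_of_isAffineHom p₂.left
  -- the centraliser in the quotient
  haveI : IsMonHom (i ≫ p) := inferInstance
  obtain ⟨C₂, _, c₂, hC₂, hc₂c, hC₂s⟩ :=
    TorusCentr19.exists_centralizer' (MTRigid29.isMT_of_ft (TorPts21.isMultTypeFT_of_isTorus hT)) hG₂s (i ≫ p)
  haveI := hC₂.1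
  haveI := hC₂.2.1
  haveI := hc₂c
  haveI := hC₂s
  haveI : ConnectedSpace C₂.left := TorPts21.connectedSpace_centralizer hT hC₂
  haveI : CompactSpace C₂.left := c₂.left.isClosedEmbedding.compactSpace
  obtain ⟨φ, hφ⟩ := (hC₂.2.2 _ (c ≫ p)).2 fun X' x h => by
    have := congrArg (· ≫ p) ((hC.2.2 _ c).1 ⟨𝟙 C, Category.id_comp c⟩ X' x h)
    simpa only [MonObj.mul_comp, Category.assoc] using this
  haveI : IsMonHom φ := BorelFix21.isMonHom_of_comp c₂ φ (hφ ▸ (inferInstance : IsMonHom (c ≫ p)))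
  obtain ⟨H, _, dG, d₂, hdGm, hdGc, hH⟩ := TorPts21.exists_subgroup_inter p c₂
  haveI := hdGm
  haveI := hdGc
  haveI : IsMonHom d₂ := BorelFix21.isMonHom_of_comp c₂ d₂ (hH.w ▸ (inferInstance : IsMonHom (dG ≫ p)))
  haveI : LocallyOfFiniteType H.hom := by rw [← Over.w dG]; infer_instance
  haveI : CompactSpace H.left := dG.left.isClosedEmbedding.compactSpace
  obtain ⟨H₀, _, jH, hjHm, hjHo, hH0⟩ := BorelFix21.exists_identity_component H
  haveI := hjHm
  haveI := hjHo
  haveI := hH0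
  haveI : IsClosedImmersion jH.left :=
    IsClosedImmersion.of_isPreimmersion _ (AbRigid.isClosed_range_of_isOpen jH jH.left.isOpenEmbedding.isOpen_range)
  haveI : CompactSpace H₀.left := jH.left.isClosedEmbedding.compactSpace
  haveI : LocallyOfFiniteType H₀.hom := by rw [← Over.w jH]; infer_instance
  haveI : LocallyOfFiniteType Z₀.hom := by rw [← Over.w (dZ ≫ z)]; infer_instance
  have hφsurj : ∀ b : VecGrp.pt k k ⟶ C₂, ∃ y : VecGrp.pt k k ⟶ C, y ≫ φ = b := by
    intro b
    obtain ⟨a, ha⟩ := forall_exists_lift_component jH d₂ (fun b => by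
      obtain ⟨x, hx⟩ := exists_pt_lift p (b ≫ c₂)
      exact ⟨hH.lift x b hx, hH.lift_snd _ _ _⟩) b
    have hcomm : ∀ (a : VecGrp.pt k k ⟶ H₀) (t : VecGrp.pt k k ⟶ T), ∃ w : VecGrp.pt k k ⟶ Z₀,
        w ≫ dZ ≫ z = (a ≫ jH ≫ dG) * (t ≫ i) * (a ≫ jH ≫ dG)⁻¹ * (t ≫ i)⁻¹ := fun a t => hkp _ (by
      have h2 := (hC₂.2.2 _ ((a ≫ jH ≫ d₂) ≫ c₂)).1 ⟨_, rfl⟩ _ (𝟙 _) t
      have e : (a ≫ jH ≫ dG) ≫ p = (a ≫ jH ≫ d₂) ≫ c₂ := by simp only [Category.assoc, hH.w]
      rw [Category.id_comp, ← e, ← Category.assoc t] at h2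
      rw [MonObj.mul_comp, MonObj.mul_comp, MonObj.mul_comp, GrpObj.inv_comp, GrpObj.inv_comp, h2,
        mul_inv_cancel_right, mul_inv_cancel])
    have hg := commute_of_commute_tors hT i (a ≫ jH ≫ dG) fun t n hn ht =>
      commute_torus_of_family (dZ ≫ z) (fun x g => hz₀ _ x g) i (jH ≫ dG) 1 (MonObj.one_comp _) hcomm a t hn ht
    obtain ⟨y, hy⟩ := (hC.2.2 _ (a ≫ jH ≫ dG)).2 fun X' x h => by
      rw [InvRing21.hom_ext_toPt x (InvRing21.toPt X')]
      exact hg X' h
    refine ⟨y, (cancel_mono c₂).1 ?_⟩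
    rw [Category.assoc, hφ, ← Category.assoc, hy, ← ha]
    simp only [Category.assoc, hH.w]
  -- every rational point is in the identity component
  have hall : ∀ y : VecGrp.pt k k ⟶ C, InvRing21.img y ∈ Set.range j₀.left := by
    intro y
    obtain ⟨a, ha⟩ := forall_exists_lift_component j₀ φ hφsurj (y ≫ φ)
    obtain ⟨w, hw⟩ := hkp ((y * (a ≫ j₀)⁻¹) ≫ c) (by
      rw [Category.assoc, ← hφ, ← Category.assoc, MonObj.mul_comp, GrpObj.inv_comp, Category.assoc a, ha,
        mul_inv_cancel, MonObj.one_comp])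
    have h1 : (w ≫ d₀) ≫ j₀ = y * (a ≫ j₀)⁻¹ := (cancel_mono c).1 (by
      rw [← hw, Category.assoc, Category.assoc, ← hZ₀.w])
    refine (InvRing21.img_mem_iff j₀ y).2 ⟨(w ≫ d₀) * a, ?_⟩
    rw [MonObj.mul_comp, h1, inv_mul_cancel_right]
  haveI : Surjective j₀.left := ⟨fun ζ => by
    by_contra hζ
    obtain ⟨y, hy⟩ := BorelFix21.exists_pt_mem (G := C) (Z := (Set.range j₀.left)ᶜ)
      j₀.left.isClosedEmbedding.isClosed_range.isOpen_compl.isLocallyClosed ⟨ζ, hζ⟩
    exact hy (hall y)⟩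
  exact j₀.left.surjective.connectedSpace j₀.left.continuous

end Groth.Agent.AttrBorel21
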