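import Groth.Agent.Lib.AttrBorel21.MaxTori
import Groth.Agent.Lib.TorPts21.DimTwo
import Groth.Agent.Lib.TorPts21.SemisimpleField
import Groth.Agent.Lib.TorPts21.CentralizerRadical
import Groth.Agent.Lib.QuotFlat20.Basic
import Groth.Agent.Lib.MTRigid29.QuotTorus
import Groth.Agent.Lib.TorPts21.WeylNorm

/-!
# Images and products of tori in possibly non-affine groups over an algebraically closed field
-/

set_option autoImplicit false
set_option linter.style.haveILetI false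
set_option linter.unusedSectionVars false
set_option backward.isDefEq.respectTransparency.types false
universe u

open CategoryTheory Limits MonoidalCategory CartesianMonoidalCategory MonObj AlgebraicGeometry

noncomputable section

namespace Groth.Agent.AttrBorel21

open InvRing21 DiagGL TorPts21 MatGrp21

attribute [local instance] InvRing21.gamAlg BorelFix21.ptsTop

variable {k : Type u} [Field k] [IsAlgClosed k]

theorem continuous_pts_comp {X Y : Over (Spec (CommRingCat.of k))} (f : X ⟶ Y) :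
    Continuous (fun x : VecGrp.pt k k ⟶ X => x ≫ f) :=
  continuous_induced_rng.2 ((f.left.continuous.comp continuous_induced_dom).congr fun _ => rfl)

/-- The image of a torus in an affine group lies in a torus. -/
theorem exists_torus_image {T Q : Over (Spec (CommRingCat.of k))} [GrpObj T] [GrpObj Q] (hT : Red.IsTorus T)
    [IsAffine Q.left] [LocallyOfFiniteType Q.hom] (f : T ⟶ Q) [IsMonHom f] :
    ∃ (σ : Over (Spec (CommRingCat.of k))) (_ : GrpObj σ) (s : σ ⟶ Q) (p : T ⟶ σ),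
      IsMonHom s ∧ Mono s ∧ Red.IsTorus σ ∧ p ≫ s = f := by
  obtain ⟨hTa, hTs, hTc, -⟩ := TorPts21.props_of_isTorus hT
  haveI := hTa
  haveI := hTs
  haveI := hTc
  obtain ⟨d, ⟨C⟩⟩ := exists_chars hT
  obtain ⟨n, r, hr, hrc⟩ := GrassAct21.exists_embedding_GL Q
  haveI := hr
  haveI := hrc
  let H₀ : Subgroup (VecGrp.pt k k ⟶ Q) := (TorPts21.ptsHom f).range
  obtain ⟨H, hH⟩ := TorPts21.exists_subgroup_closure H₀
  obtain ⟨P, hP⟩ := range_mtx_diag C (f ≫ r)
  let M : Subgroup (GL (Fin n) k) := H.map (mtx r)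
  have hMcl : IsClosed (M : Set (GL (Fin n) k)) := by
    show IsClosed ((mtx r : (VecGrp.pt k k ⟶ Q) → GL (Fin n) k) '' (H : Set (VecGrp.pt k k ⟶ Q)))
    exact isClosed_image_mtxFn r (hH ▸ isClosed_closure)
  haveI : IrreducibleSpace T.left := AbRigid.irreducibleSpace_of_isAlgClosed T
  have hirr : IsPreirreducible (H : Set (VecGrp.pt k k ⟶ Q)) := by
    rw [hH]
    refine IsPreirreducible.closure ?_
    have : (H₀ : Set (VecGrp.pt k k ⟶ Q)) = (fun x => x ≫ f) '' Set.univ := by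
      ext y
      simp [H₀, TorPts21.ptsHom]
    rw [this]
    exact isPreirreducible_pts.image _ (continuous_pts_comp f).continuousOn
  have hMirr : IsPreirreducible (M : Set (GL (Fin n) k)) :=
    hirr.image _ (continuous_mtxFn r).continuousOn
  have hMd : ∀ t ∈ M, ((P * t * P⁻¹ : GL (Fin n) k) : Matrix (Fin n) (Fin n) k).IsDiag := by
    have hcl : IsClosed {g : GL (Fin n) k | ((P * g * P⁻¹ : GL (Fin n) k) : Matrix (Fin n) (Fin n) k).IsDiag} := by
      have : {g : GL (Fin n) k | ((P * g * P⁻¹ : GL (Fin n) k) : Matrix (Fin n) (Fin n) k).IsDiag} =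
          (fun g => P * g * P⁻¹) ⁻¹' ⋂ (a : Fin n) (b : Fin n) (_ : a ≠ b),
            {g : GL (Fin n) k | (g : Matrix (Fin n) (Fin n) k) a b = 0} := by
        ext g; simp [Matrix.IsDiag, _root_.Pairwise]
      rw [this]
      exact (isClosed_iInter fun a => isClosed_iInter fun b => isClosed_iInter fun _ =>
        MatGrp21.isClosed_eq (isReg_entry a b) (isReg_const 0)).preimage (continuous_conj P)
    rintro _ ⟨x, hx, rfl⟩
    have hx' : x ∈ closure (H₀ : Set (VecGrp.pt k k ⟶ Q)) := hH ▸ hx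
    refine (closure_minimal (fun y hy => ?_) (hcl.preimage (continuous_mtxFn r))) hx'
    obtain ⟨t, rfl⟩ := hy
    exact hP _ ⟨t, mtx_comp f r t⟩
  obtain ⟨σ, iσ, e, Cσ, s, hsm, hmono, hsc, hrange⟩ := exists_torus_subgroup r
    (Subgroup.map_le_range (mtx r) H) hMcl hMirr P hMd
  haveI := hsm
  haveI := hsc
  haveI : Smooth σ.hom := smooth_of_chars Cσ
  haveI : IsAffine σ.left := isAffine_of_chars Cσ
  obtain ⟨p, hp, -⟩ := exists_lift_of_range_le r f s (by
    rw [hrange]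
    rintro _ ⟨t, rfl⟩
    exact ⟨t ≫ f, (hH.symm ▸ subset_closure ⟨t, rfl⟩ : t ≫ f ∈ (H : Set _)), (mtx_comp f r t).symm⟩)
  exact ⟨σ, iσ, s, p, hsm, hmono, TorPts21.isTorus_of_chars Cσ, hp⟩

/-- Two tori commute as soon as their commutators are central. -/
theorem commute_tori_of_central {G T₁ T₂ : Over (Spec (CommRingCat.of k))} [GrpObj G] [GrpObj T₁] [GrpObj T₂]
    [LocallyOfFiniteType G.hom] (h₁ : Red.IsTorus T₁) (h₂ : Red.IsTorus T₂) (i₁ : T₁ ⟶ G) (i₂ : T₂ ⟶ G)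
    [IsMonHom i₁] [IsMonHom i₂]
    (hc : ∀ (x : VecGrp.pt k k ⟶ T₁) (y : VecGrp.pt k k ⟶ T₂) (g : VecGrp.pt k k ⟶ G),
      g * ((x ≫ i₁) * (y ≫ i₂) * (x ≫ i₁)⁻¹ * (y ≫ i₂)⁻¹) = ((x ≫ i₁) * (y ≫ i₂) * (x ≫ i₁)⁻¹ * (y ≫ i₂)⁻¹) * g) :
    ∀ (X : Over (Spec (CommRingCat.of k))) (x : X ⟶ T₁) (y : X ⟶ T₂), (x ≫ i₁) * (y ≫ i₂) = (y ≫ i₂) * (x ≫ i₁) := by
  obtain ⟨h1a, h1s, -, -⟩ := TorPts21.props_of_isTorus h₁
  obtain ⟨h2a, h2s, -, -⟩ := TorPts21.props_of_isTorus h₂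
  haveI := h1a
  haveI := h1s
  haveI := h2a
  haveI := h2s
  obtain ⟨d, ⟨C⟩⟩ := exists_chars h₁
  let e : (VecGrp.pt k k ⟶ T₁) → (VecGrp.pt k k ⟶ T₂) → (VecGrp.pt k k ⟶ G) := fun x y =>
    (x ≫ i₁) * (y ≫ i₂) * (x ≫ i₁)⁻¹ * (y ≫ i₂)⁻¹
  have hel : ∀ x x' y, e (x * x') y = e x y * e x' y := fun x x' y => by
    have h := hc x' y
    simp only [e, MonObj.mul_comp, mul_inv_rev]
    calc (x ≫ i₁) * (x' ≫ i₁) * (y ≫ i₂) * ((x' ≫ i₁)⁻¹ * (x ≫ i₁)⁻¹) * (y ≫ i₂)⁻¹
        = (x ≫ i₁) * ((x' ≫ i₁) * (y ≫ i₂) * (x' ≫ i₁)⁻¹ * (y ≫ i₂)⁻¹) * ((y ≫ i₂) * (x ≫ i₁)⁻¹ * (y ≫ i₂)⁻¹) := by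
          group
      _ = ((x' ≫ i₁) * (y ≫ i₂) * (x' ≫ i₁)⁻¹ * (y ≫ i₂)⁻¹) * ((x ≫ i₁) * (y ≫ i₂) * (x ≫ i₁)⁻¹ * (y ≫ i₂)⁻¹) := by
          rw [h (x ≫ i₁)]; group
      _ = _ := (h _).symm
  have her : ∀ x y y', e x (y * y') = e x y * e x y' := fun x y y' => by
    have h := hc x y'
    simp only [e, MonObj.mul_comp, mul_inv_rev]
    calc (x ≫ i₁) * ((y ≫ i₂) * (y' ≫ i₂)) * (x ≫ i₁)⁻¹ * ((y' ≫ i₂)⁻¹ * (y ≫ i₂)⁻¹)
        = ((x ≫ i₁) * (y ≫ i₂) * (x ≫ i₁)⁻¹) *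
            (((x ≫ i₁) * (y' ≫ i₂) * (x ≫ i₁)⁻¹ * (y' ≫ i₂)⁻¹) * (y ≫ i₂)⁻¹) := by group
      _ = _ := by rw [← h (y ≫ i₂)⁻¹]; group
  have hel1 : ∀ y, e 1 y = 1 := fun y => by simp [e, MonObj.one_comp]
  have hpowl : ∀ x y (m : ℕ), e (x ^ m) y = e x y ^ m := fun x y m => by
    induction m with
    | zero => rw [pow_zero, pow_zero, hel1]
    | succ m ih => rw [pow_succ, hel, ih, pow_succ]
  have hpowr : ∀ x y (m : ℕ), e x (y ^ m) = e x y ^ m := fun x y m => by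
    induction m with
    | zero => rw [pow_zero, pow_zero]; simp [e, MonObj.one_comp]
    | succ m ih => rw [pow_succ, her, ih, pow_succ]
  have htors : ∀ x, (∃ m : ℕ, 0 < m ∧ x ^ m = 1) → ∀ y, e x y = 1 := by
    rintro x ⟨m, hm, hx⟩ y
    obtain ⟨y', hy'⟩ := TorPts21.exists_pow_eq h₂ hm y
    rw [← hy', hpowr, ← hpowl, hx, hel1]
  -- all rational points commute
  have hpts : ∀ x y, e x y = 1 := fun x y => by
    obtain ⟨n, r, hr, hrc⟩ := GrassAct21.exists_embedding_GL T₁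
    haveI := hr
    haveI := hrc
    let φ : (VecGrp.pt k k ⟶ T₁) → (VecGrp.pt k k ⟶ G) := fun x => e x y
    have hφ : Continuous φ := by
      let K : T₁ ⟶ G := i₁ * (InvRing21.toPt T₁ ≫ y ≫ i₂) * i₁⁻¹ * (InvRing21.toPt T₁ ≫ y ≫ i₂)⁻¹
      have : φ = fun x => x ≫ K := funext fun x => by
        simp only [φ, e, K, MonObj.comp_mul, GrpObj.comp_inv, ← Category.assoc x (InvRing21.toPt T₁),
          InvRing21.comp_toPt, InvRing21.toPt_pt, Category.id_comp]
      rw [this]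
      exact continuous_pts_comp K
    haveI : IsSeparated G.hom := AbRigid.isSeparated_of_grpObj G
    have hcl : IsClosed (φ ⁻¹' {1}) := by
      refine IsClosed.preimage hφ ?_
      have hs : ({1} : Set (VecGrp.pt k k ⟶ G)) = InvRing21.img ⁻¹' {InvRing21.img (1 : VecGrp.pt k k ⟶ G)} :=
        Set.ext fun z => ⟨fun h => congrArg InvRing21.img h, fun h => pt_ext h⟩
      rw [hs]
      exact (isClosed_singleton_img _).preimage continuous_induced_dom
    have hx : mtx r x ∈ closure (tors ((mtx r).range : Set (GL (Fin n) k))) := range_mtx_dense C r ⟨x, rfl⟩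
    have hsub : tors ((mtx r).range : Set (GL (Fin n) k)) ⊆ mtxFn r '' (φ ⁻¹' {1}) := by
      rintro _ ⟨⟨t, rfl⟩, L, hL, hLt⟩
      refine ⟨t, htors t ⟨L, Nat.pos_of_ne_zero (fun h => hL (by simp [h])), mtxFn_injective r ?_⟩ y, rfl⟩
      rw [← mtx_apply, map_pow, hLt]
      exact (map_one (mtx r)).symm
    obtain ⟨x', hx', hxx'⟩ := closure_minimal hsub (isClosed_image_mtxFn r hcl) hx
    rw [mtxFn_injective r hxx'] at hx'
    exact hx'
  intro X x y
  haveI : Smooth (T₁ ⊗ T₂).hom := inferInstanceAs (Smooth (pullback.fst T₁.hom T₂.hom ≫ T₁.hom))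
  haveI : IsAffine (T₁ ⊗ T₂).left := inferInstanceAs (IsAffine (pullback T₁.hom T₂.hom))
  haveI := OrbitTop19.isReduced_of_smooth (T₁ ⊗ T₂).hom
  let E : T₁ ⊗ T₂ ⟶ G := (fst T₁ T₂ ≫ i₁) * (snd T₁ T₂ ≫ i₂) * (fst T₁ T₂ ≫ i₁)⁻¹ * (snd T₁ T₂ ≫ i₂)⁻¹
  have hE : E = 1 := TorPts21.eq_one_of_forall_pts E fun p => by
    have := hpts (p ≫ fst T₁ T₂) (p ≫ snd T₁ T₂)
    simpa only [E, e, MonObj.comp_mul, GrpObj.comp_inv, Category.assoc] using this
  have h := congrArg (lift x y ≫ ·) hE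
  simp only [E, MonObj.comp_mul, GrpObj.comp_inv, lift_fst_assoc, lift_snd_assoc, MonObj.comp_one] at h
  rwa [mul_inv_eq_one, mul_inv_eq_iff_eq_mul] at h

/-- A product of two tori is a torus. -/
theorem isTorus_tensor {T₁ T₂ : Over (Spec (CommRingCat.of k))} [GrpObj T₁] [GrpObj T₂] (h₁ : Red.IsTorus T₁)
    (h₂ : Red.IsTorus T₂) : Red.IsTorus (T₁ ⊗ T₂) := by
  obtain ⟨d, ⟨C⟩⟩ := exists_chars h₁
  obtain ⟨e, ⟨D⟩⟩ := exists_chars h₂
  have hfst : ∀ {X : Over (Spec (CommRingCat.of k))} (x y : X ⟶ T₁ ⊗ T₂),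
      (x * y) ≫ fst T₁ T₂ = (x ≫ fst T₁ T₂) * (y ≫ fst T₁ T₂) := fun x y => MonObj.mul_comp x y (fst T₁ T₂)
  have hsnd : ∀ {X : Over (Spec (CommRingCat.of k))} (x y : X ⟶ T₁ ⊗ T₂),
      (x * y) ≫ snd T₁ T₂ = (x ≫ snd T₁ T₂) * (y ≫ snd T₁ T₂) := fun x y => MonObj.mul_comp x y (snd T₁ T₂)
  let resl : Multiplicative (Fin (d + e) → ℤ) →* Multiplicative (Fin d → ℤ) :=
    AddMonoidHom.toMultiplicative (LinearMap.funLeft ℤ ℤ (Fin.castAdd e)).toAddMonoidHom
  let resr : Multiplicative (Fin (d + e) → ℤ) →* Multiplicative (Fin e → ℤ) :=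
    AddMonoidHom.toMultiplicative (LinearMap.funLeft ℤ ℤ (Fin.natAdd d)).toAddMonoidHom
  refine TorPts21.isTorus_of_chars (r := d + e) (T := T₁ ⊗ T₂)
    { ch := fun x => (C.ch (x ≫ fst T₁ T₂)).comp resl * (D.ch (x ≫ snd T₁ T₂)).comp resr
      nat := fun t x a => by
        simp only [MonoidHom.mul_apply, MonoidHom.comp_apply, Category.assoc, C.nat, D.nat, map_mul]
      mul := fun x y a => by
        simp only [MonoidHom.mul_apply, MonoidHom.comp_apply, hfst, hsnd, C.mul, D.mul]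
        exact mul_mul_mul_comm _ _ _ _
      inj := fun {X x y} h => ?_
      surj := fun {X} c => ?_ }
  · refine CartesianMonoidalCategory.hom_ext _ _ (C.inj fun a => ?_) (D.inj fun a => ?_)
    · have h1 := h (Multiplicative.ofAdd (Fin.append a.toAdd 0))
      have e1 : resl (Multiplicative.ofAdd (Fin.append a.toAdd 0)) = a :=
        Multiplicative.toAdd.injective (funext fun i => Fin.append_left _ _ i)
      have e2 : resr (Multiplicative.ofAdd (Fin.append a.toAdd 0)) = 1 :=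
        Multiplicative.toAdd.injective (funext fun i => Fin.append_right _ _ i)
      simpa only [MonoidHom.mul_apply, MonoidHom.comp_apply, e1, e2, map_one, _root_.mul_one] using h1
    · have h1 := h (Multiplicative.ofAdd (Fin.append 0 a.toAdd))
      have e1 : resl (Multiplicative.ofAdd (Fin.append 0 a.toAdd)) = 1 :=
        Multiplicative.toAdd.injective (funext fun i => Fin.append_left _ _ i)
      have e2 : resr (Multiplicative.ofAdd (Fin.append 0 a.toAdd)) = a :=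
        Multiplicative.toAdd.injective (funext fun i => Fin.append_right _ _ i)
      simpa only [MonoidHom.mul_apply, MonoidHom.comp_apply, e1, e2, map_one, _root_.one_mul] using h1
  · let inl : Multiplicative (Fin d → ℤ) →* Multiplicative (Fin (d + e) → ℤ) :=
      MonoidHom.mk' (fun a => Multiplicative.ofAdd (Fin.append a.toAdd 0)) fun a b => by
        refine congrArg Multiplicative.ofAdd (funext fun i => ?_)
        refine i.addCases (fun l => ?_) (fun l => ?_) <;> simp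
    let inr : Multiplicative (Fin e → ℤ) →* Multiplicative (Fin (d + e) → ℤ) :=
      MonoidHom.mk' (fun a => Multiplicative.ofAdd (Fin.append 0 a.toAdd)) fun a b => by
        refine congrArg Multiplicative.ofAdd (funext fun i => ?_)
        refine i.addCases (fun l => ?_) (fun l => ?_) <;> simp
    obtain ⟨x, hx⟩ := C.surj (c.comp inl)
    obtain ⟨y, hy⟩ := D.surj (c.comp inr)
    refine ⟨lift x y, MonoidHom.ext fun a => ?_⟩
    simp only [MonoidHom.mul_apply, MonoidHom.comp_apply, lift_fst, lift_snd, hx, hy, ← map_mul]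
    refine congrArg c (congrArg Multiplicative.ofAdd (funext fun i => ?_))
    refine i.addCases (fun l => ?_) (fun l => ?_) <;>
      simp [resl, resr, inl, inr, LinearMap.funLeft] <;> rfl

/-- Two commuting tori lie in a common torus. -/
theorem exists_torus_ge_of_commute {G T₁ T₂ : Over (Spec (CommRingCat.of k))} [GrpObj G] [GrpObj T₁] [GrpObj T₂]
    [LocallyOfFiniteType G.hom] (h₁ : Red.IsTorus T₁) (h₂ : Red.IsTorus T₂) (i₁ : T₁ ⟶ G) (i₂ : T₂ ⟶ G)
    [IsMonHom i₁] [IsMonHom i₂]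
    (hc : ∀ (X : Over (Spec (CommRingCat.of k))) (x : X ⟶ T₁) (y : X ⟶ T₂), (x ≫ i₁) * (y ≫ i₂) = (y ≫ i₂) * (x ≫ i₁)) :
    ∃ (Q : Over (Spec (CommRingCat.of k))) (_ : GrpObj Q) (m : Q ⟶ G) (f₁ : T₁ ⟶ Q) (f₂ : T₂ ⟶ Q),
      IsMonHom m ∧ Mono m ∧ Red.IsTorus Q ∧ f₁ ≫ m = i₁ ∧ f₂ ≫ m = i₂ := by
  have hP := isTorus_tensor h₁ h₂
  obtain ⟨hPa, hPs, -, -⟩ := TorPts21.props_of_isTorus hP
  haveI := hPa
  haveI := hPs
  let f : T₁ ⊗ T₂ ⟶ G := (fst T₁ T₂ ≫ i₁) * (snd T₁ T₂ ≫ i₂)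
  have hf : ∀ {X : Over (Spec (CommRingCat.of k))} (x : X ⟶ T₁ ⊗ T₂),
      x ≫ f = ((x ≫ fst T₁ T₂) ≫ i₁) * ((x ≫ snd T₁ T₂) ≫ i₂) := fun x => by
    simp only [f, MonObj.comp_mul, Category.assoc]
  haveI : IsMonHom f := isMonHom_of_forall_mul f fun X x y => by
    rw [hf, hf, hf, MonObj.mul_comp x y (fst T₁ T₂), MonObj.mul_comp x y (snd T₁ T₂), MonObj.mul_comp,
      MonObj.mul_comp]
    rw [_root_.mul_assoc, _root_.mul_assoc]
    congr 1
    rw [← _root_.mul_assoc, hc X (y ≫ fst T₁ T₂) (x ≫ snd T₁ T₂), _root_.mul_assoc]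
  haveI : IsSeparated G.hom := AbRigid.isSeparated_of_grpObj G
  haveI : IsClosedImmersion (η[G]).left :=
    isClosedImmersion_of_comp_eq_id G.hom (η[G]).left (Over.w η[G])
  obtain ⟨K, _, kk, u, hkm, hkc, hK⟩ := TorPts21.exists_subgroup_inter f η[G]
  haveI := hkm
  haveI := hkc
  have hu : u = toUnit K := toUnit_unique _ _
  subst hu
  haveI : LocallyOfFinitePresentation K.hom := by
    rw [← Over.w kk]
    haveI : LocallyOfFiniteType (kk.left ≫ (T₁ ⊗ T₂).hom) := inferInstance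
    exact LocallyOfFinitePresentation.iff_locallyOfFiniteType.2 inferInstance
  haveI : Mono kk := Over.mono_of_mono_left kk
  have hKm := MTRigid29.isMultTypeFT_of_closedSubgroup K (T₁ ⊗ T₂) (TorPts21.isMultTypeFT_of_isTorus hP) kk hkc
    inferInstance inferInstance
  haveI : LocallyOfFinitePresentation (T₁ ⊗ T₂).hom := inferInstance
  obtain ⟨Q, _, q, hqm, hq, -, m, hm, hmono, hqf⟩ :=
    QuotFlat20.exists_kernelQuotient (.inl inferInstance) f kk hK inferInstance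
  haveI := hqm
  refine ⟨Q, inferInstance, m, lift (𝟙 T₁) 1 ≫ q, lift 1 (𝟙 T₂) ≫ q, hm, hmono,
    MTRigid29.isTorus_quotient hP kk hKm q hq, ?_, ?_⟩
  · rw [Category.assoc, hqf, hf, lift_fst, lift_snd, Category.id_comp, MonObj.one_comp, _root_.mul_one]
  · rw [Category.assoc, hqf, hf, lift_fst, lift_snd, Category.id_comp, MonObj.one_comp, _root_.one_mul]

end Groth.Agent.AttrBorel21
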