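import Groth.Agent.Lib.AffGrp19.Centre
import Groth.Agent.Lib.GrpTrans20.Transporter
import Groth.Agent.Lib.QuotField20.Main
import Groth.Agent.Lib.QuotField20.Normal
import Groth.Agent.Lib.GrpSmooth19.Basic
import Groth.Agent.Lib.AttrBorel21.TorusGen

/-!
# The quotient of a connected group by its centre
-/

set_option autoImplicit false
set_option linter.style.haveILetI false
set_option linter.unusedSectionVars false
set_option backward.isDefEq.respectTransparency.types false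
universe u

open CategoryTheory Limits MonoidalCategory CartesianMonoidalCategory MonObj AlgebraicGeometry

noncomputable section

namespace Groth.Agent.AttrBorel21

open InvRing21 TorPts21

attribute [local instance] InvRing21.gamAlg BorelFix21.ptsTop

/-- The quotient of a smooth connected group by its centre is a smooth connected affine group. -/
theorem exists_centre_quotient {k : Type u} [Field k] [IsAlgClosed k] (G : Over (Spec (CommRingCat.of k))) [GrpObj G]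
    [Smooth G.hom] [QuasiCompact G.hom] [ConnectedSpace ↥G.left] :
    ∃ (Z : Over (Spec (CommRingCat.of k))) (_ : GrpObj Z) (z : Z ⟶ G) (Q : Over (Spec (CommRingCat.of k)))
      (_ : GrpObj Q) (q : G ⟶ Q), Red.IsCentre z ∧ IsClosedImmersion z.left ∧ IsMonHom q ∧ Surjective q.left ∧
        Flat q.left ∧ AlgGrp.IsKernel z q ∧ IsAffine Q.left ∧ Smooth Q.hom ∧ ConnectedSpace ↥Q.left := by
  haveI : IsSeparated G.hom := AbRigid.isSeparated_of_grpObj G
  obtain ⟨Z, _, z, hzm, hzc, hziff⟩ := GrpTrans20.exists_centralizer (𝟙 G)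
  haveI := hzm
  haveI := hzc
  haveI : Mono z := Over.mono_of_mono_left z
  have hZ : Red.IsCentre z := ⟨inferInstance, inferInstance, hziff⟩
  haveI : LocallyOfFiniteType Z.hom := by rw [← Over.w z]; infer_instance
  obtain ⟨Q, p, hp, hpb, hQ, hQs⟩ := QuotField20.exists_quotient_field z
  have hN : AlgGrp.IsNormalHom z := fun T g f => by
    have h := (hziff T (f ≫ z)).1 ⟨f, rfl⟩ T (𝟙 T) g
    simp only [Category.id_comp, Category.comp_id] at h
    exact ⟨f, by rw [← h, mul_inv_cancel_right]⟩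
  obtain ⟨_, hpm, hker⟩ := QuotField20.exists_grpObj_quotient z hp hpb hN
  haveI := hpm
  haveI := hp.surj
  haveI := hp.flat
  haveI : IsSeparated Q.hom := hQs hzc
  haveI := hQ
  haveI : CompactSpace G.left := (quasiCompact_iff_compactSpace G.hom).1 inferInstance
  haveI : CompactSpace Q.left := ⟨by
    rw [← (p.left.surjective).range_eq]
    exact isCompact_range p.left.continuous⟩
  haveI : QuasiCompact Q.hom := (quasiCompact_iff_compactSpace Q.hom).2 inferInstance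
  haveI : ConnectedSpace Q.left := p.left.surjective.connectedSpace p.left.continuous
  haveI := OrbitTop19.isReduced_of_smooth G.hom
  haveI : IsReduced Q.left := H12.isReduced_of_flat_surjective p.left
  haveI : Smooth Q.hom := GrpSmooth19.smooth_of_isReduced Q
  haveI : IsAffine Q.left := AffGrp19.isAffine_of_centre G Z z hZ Q p hker
  exact ⟨Z, inferInstance, z, Q, inferInstance, p, hZ, hzc, hpm, hp.surj, hp.flat, hker, inferInstance, inferInstance,
    inferInstance⟩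

/-- A torus is commutative. -/
theorem mul_comm_of_isTorus {k : Type u} [Field k] [IsAlgClosed k] {T : Over (Spec (CommRingCat.of k))} [GrpObj T]
    (hT : Red.IsTorus T) {X : Over (Spec (CommRingCat.of k))} (x y : X ⟶ T) : x * y = y * x := by
  obtain ⟨d, ⟨C⟩⟩ := exists_chars hT
  exact C.inj fun a => by rw [C.mul, C.mul, _root_.mul_comm]

/-- Rational points lift along surjective maps. -/
theorem exists_pt_lift {k : Type u} [Field k] [IsAlgClosed k] {X Y : Over (Spec (CommRingCat.of k))}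
    [LocallyOfFiniteType X.hom] [LocallyOfFiniteType Y.hom] [IsSeparated Y.hom] (q : X ⟶ Y) [Surjective q.left]
    (y : VecGrp.pt k k ⟶ Y) : ∃ x : VecGrp.pt k k ⟶ X, x ≫ q = y := by
  obtain ⟨z, hz⟩ := q.left.surjective (InvRing21.img y)
  obtain ⟨x, hx⟩ := BorelFix21.exists_pt_mem
    ((isClosed_singleton_img y).preimage q.left.continuous).isLocallyClosed ⟨z, hz⟩
  exact ⟨x, pt_ext hx⟩

/-- Maximal tori of a smooth connected group are conjugate. -/
theorem exists_conj_maximalTorus {k : Type u} [Field k] [IsAlgClosed k]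
    {G : Over (Spec (CommRingCat.of k))} [GrpObj G] [Smooth G.hom] [QuasiCompact G.hom] [ConnectedSpace ↥G.left]
    {T₁ T₂ : Over (Spec (CommRingCat.of k))} [GrpObj T₁] [GrpObj T₂] {i₁ : T₁ ⟶ G} {i₂ : T₂ ⟶ G}
    (h₁ : AGF.IsMaxTorus i₁) (h₂ : AGF.IsMaxTorus i₂) :
    ∃ g : 𝟙_ (Over (Spec (CommRingCat.of k))) ⟶ G, SGA3x.ConjBy i₁ i₂ g := by
  haveI : IsSeparated G.hom := AbRigid.isSeparated_of_grpObj G
  obtain ⟨Z, _, z, Q, _, q, hZ, hzc, hqm, hqs, hqf, hker, hQa, hQsm, hQc⟩ := exists_centre_quotient G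
  haveI := hqm
  haveI := hqs
  haveI := hQa
  haveI := hQsm
  haveI := hQc
  haveI := h₁.1
  haveI := h₁.2.1
  haveI := h₂.1
  haveI := h₂.2.1
  obtain ⟨σ₁, _, s₁, p₁, hs₁, hs₁', hσ₁, hp₁⟩ := exists_torus_image h₁.2.2.1 (i₁ ≫ q)
  obtain ⟨σ₂, _, s₂, p₂, hs₂, hs₂', hσ₂, hp₂⟩ := exists_torus_image h₂.2.2.1 (i₂ ≫ q)
  haveI := hs₁
  haveI := hs₁'
  haveI := hs₂
  haveI := hs₂'
  obtain ⟨S₁, _, j₁, t₁, hS₁, ht₁⟩ := exists_maxTorus_ge s₁ hσ₁
  obtain ⟨S₂, _, j₂, t₂, hS₂, ht₂⟩ := exists_maxTorus_ge s₂ hσ₂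
  haveI := hS₂.1
  obtain ⟨g, f, hf⟩ := exists_conj_maxTorus' hS₁ hS₂
  obtain ⟨x₀, hx₀⟩ := exists_pt_lift q (gpt g)
  obtain ⟨a, rfl⟩ := exists_gpt x₀
  have hag : ∀ (X : Over (Spec (CommRingCat.of k))), (toUnit X ≫ a) ≫ q = toUnit X ≫ g := fun X => by
    have := congrArg (InvRing21.toPt X ≫ ·) hx₀
    simpa only [gpt, ← Category.assoc, comp_toUnit] using this
  haveI := isMonHom_conjBy a i₁
  haveI := mono_conjBy a i₁
  have hc₁ := isMaxTorus_conjBy h₁ a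
  have hcomm : ∀ (x : VecGrp.pt k k ⟶ T₁) (y : VecGrp.pt k k ⟶ T₂) (γ' : VecGrp.pt k k ⟶ G),
      γ' * ((x ≫ AGF.conjBy a i₁) * (y ≫ i₂) * (x ≫ AGF.conjBy a i₁)⁻¹ * (y ≫ i₂)⁻¹) =
        ((x ≫ AGF.conjBy a i₁) * (y ≫ i₂) * (x ≫ AGF.conjBy a i₁)⁻¹ * (y ≫ i₂)⁻¹) * γ' := by
    intro x y γ'
    have hx : (x ≫ AGF.conjBy a i₁) ≫ q = (x ≫ p₁ ≫ t₁ ≫ f.hom) ≫ j₂ := by
      rw [comp_conjBy, MonObj.mul_comp, MonObj.mul_comp, GrpObj.inv_comp, hag, Category.assoc x i₁ q, ← hp₁, ← ht₁,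
        Category.assoc, Category.assoc, Category.assoc, hf]
      simp only [AGF.conjBy, MonObj.comp_mul, GrpObj.comp_inv, ← Category.assoc, comp_toUnit]
    have hy : (y ≫ i₂) ≫ q = (y ≫ p₂ ≫ t₂) ≫ j₂ := by
      rw [Category.assoc, ← hp₂, ← ht₂]
      simp only [Category.assoc]
    have h1 : ((x ≫ AGF.conjBy a i₁) * (y ≫ i₂) * (x ≫ AGF.conjBy a i₁)⁻¹ * (y ≫ i₂)⁻¹) ≫ q =
        toUnit _ ≫ η[Q] := by
      rw [MonObj.mul_comp, MonObj.mul_comp, MonObj.mul_comp, GrpObj.inv_comp, GrpObj.inv_comp, hx, hy,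
        ← GrpObj.inv_comp (x ≫ p₁ ≫ t₁ ≫ f.hom) j₂, ← GrpObj.inv_comp (y ≫ p₂ ≫ t₂) j₂, ← MonObj.mul_comp, ← MonObj.mul_comp, ← MonObj.mul_comp,
        mul_comm_of_isTorus hS₂.2.2.1 (x ≫ p₁ ≫ t₁ ≫ f.hom) (y ≫ p₂ ≫ t₂), mul_inv_cancel_right, mul_inv_cancel,
        MonObj.one_comp, Hom.one_def]
    obtain ⟨w, hw⟩ : ∃ w : VecGrp.pt k k ⟶ Z, w ≫ z =
        (x ≫ AGF.conjBy a i₁) * (y ≫ i₂) * (x ≫ AGF.conjBy a i₁)⁻¹ * (y ≫ i₂)⁻¹ :=
      ⟨hker.lift _ (toUnit _) h1, hker.lift_fst _ _ _⟩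
    have := (hZ.2.2 _ _).1 ⟨w, rfl⟩ _ (𝟙 _) γ'
    rw [hw] at this
    simpa only [Category.id_comp, Category.comp_id] using this.symm
  obtain ⟨R, _, m, f₁, f₂, hm, hmono, hR, hf₁, hf₂⟩ := exists_torus_ge_of_commute h₁.2.2.1 h₂.2.2.1
    (AGF.conjBy a i₁) i₂ (commute_tori_of_central h₁.2.2.1 h₂.2.2.1 _ _ hcomm)
  haveI := hm
  haveI := hmono
  haveI : IsIso f₁ := hc₁.2.2.2 R m f₁ hR hf₁
  haveI : IsIso f₂ := h₂.2.2.2 R m f₂ hR hf₂
  refine ⟨a, asIso f₁ ≪≫ (asIso f₂).symm, ?_⟩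
  rw [Iso.trans_hom, Iso.symm_hom, asIso_hom, asIso_inv, Category.assoc,
    show inv f₂ ≫ i₂ = m from (IsIso.inv_comp_eq f₂).2 hf₂.symm, hf₁]

end Groth.Agent.AttrBorel21
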