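import Groth.Agent.Lib.UMod21.Frame

/-!
# Contracted points do not depend on the embedding
-/

set_option autoImplicit false
set_option linter.style.haveILetI false
set_option backward.isDefEq.respectTransparency.types false
universe u

open CategoryTheory MonoidalCategory CartesianMonoidalCategory MonObj AlgebraicGeometry Polynomial

noncomputable section

namespace Groth.Agent.AttrBorel21

open MatGrp21 InvRing21 DiagGL TorPts21 BigCell21 BorelLam21

attribute [local instance] InvRing21.gamAlg BorelFix21.ptsTop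

variable {k : Type u} [Field k] [IsAlgClosed k] {n d : ℕ} {G : Over (Spec (CommRingCat.of k))} [GrpObj G]
  [IsAffine G.left]

/-- The conjugates by a family of points are polynomial in the parameter. -/
def IsContr (lam : kˣ → (VecGrp.pt k k ⟶ G)) (x : VecGrp.pt k k ⟶ G) : Prop :=
  ∀ f : Γ(G.left, ⊤), ∃ p : k[X], ∀ s : kˣ, val (lam s * x * (lam s)⁻¹) f = p.eval (s : k)

omit [IsAffine G.left] in
/-- Contracted points are those with polynomial conjugates. -/
theorem mem_upPts_iff {r : G ⟶ GLs k n} [IsMonHom r] [IsClosedImmersion r.left] {w : Fin n → ℤ}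
    {lam : kˣ → (VecGrp.pt k k ⟶ G)} (hlam : IsLam r w lam) (x : VecGrp.pt k k ⟶ G) :
    x ∈ upPts r w ↔ IsContr lam x := by
  constructor
  · intro hx f
    obtain ⟨c, rfl⟩ := exists_eq_appTop r f
    obtain ⟨q, hq⟩ := exists_poly_of_isReg (isReg_evalGL c) (curve w (mtxFn r x : Matrix (Fin n) (Fin n) k))
      (mtxFn r x : Matrix (Fin n) (Fin n) k).det (MatGrp21.det_ne_zero _)
    refine ⟨q, fun s => ?_⟩
    rw [val_eq_evalGL]
    have h1 := conj_lam hlam hx s
    refine hq _ _ h1 ?_
    rw [h1, det_curveAt ((mem_upPts r).1 hx)]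
  · intro hx
    choose p hp using fun i j => hx (mat r i j)
    rw [mem_upPts]
    refine isUp_of_poly (Matrix.of p) fun s d hd => ?_
    have hd' : d = mtx r (lam s) := Units.ext (by rw [hd, mtx_apply, hlam])
    rw [hd', show mtxFn r x = mtx r x from rfl, ← map_inv, ← map_mul, ← map_mul, mtx_apply]
    ext i j
    rw [coe_mtxFn, mtxMat, Matrix.map_apply, mat_comp, Matrix.map_apply]
    exact hp i j s

/-- The cocharacters of a torus through a second set of character coordinates. -/
theorem exists_cochar_transport {T T' : Over (Spec (CommRingCat.of k))} [GrpObj T] [GrpObj T']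
    (C : Chars (Fin d → ℤ) T) {d' : ℕ} (C' : Chars (Fin d' → ℤ) T') (f : T' ⟶ T) [IsMonHom f] (b' : Fin d' → ℤ) :
    ∃ b : Fin d → ℤ, ∀ (s : kˣ) (τ : VecGrp.pt k k ⟶ T'),
      (∀ m, ptChr C' τ (Multiplicative.ofAdd m) = ((s ^ pairing m b' : kˣ) : k)) →
      ∀ m, ptChr C (τ ≫ f) (Multiplicative.ofAdd m) = ((s ^ pairing m b : kˣ) : k) := by
  classical
  have hone : ∀ {d : ℕ} {T : Over (Spec (CommRingCat.of k))} [GrpObj T] (C : Chars (Fin d → ℤ) T) a,
      ptChr C (1 : VecGrp.pt k k ⟶ T) a = 1 := fun C a => by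
    show InvRing21.ptHom k (C.ch 1 a) = 1
    rw [C.one, map_one]
  have hchr : ∀ {x y : VecGrp.pt k k ⟶ T'}, (∀ m, ptChr C' x (Multiplicative.ofAdd m) =
      ptChr C' y (Multiplicative.ofAdd m)) → x = y := fun h => C'.inj fun a => BorelFix21.ptHom_bijective.1 (h a.toAdd)
  choose lam hlam using fun s : kˣ => exists_cochar_pt C' b' s
  have key : ∀ j : Fin d, ∃ e : ℤ, ∀ s, ptChr C (lam s ≫ f) (Multiplicative.ofAdd (Pi.single j 1)) =
      ((s ^ e : kˣ) : k) := by
    intro j
    let c : Γ(T.left, ⊤) := C.ch (𝟙 T) (Multiplicative.ofAdd (Pi.single j 1))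
    have hu : IsUnit (!![c] : Matrix (Fin 1) (Fin 1) Γ(T.left, ⊤)) := by
      rw [Matrix.isUnit_iff_isUnit_det, Matrix.det_fin_one_of]
      exact (Group.isUnit _).map _
    obtain ⟨sj, hsj⟩ := exists_mat_eq (T := T) (R := k) hu
    obtain ⟨A, hA⟩ := exists_mtxFn_eq C' (f ≫ sj)
    have hval : ∀ x : VecGrp.pt k k ⟶ T', ptChr C (x ≫ f) (Multiplicative.ofAdd (Pi.single j 1)) =
        MonoidAlgebra.lift k k _ (ptChr C' x) (A 0 0) := fun x => by
      have h1 := congrFun (congrFun (hA x) 0) 0
      rw [coe_mtxFn, mtxMat, Matrix.map_apply, Matrix.map_apply, ← Category.assoc, mat_comp, Matrix.map_apply,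
        hsj] at h1
      refine Eq.trans ?_ h1
      show InvRing21.ptHom k (C.ch (x ≫ f) _) = _
      congr 1
      conv_lhs => rw [← Category.comp_id (x ≫ f), C.nat]
      rfl
    let χ : kˣ →* k := MonoidHom.mk ⟨fun s => ptChr C (lam s ≫ f) (Multiplicative.ofAdd (Pi.single j 1)), by
        rw [show lam 1 = 1 from hchr fun m => by rw [hlam, hone, one_zpow, Units.val_one], MonObj.one_comp, hone]⟩
      fun s s' => by
        show ptChr C (lam (s * s') ≫ f) _ = ptChr C (lam s ≫ f) _ * ptChr C (lam s' ≫ f) _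
        rw [← ptChr_mul, ← MonObj.mul_comp, show lam (s * s') = lam s * lam s' from hchr fun m => by
          rw [ptChr_mul, hlam, hlam, hlam, mul_zpow, Units.val_mul]]
    obtain ⟨l, hl⟩ := BorelLam21.exists_eq_zpow χ
      (fun q : (A 0 0).coeff.support => (A 0 0).coeff q.1) (fun q => pairing q.1.toAdd b') (fun s => by
        show ptChr C (lam s ≫ f) _ = _
        rw [hval, MonoidAlgebra.lift_apply, Finsupp.sum, ← Finset.sum_coe_sort]
        refine Finset.sum_congr rfl fun q _ => ?_
        rw [smul_eq_mul, show ptChr C' (lam s) (q : Multiplicative (Fin d' → ℤ)) = _ from hlam s q.1.toAdd])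
      (by rw [map_one]; exact one_ne_zero)
    exact ⟨_, hl⟩
  choose b hb using key
  refine ⟨b, fun s τ hτ => ?_⟩
  obtain rfl : τ = lam s := hchr fun m => by rw [hτ, hlam]
  let g : Multiplicative (Fin d → ℤ) →* kˣ := (ptChr C (lam s ≫ f)).toHomUnits
  let g' : Multiplicative (Fin d → ℤ) →* kˣ := MonoidHom.mk' (fun m => s ^ pairing m.toAdd b) fun m m' => by
    rw [← zpow_add]
    congr 1
    simp [pairing, add_mul, Finset.sum_add_distrib]
  have hgg : g = g' := by
    refine AddMonoidHom.toMultiplicativeLeft.symm.injective (AddMonoidHom.functions_ext' _ _ _ fun j => ?_)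
    refine AddMonoidHom.ext_int (Additive.toMul.injective (Units.ext ?_))
    show ptChr C (lam s ≫ f) (Multiplicative.ofAdd (Pi.single j 1)) = ((s ^ pairing (Pi.single j 1) b : kˣ) : k)
    rw [hb]
    simp [pairing, Pi.single_apply]
  intro m
  exact congrArg Units.val (DFunLike.congr_fun hgg (Multiplicative.ofAdd m))

end Groth.Agent.AttrBorel21
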