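import Groth.Agent.Lib.AttrBorel21.Prod

/-!
# The intersection of two unipotent contracted subgroups is a coordinate subspace
-/

set_option autoImplicit false
set_option linter.style.haveILetI false
set_option backward.isDefEq.respectTransparency.types false
universe u

open CategoryTheory Limits MonoidalCategory CartesianMonoidalCategory MonObj AlgebraicGeometry
open scoped LaurentPolynomial Polynomial

noncomputable section

namespace Groth.Agent.AttrBorel21

open InvRing21 DiagGL TorPts21 BigCell21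

attribute [local instance] InvRing21.gamAlg

variable {k : Type u} [Field k] {n d : ℕ}
  {G T H : Over (Spec (CommRingCat.of k))} [GrpObj G] [GrpObj T] [IsAffine G.left] {r : G ⟶ GLs k n}
  [IsMonHom r] [IsClosedImmersion r.left] {C : Chars (Fin d → ℤ) T} {iT : T ⟶ G} [IsMonHom iT]
  {a : Fin n → Fin d → ℤ}
  (hdiag : ∀ (X : Over (Spec (CommRingCat.of k))) (x : X ⟶ T),
    mat ((x ≫ iT) ≫ r) = Matrix.diagonal fun j => C.ch x (Multiplicative.ofAdd (a j)))
  {J : Type} [Fintype J] (R : RootGroups G iT C J)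

omit [IsAffine G.left] [IsClosedImmersion r.left] [IsMonHom r] [IsMonHom iT] [Fintype J] in
/-- The pairing with a weight. -/
theorem pairing_sub_eq (a : Fin n → Fin d → ℤ) (b : Fin d → ℤ) (i j : Fin n) :
    pairing (a i - a j) b = wt a b i - wt a b j := by
  simp [wt, pairing, sub_mul, Finset.sum_sub_distrib]

omit [IsAffine G.left] [IsClosedImmersion r.left] [IsMonHom r] [IsMonHom iT] [Fintype J] in
/-- The pairing of a combination. -/
theorem pairing_weight {σ : Type} (f : σ → Fin d → ℤ) (b : Fin d → ℤ) (s : σ →₀ ℕ) :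
    pairing (Finsupp.weight f s) b = ∑ t ∈ s.support, (s t : ℤ) * pairing (f t) b := by
  classical
  rw [Finsupp.weight_apply, Finsupp.sum]
  simp only [pairing, Finset.sum_apply, Finset.sum_mul, Finset.mul_sum]
  rw [Finset.sum_comm]
  refine Finset.sum_congr rfl fun t _ => Finset.sum_congr rfl fun q _ => ?_
  show (s t • f t) q * b q = _
  rw [Pi.smul_apply, nsmul_eq_mul]
  ring

include hdiag in
set_option maxHeartbeats 1600000 in
/-- **Intersections of unipotent contracted subgroups are affine spaces on the common positive roots.** -/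
theorem bijective_inter {b b' : Fin d → ℤ} (V : UnipData r a b R) (hb' : ∀ c, pairing (R.e c) b' ≠ 0)
    (iH : H ⟶ G) [IsClosedImmersion iH.left]
    (hH : ∀ (X : Over (Spec (CommRingCat.of k))) (x : X ⟶ G),
      (∃ y, y ≫ iH = x) ↔ Unp (wt a b) (mat (x ≫ r)) ∧ Unp (wt a b') (mat (x ≫ r))) :
    Smooth H.hom ∧ Function.Bijective (MvPolynomial.aeval fun c : {c : Pos R b // 0 < pairing (R.e c.1) b'} =>
      ent r iH (V.p c.1) : MvPolynomial {c : Pos R b // 0 < pairing (R.e c.1) b'} k →ₐ[k] Γ(H.left, ⊤)) := by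
  classical
  letI := V.grpU
  haveI := V.isMonHom
  haveI := V.closed
  haveI : IsAffine V.U.left := isAffine_of_isAffineHom V.iU.left
  haveI : IsAffine H.left := isAffine_of_isAffineHom iH.left
  haveI : Mono iH := Over.mono_of_mono_left _
  have hne : ∀ c' : Pos R b, (V.p c').1 ≠ (V.p c').2 := fun c' h => by
    have h1 := V.weight c'
    rw [h, sub_self] at h1
    exact R.ne_zero _ h1.symm
  let θ : MvPolynomial (Pos R b) k ≃ₐ[k] Γ(V.U.left, ⊤) := AlgEquiv.ofBijective _ V.bij
  have hθ : ∀ t, θ (MvPolynomial.X t) = ent r V.iU (V.p t) := fun t => MvPolynomial.aeval_X _ _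
  have hW : WMat a (fun c : Pos R b => R.e c.1) ((mat (V.iU ≫ r)).map θ.symm.toAlgHom) :=
    wMat_coords hdiag V.iU (tStab_unip hdiag b V.iU V.fac) _ _ (fun t => V.weight t) θ hθ
  let S := {c : Pos R b // 0 < pairing (R.e c.1) b'}
  let η₀ : MvPolynomial (Pos R b) k →ₐ[k] MvPolynomial S k :=
    MvPolynomial.aeval fun c => if h : 0 < pairing (R.e c.1) b' then MvPolynomial.X ⟨c, h⟩ else 0
  let z : VecGrp.pt k (MvPolynomial S k) ⟶ V.U := VecGrp.ptMap (η₀.comp θ.symm.toAlgHom) ≫ uPt V.U
  have hz : ∀ q, pmat r (z ≫ V.iU) q.1 q.2 = η₀ (θ.symm (ent r V.iU q)) := fun q => by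
    rw [← val_ent, val_ptMap, val_uPt, AlgHom.comp_id]
    rfl
  have hzero : ∀ i j, MvPolynomial.coeff 0 (θ.symm (ent r V.iU (i, j))) = (1 : Matrix (Fin n) (Fin n) k) i j := by
    intro i j
    have h1 : (MvPolynomial.aeval fun _ => (0 : k) : MvPolynomial (Pos R b) k →ₐ[k] k).comp θ.symm.toAlgHom =
        val (1 : VecGrp.pt k k ⟶ V.U) := by
      refine (AlgHom.cancel_right (f := θ.toAlgHom) θ.surjective).1 (MvPolynomial.algHom_ext fun t => ?_)
      show MvPolynomial.aeval _ (θ.symm (θ (MvPolynomial.X t))) = val _ (θ (MvPolynomial.X t))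
      rw [AlgEquiv.symm_apply_apply, MvPolynomial.aeval_X, hθ, val_ent, MonObj.one_comp, pmat_one,
        Matrix.one_apply_ne (hne t)]
    have h2 := DFunLike.congr_fun h1 (ent r V.iU (i, j))
    rw [val_ent, MonObj.one_comp, pmat_one, AlgHom.comp_apply] at h2
    refine Eq.trans ?_ h2
    rw [MvPolynomial.aeval_zero']
    rfl
  have hzu : Unp (wt a b') (pmat r (z ≫ V.iU)) := by
    have key : ∀ i j, wt a b' i ≤ wt a b' j →
        pmat r (z ≫ V.iU) i j = MvPolynomial.C ((1 : Matrix (Fin n) (Fin n) k) i j) := fun i j hij => by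
      rw [hz (i, j), MvPolynomial.as_sum (θ.symm (ent r V.iU (i, j))), map_sum]
      refine (Finset.sum_eq_single 0 (fun s hs hs0 => ?_) fun h => ?_).trans ?_
      · rw [MvPolynomial.aeval_monomial, Finsupp.prod]
        refine mul_eq_zero_of_right _ ?_
        by_contra hp
        have hpos : ∀ t ∈ s.support, 0 < pairing (R.e t.1) b' := fun t ht => by
          by_contra h
          exact hp (Finset.prod_eq_zero ht (by rw [dif_neg h, zero_pow (Finsupp.mem_support_iff.1 ht)]))
        have hw := congrArg (fun g => pairing g b') (hW i j s (MvPolynomial.mem_support_iff.1 hs))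
        simp only [pairing_weight, pairing_sub_eq] at hw
        have h3 : 0 < ∑ t ∈ s.support, (s t : ℤ) * pairing (R.e t.1) b' :=
          Finset.sum_pos (fun t ht => mul_pos (by
            exact_mod_cast Nat.pos_of_ne_zero (Finsupp.mem_support_iff.1 ht)) (hpos t ht))
            (Finsupp.support_nonempty_iff.2 hs0)
        omega
      · rw [MvPolynomial.notMem_support_iff.1 h, map_zero, map_zero]
      · rw [MvPolynomial.aeval_monomial, Finsupp.prod_zero_index, _root_.mul_one, hzero]
        rfl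
    refine ⟨fun i j h => by rw [key i j h.le, Matrix.one_apply_ne fun e => h.ne (congrArg _ e), map_zero],
      Matrix.ext fun i j => ?_⟩
    rw [blkDiag, Matrix.of_apply]
    split_ifs with h
    · rw [key i j h.le]
      by_cases e : i = j
      · subst e; simp
      · simp [Matrix.one_apply_ne e]
    · exact (Matrix.one_apply_ne fun e => h (congrArg _ e)).symm
  have hmatz : (pmat r (z ≫ V.iU)).map ((Scheme.ΓSpecIso (CommRingCat.of (MvPolynomial S k))).inv.hom) =
      mat ((z ≫ V.iU) ≫ r) := by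
    ext p q
    exact ConcreteCategory.congr_hom (Scheme.ΓSpecIso (CommRingCat.of (MvPolynomial S k))).hom_inv_id _
  obtain ⟨w, hw⟩ := (hH _ (z ≫ V.iU)).2 ⟨(V.fac _ _).1 ⟨z, rfl⟩, hmatz ▸ hzu.map _⟩
  obtain ⟨jH, hjH⟩ := (V.fac _ iH).2 ((hH _ _).1 ⟨𝟙 _, Category.id_comp _⟩).1
  set ρ : MvPolynomial S k →ₐ[k] Γ(H.left, ⊤) := MvPolynomial.aeval fun c : S => ent r iH (V.p c.1) with hρ
  have h1 : (val w).comp ρ = AlgHom.id k _ := MvPolynomial.algHom_ext fun c => by
    rw [AlgHom.comp_apply, hρ, MvPolynomial.aeval_X, val_ent, hw, hz (V.p c.1), ← hθ, AlgEquiv.symm_apply_apply,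
      AlgHom.id_apply, MvPolynomial.aeval_X, dif_pos c.2]
  have hneg : ∀ q : Pos R b, ¬ 0 < pairing (R.e q.1) b' → ent r iH (V.p q) = 0 := fun q hq => by
    refine ((hH _ _).1 ⟨𝟙 _, Category.id_comp iH⟩).2.1 _ _ ?_
    have h := congrArg (fun g => pairing g b') (V.weight q)
    simp only [pairing_sub_eq] at h
    have := hb' q.1
    omega
  have h2 : ρ.comp (val w) = AlgHom.id k _ := by
    have e1 : VecGrp.ptMap ρ ≫ w = uPt H := by
      refine (cancel_mono iH).1 ?_
      rw [Category.assoc, hw, ← hjH, ← Category.assoc, ← Category.assoc (uPt H)]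
      congr 1
      rw [← ptMap_val (VecGrp.ptMap ρ ≫ z), ← ptMap_val (uPt H ≫ jH)]
      congr 2
      refine AlgHom.ext fun F => ?_
      obtain ⟨P, rfl⟩ := θ.surjective F
      show ((val (VecGrp.ptMap ρ ≫ z)).comp θ.toAlgHom) P = ((val (uPt H ≫ jH)).comp θ.toAlgHom) P
      congr 1
      refine MvPolynomial.algHom_ext fun q => ?_
      rw [AlgHom.comp_apply, AlgHom.comp_apply]
      show val _ (θ (MvPolynomial.X q)) = val _ (θ (MvPolynomial.X q))
      rw [hθ, val_ent, val_ent, Category.assoc, pmat_comp_ptMap, Matrix.map_apply, hz, ← hθ,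
        AlgEquiv.symm_apply_apply, MvPolynomial.aeval_X, Category.assoc, hjH, ← val_ent, val_uPt, AlgHom.id_apply]
      split_ifs with h
      · exact MvPolynomial.aeval_X _ _
      · rw [map_zero, hneg q h]
    calc ρ.comp (val w) = val (VecGrp.ptMap ρ ≫ w) := (val_ptMap _ _).symm
      _ = _ := by rw [e1, val_uPt]
  have hbij : Function.Bijective ρ := ⟨Function.LeftInverse.injective (g := val w) fun P => DFunLike.congr_fun h1 P,
    Function.RightInverse.surjective (g := val w) fun F => DFunLike.congr_fun h2 F⟩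
  refine ⟨?_, hbij⟩
  haveI : IsIso (CommRingCat.ofHom ρ.toRingHom) :=
    (RingEquiv.ofBijective ρ.toRingHom hbij).toCommRingCatIso.isIso_hom
  haveI : IsIso (VecGrp.ptMap ρ).left := inferInstanceAs (IsIso (Spec.map (CommRingCat.ofHom ρ.toRingHom)))
  haveI : IsIso (uPt H).left := inferInstanceAs (IsIso H.left.isoSpec.inv)
  have e3 : H.hom = inv (uPt H).left ≫ (VecGrp.ptMap ρ).left ≫ (VecGrp.pt k (MvPolynomial S k)).hom := by
    rw [IsIso.eq_inv_comp, Over.w, Over.w]
  haveI : Smooth (VecGrp.pt k (MvPolynomial S k)).hom := by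
    haveI : Algebra.Smooth k (MvPolynomial S k) := ⟨inferInstance, inferInstance⟩
    show Smooth (Spec.map (CommRingCat.ofHom (algebraMap k (MvPolynomial S k))))
    rw [HasRingHomProperty.Spec_iff (P := @Smooth)]
    exact RingHom.smooth_algebraMap.2 inferInstance
  rw [e3]
  infer_instance

end Groth.Agent.AttrBorel21
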