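import Groth.Agent.Lib.AttrBorel21.Smooth
import Mathlib.RingTheory.MvPolynomial.Ideal
import Mathlib.RingTheory.Polynomial.Basic

/-!
# Positively graded formally smooth algebras are polynomial algebras
-/

set_option autoImplicit false
universe u v w

open scoped LaurentPolynomial

noncomputable section

namespace Groth.Agent.AttrBorel21

open MvPolynomial

variable {k : Type u} [Field k] {A : Type u} [CommRing A] [Algebra k A]

/-- A minimal presentation of a formally smooth algebra is an isomorphism. -/
theorem injective_of_formallySmooth {τ : Type v} [Finite τ] [Algebra.FormallySmooth k A]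
    (π : MvPolynomial τ k →ₐ[k] A) (hπ : Function.Surjective π)
    (hker : RingHom.ker π.toRingHom ≤ idealOfVars τ k ^ 2) : Function.Injective π := by
  set J := RingHom.ker π.toRingHom with hJdef
  set m := idealOfVars τ k with hm
  let mk := Ideal.Quotient.mkₐ k (J ^ 2)
  let q : (MvPolynomial τ k ⧸ J ^ 2) →ₐ[k] A :=
    Ideal.Quotient.liftₐ (J ^ 2) π fun a ha => Ideal.pow_le_self two_ne_zero ha
  have hq : Function.Surjective q := fun a => by
    obtain ⟨p, rfl⟩ := hπ a
    exact ⟨mk p, rfl⟩
  have hsq : J.map mk * J.map mk = ⊥ := by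
    rw [← Ideal.map_mul, ← pow_two]
    exact Ideal.map_quotient_self _
  have hqker : RingHom.ker (q : (MvPolynomial τ k ⧸ J ^ 2) →+* A) ≤ J.map mk := fun z hz => by
    obtain ⟨p, rfl⟩ := Ideal.Quotient.mk_surjective z
    exact Ideal.mem_map_of_mem _ (show π p = 0 from hz)
  have hnil : IsNilpotent (RingHom.ker (q : (MvPolynomial τ k ⧸ J ^ 2) →+* A)) :=
    ⟨2, le_bot_iff.1 ((Ideal.pow_right_mono hqker 2).trans_eq ((Ideal.map_pow mk J 2).symm.trans (Ideal.map_quotient_self _)))⟩
  let s : A →ₐ[k] MvPolynomial τ k ⧸ J ^ 2 :=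
    Algebra.FormallySmooth.liftOfSurjective (AlgHom.id k A) q hq hnil
  let D : MvPolynomial τ k → MvPolynomial τ k ⧸ J ^ 2 := fun p => mk p - s (π p)
  have hD : ∀ p, D p ∈ J.map mk := fun p => hqker (by
    show q (mk p - s (π p)) = 0
    rw [map_sub, Algebra.FormallySmooth.liftOfSurjective_apply (AlgHom.id k A) q hq hnil]
    exact sub_self _)
  have hder : ∀ p ∈ m * m, D p ∈ (m * J).map mk := fun p hp => by
    refine Submodule.mul_induction_on hp (fun a ha b hb => ?_) fun a b ha hb => ?_
    · have h0 : D a * D b = 0 := Ideal.mem_bot.1 (hsq ▸ Ideal.mul_mem_mul (hD a) (hD b))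
      have e : D (a * b) = mk a * D b + mk b * D a - D a * D b := by
        simp only [D, map_mul]
        ring
      rw [e, h0, sub_zero, Ideal.map_mul]
      exact add_mem (Ideal.mul_mem_mul (Ideal.mem_map_of_mem _ ha) (hD b))
        (Ideal.mul_mem_mul (Ideal.mem_map_of_mem _ hb) (hD a))
    · have e : D (a + b) = D a + D b := by
        simp only [D, map_add]
        ring
      rw [e]
      exact add_mem ha hb
  have hJm : J ≤ m * J := fun j hj => by
    have h1 : mk j ∈ (m * J).map mk := by
      have := hder j (by rw [← pow_two]; exact hker hj)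
      simpa [D, show π j = 0 from hj] using this
    obtain ⟨c, hc, hcj⟩ := (Ideal.mem_map_iff_of_surjective mk (Ideal.Quotient.mkₐ_surjective k _)).1 h1
    have h2 : j - c ∈ J ^ 2 := Ideal.Quotient.eq.1 hcj.symm
    have h3 : J ^ 2 ≤ m * J := by
      rw [pow_two]
      exact Ideal.mul_mono_left (hker.trans (Ideal.pow_le_self two_ne_zero))
    simpa using add_mem hc (h3 h2)
  have hne : m ≠ ⊤ := fun h => by
    have h1 : (1 : MvPolynomial τ k) ∈ m := h ▸ trivial
    rw [← pow_one m, mem_pow_idealOfVars_iff] at h1
    simpa using h1 0 (by simp)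
  have hpow : ∀ i, J ≤ m ^ i := fun i => by
    induction i with
    | zero => simp
    | succ i ih => exact hJm.trans (by rw [pow_succ']; exact Ideal.mul_mono_right ih)
  have hbot : J = ⊥ := le_bot_iff.1 ((le_iInf hpow).trans (Ideal.iInf_pow_eq_bot_of_isDomain m hne).le)
  exact (RingHom.injective_iff_ker_eq_bot π.toRingHom).2 hbot

theorem exists_single_of_degree_one {τ : Type v} {e : τ →₀ ℕ} (h : Finsupp.degree e = 1) :
    ∃ t, e = Finsupp.single t 1 := by
  classical
  obtain ⟨t, ht⟩ : e.support.Nonempty := by
    rw [Finset.nonempty_iff_ne_empty]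
    intro h0
    rw [Finsupp.support_eq_empty.1 h0] at h
    simp at h
  obtain ⟨c, rfl⟩ := le_iff_exists_add'.mp (show Finsupp.single t 1 ≤ e by
    simpa [Finsupp.single_le_iff] using Nat.one_le_iff_ne_zero.2 (Finsupp.mem_support_iff.1 ht))
  rw [map_add, Finsupp.degree_single] at h
  have : c = 0 := (Finsupp.degree_eq_zero_iff c).1 (by omega)
  exact ⟨t, by rw [this, zero_add]⟩

/-- A surjective endomorphism of a Noetherian ring is injective. -/
theorem ringHom_injective_of_surjective {R : Type w} [CommRing R] [IsNoetherianRing R] (f : R →+* R)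
    (hf : Function.Surjective f) : Function.Injective f := by
  let g : ℕ → R →+* R := fun l => f ^ l
  have hmono : Monotone fun l => RingHom.ker (g l) := monotone_nat_of_le_succ fun l z hz => by
    show (f ^ (l + 1)) z = 0
    rw [pow_succ']
    show f ((f ^ l) z) = 0
    rw [show (f ^ l) z = 0 from hz, map_zero]
  obtain ⟨l, hl⟩ := monotone_stabilizes_iff_noetherian.2 (inferInstance : IsNoetherian R R) ⟨_, hmono⟩
  rw [RingHom.injective_iff_ker_eq_bot, eq_bot_iff]
  intro z hz
  have hsurj : Function.Surjective (f ^ l : R →+* R) := by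
    rw [RingHom.coe_pow]
    exact hf.iterate l
  obtain ⟨b, rfl⟩ := hsurj z
  have h1 : b ∈ RingHom.ker (g (l + 1)) := by
    show (f ^ (l + 1)) b = 0
    rw [pow_succ']
    exact hz
  have h2 : RingHom.ker (g l) = RingHom.ker (g (l + 1)) := hl (l + 1) l.le_succ
  rw [← h2] at h1
  exact Ideal.mem_bot.2 h1

/-- The weighted degree of an exponent. -/
def wdeg {τ : Type v} (d : τ → ℤ) (e : τ →₀ ℕ) : ℤ := Finsupp.weight d e

theorem lt_of_mem_wdeg {τ : Type v} {d : τ → ℤ} (hd : ∀ i, 0 < d i) {e : τ →₀ ℕ} (he : 2 ≤ Finsupp.degree e)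
    {i : τ} (hi : i ∈ e.support) : d i < wdeg d e := by
  classical
  obtain ⟨c, rfl⟩ : ∃ c, e = c + Finsupp.single i 1 := by
    obtain ⟨c, hc⟩ := le_iff_exists_add'.mp (show Finsupp.single i 1 ≤ e by
      simpa [Finsupp.single_le_iff] using Nat.one_le_iff_ne_zero.2 (Finsupp.mem_support_iff.1 hi))
    exact ⟨c, hc⟩
  obtain ⟨j, hj⟩ : c.support.Nonempty := by
    rw [Finset.nonempty_iff_ne_empty]
    intro h
    rw [Finsupp.support_eq_empty.1 h] at he
    simp at he
  have hpos : 0 < Finsupp.weight d c := by
    rw [Finsupp.weight_apply]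
    exact Finset.sum_pos (fun l hl => by
      have := Nat.pos_of_ne_zero (Finsupp.mem_support_iff.1 hl)
      simpa using mul_pos (by exact_mod_cast this : (0 : ℤ) < c l) (hd l)) ⟨j, hj⟩
  rw [wdeg, map_add, Finsupp.weight_single, one_smul]
  omega

variable {ι : Type v} (Φ : A →ₐ[k] A[T;T⁻¹]) (x : ι → A) (d : ι → ℤ) (hx : ∀ i, IsHom Φ (d i) (x i))

include hx in
theorem isHom_monomial (e : ι →₀ ℕ) : IsHom Φ (wdeg d e) (aeval x (monomial e (1 : k))) := by
  induction e using Finsupp.induction with
  | zero => simpa [wdeg] using IsHom.one Φ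
  | single_add i l f _ hl ih =>
    clear hl
    have hp : IsHom Φ (l • d i) (x i ^ l) := by
      induction l with
      | zero => simpa using IsHom.one Φ
      | succ l ihl => rw [succ_nsmul, pow_succ]; exact IsHom.mul Φ ihl (hx i)
    have := IsHom.mul Φ hp ih
    rw [wdeg, map_add, Finsupp.weight_single]
    simpa [monomial_single_add, map_mul, map_pow, wdeg] using this

variable (hgen : Algebra.adjoin k (Set.range x) = ⊤)

include hx hgen in
set_option maxHeartbeats 800000 in
/-- **A positively graded formally smooth algebra is a polynomial algebra on some of its generators.** -/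
theorem exists_coords [Finite ι] [Algebra.FormallySmooth k A] (hpos : ∀ i, 0 < d i) (ε : A →ₐ[k] k)
    (hε : ∀ i, ε (x i) = 0) :
    ∃ (κ : Type v) (_ : Finite κ) (a : κ → ι), Function.Injective a ∧
      Function.Bijective (aeval fun t => x (a t) : MvPolynomial κ k →ₐ[k] A) := by
  classical
  have hπ₀ : Function.Surjective (aeval x : MvPolynomial ι k →ₐ[k] A) := by
    rw [← AlgHom.range_eq_top, ← Algebra.adjoin_range_eq_range_aeval, hgen]
  let m : Ideal A := Ideal.span (Set.range x)
  let v : ι → A ⧸ m ^ 2 := fun i => Ideal.Quotient.mk _ (x i)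
  obtain ⟨κ, a, hinj, hspan, hli⟩ := exists_linearIndependent' k v
  have : Finite κ := Finite.of_injective a hinj
  let π : MvPolynomial κ k →ₐ[k] A := aeval fun t => x (a t)
  refine ⟨κ, inferInstance, a, hinj, ?_⟩
  have hcl : ∀ l : ℕ, ∀ i, (d i).toNat = l → x i ∈ π.range := by
    intro l
    induction l using Nat.strong_induction_on with
    | _ l ih =>
      intro i hi
      have hmem : v i ∈ Submodule.span k (Set.range (v ∘ a)) := hspan ▸ Submodule.subset_span ⟨i, rfl⟩
      obtain ⟨c, hc⟩ := Finsupp.mem_span_range_iff_exists_finsupp.1 hmem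
      have hsq : x i - (c.sum fun t r => r • x (a t)) ∈ (idealOfVars ι k ^ 2).map (aeval x) := by
        rw [Ideal.map_pow, idealOfVars, Ideal.map_span, ← Set.range_comp]
        simp only [Function.comp_def, aeval_X]
        rw [← Ideal.Quotient.eq_zero_iff_mem, map_sub, sub_eq_zero]
        refine hc.symm.trans ?_
        simp only [Finsupp.sum, map_sum]
        rfl
      obtain ⟨p, hp, hpe⟩ := (Ideal.mem_map_iff_of_surjective _ hπ₀).1 hsq
      let pr : A →ₗ[k] A := (Finsupp.lapply (d i)).comp
        ((AddMonoidAlgebra.coeffLinearEquiv k).toLinearMap.comp Φ.toLinearMap)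
      have hpr : ∀ n b, IsHom Φ n b → pr b = if n = d i then b else 0 := fun n b hb => by
        show (Φ b).coeff (d i) = _
        rw [show Φ b = _ from hb, AddMonoidAlgebra.coeff_single]
        split_ifs with h
        · subst h; exact Finsupp.single_eq_same
        · exact Finsupp.single_eq_of_ne (Ne.symm h)
      have hx' : x i = pr (c.sum fun t r => r • x (a t)) + pr (aeval x p) := by
        rw [← map_add, hpe, add_sub_cancel, hpr _ _ (hx i), if_pos rfl]
      rw [hx']
      refine add_mem ?_ ?_
      · simp only [Finsupp.sum, map_sum, map_smul, hpr _ _ (hx _)]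
        refine sum_mem fun t _ => Subalgebra.smul_mem _ ?_ _
        split_ifs
        · exact ⟨X t, aeval_X _ _⟩
        · exact zero_mem _
      · rw [p.as_sum, map_sum, map_sum]
        refine sum_mem fun e he => ?_
        rw [show monomial e (coeff e p) = coeff e p • monomial e (1 : k) by simp [smul_monomial], map_smul, map_smul,
          hpr _ _ (isHom_monomial Φ x d hx e)]
        refine Subalgebra.smul_mem _ ?_ _
        split_ifs with hw
        · rw [aeval_monomial, map_one, _root_.one_mul]
          refine Subalgebra.prod_mem _ fun j hj => Subalgebra.pow_mem _ (ih _ ?_ j rfl) _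
          have := lt_of_mem_wdeg hpos ((mem_pow_idealOfVars_iff 2 p).1 hp e he) hj
          have := hpos j
          omega
        · exact zero_mem _
  have hsurj : Function.Surjective π := by
    rw [← AlgHom.range_eq_top, ← top_le_iff, ← hgen]
    exact Algebra.adjoin_le (by rintro _ ⟨i, rfl⟩; exact hcl _ i rfl)
  refine ⟨injective_of_formallySmooth π hsurj fun p hp => ?_, hsurj⟩
  have hp' : π p = 0 := hp
  have hεπ : ε.comp π = aeval fun _ => (0 : k) := algHom_ext fun t => by simp [π, hε]
  have h0 : coeff 0 p = 0 := by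
    have := (DFunLike.congr_fun hεπ p).symm.trans (by rw [AlgHom.comp_apply, hp', map_zero])
    simpa [aeval_zero', constantCoeff_eq] using this
  have := Fintype.ofFinite κ
  let q : MvPolynomial κ k := p - ∑ t, coeff (Finsupp.single t 1) p • X t
  have hq : q ∈ idealOfVars κ k ^ 2 := (mem_pow_idealOfVars_iff' 2 q).2 fun e he => by
    rcases (show Finsupp.degree e = 0 ∨ Finsupp.degree e = 1 by omega) with h | h
    · rw [Finsupp.degree_eq_zero_iff] at h
      subst h
      simp [q, h0, coeff_sum, coeff_X]
    · obtain ⟨t, rfl⟩ : ∃ t, e = Finsupp.single t 1 := exists_single_of_degree_one h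
      simp [q, coeff_sum, coeff_X, Finsupp.single_left_inj]
  have hlin : ∑ t, coeff (Finsupp.single t 1) p • v (a t) = 0 := by
    have hm : π q ∈ m ^ 2 := by
      have hle : (idealOfVars κ k).map π ≤ m := by
        rw [Ideal.map_le_iff_le_comap, idealOfVars, Ideal.span_le]
        rintro _ ⟨t, rfl⟩
        show π (X t) ∈ m
        rw [show π (X t) = x (a t) from aeval_X _ t]
        exact Ideal.subset_span ⟨a t, rfl⟩
      have h2 : π q ∈ (idealOfVars κ k ^ 2).map π := Ideal.mem_map_of_mem π hq
      rw [Ideal.map_pow] at h2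
      exact Ideal.pow_right_mono hle 2 h2
    have h1 : Ideal.Quotient.mk (m ^ 2) (π q) = 0 := Ideal.Quotient.eq_zero_iff_mem.2 hm
    simp only [q, map_sub, map_sum, map_smul, hp', zero_sub, map_neg, neg_eq_zero] at h1
    refine Eq.trans ?_ h1
    refine Finset.sum_congr rfl fun t _ => ?_
    simp only [π, aeval_X]
    rfl
  have hc := Fintype.linearIndependent_iff.1 hli _ hlin
  have : p = q := by simp [q, hc]
  rw [this]
  exact hq

/-- A triangular equivariant map of weighted affine spaces is an isomorphism. -/
theorem bijective_of_triangular {σ τ : Type v} [Finite τ] (e : σ ≃ τ) (dd : τ → ℤ) (hd : ∀ t, 0 < dd t)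
    (φ : MvPolynomial σ k →ₐ[k] MvPolynomial τ k)
    (hw : ∀ s, ∀ c ∈ (φ (X s)).support, wdeg dd c = dd (e s))
    (hlin : ∀ s t, coeff (Finsupp.single t 1) (φ (X s)) ≠ 0 ↔ t = e s) : Function.Bijective φ := by
  classical
  have hcl : ∀ l : ℕ, ∀ t, (dd t).toNat = l → X t ∈ φ.range := by
    intro l
    induction l using Nat.strong_induction_on with
    | _ l ih =>
      intro t ht
      obtain ⟨s, rfl⟩ := e.surjective t
      set c := coeff (Finsupp.single (e s) 1) (φ (X s)) with hc
      have hc0 : c ≠ 0 := (hlin s _).2 rfl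
      have hrest : φ (X s) - c • X (e s) ∈ φ.range := by
        rw [MvPolynomial.as_sum (φ (X s) - c • X (e s))]
        refine sum_mem fun m hm => ?_
        rw [mem_support_iff] at hm
        have hne : m ≠ Finsupp.single (e s) 1 := fun h => hm (by
          subst h
          simp [c])
        have hm' : coeff m (φ (X s)) ≠ 0 := by
          simpa [coeff_sub, coeff_smul, coeff_X, Ne.symm hne] using hm
        have hwm := hw s m (mem_support_iff.2 hm')
        have hdeg : 2 ≤ Finsupp.degree m := by
          by_contra h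
          rcases (show Finsupp.degree m = 0 ∨ Finsupp.degree m = 1 by omega) with h | h
          · rw [Finsupp.degree_eq_zero_iff] at h
            subst h
            simp [wdeg] at hwm
            exact absurd (hd (e s)) (by omega)
          · obtain ⟨t', rfl⟩ := exists_single_of_degree_one h
            exact hne (by rw [(hlin s t').1 hm'])
        rw [monomial_eq]
        refine mul_mem (Subalgebra.algebraMap_mem _ _) (Subalgebra.prod_mem _ fun j hj => Subalgebra.pow_mem _ (ih _ ?_ j rfl) _)
        have h1 := lt_of_mem_wdeg hd hdeg hj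
        have h2 := hd j
        omega
      have h2 : c • (X (e s) : MvPolynomial τ k) ∈ φ.range := by
        simpa using sub_mem (show φ (X s) ∈ φ.range from ⟨X s, rfl⟩) hrest
      simpa [smul_smul, inv_mul_cancel₀ hc0] using Subalgebra.smul_mem _ h2 c⁻¹
  have hsurj : Function.Surjective φ := by
    rw [← AlgHom.range_eq_top, ← top_le_iff, ← adjoin_range_X]
    exact Algebra.adjoin_le (by rintro _ ⟨t, rfl⟩; exact hcl _ t rfl)
  refine ⟨?_, hsurj⟩
  let f : MvPolynomial τ k →+* MvPolynomial τ k := φ.toRingHom.comp (rename e.symm).toRingHom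
  have hf : Function.Surjective f := hsurj.comp (rename_surjective _ e.symm.surjective)
  have hfinj : Function.Injective f := ringHom_injective_of_surjective f hf
  intro p q h
  obtain ⟨p, rfl⟩ := rename_surjective _ e.symm.surjective p
  obtain ⟨q, rfl⟩ := rename_surjective _ e.symm.surjective q
  rw [hfinj h]

end Groth.Agent.AttrBorel21
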