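import Groth.Agent.Lib.AttrBorel21.Unip
import Groth.Agent.Lib.AttrBorel21.Poly

/-!
# Smooth subgroups of a unipotent contracted subgroup stable under the torus are affine spaces
-/

set_option autoImplicit false
set_option linter.style.haveILetI false
set_option backward.isDefEq.respectTransparency.types false
universe u

open CategoryTheory Limits MonoidalCategory CartesianMonoidalCategory MonObj AlgebraicGeometry
open scoped LaurentPolynomial

noncomputable section

namespace Groth.Agent.AttrBorel21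

open InvRing21 DiagGL TorPts21 BigCell21

attribute [local instance] InvRing21.gamAlg

variable {k : Type u} [Field k] {n d : ℕ}

theorem Unp.det {R : Type*} [CommRing R] {w : Fin n → ℤ} {M : Matrix (Fin n) (Fin n) R} (hM : Unp w M) :
    M.det = 1 := by
  classical
  rw [Matrix.BlockTriangular.det ((blk_iff w M).1 hM.1)]
  refine Finset.prod_eq_one fun c _ => ?_
  rw [show M.toSquareBlock (fun i => -w i) c = 1 from Matrix.ext fun i j => ?_, Matrix.det_one]
  have h := congrFun (congrFun hM.2 i.1) j.1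
  have e : w i.1 = w j.1 := neg_injective (i.2.trans j.2.symm)
  rw [blkDiag, Matrix.of_apply, if_pos e] at h
  rw [Matrix.toSquareBlock_def, Matrix.of_apply, h]
  simp [Matrix.one_apply, Subtype.ext_iff]

variable {G : Over (Spec (CommRingCat.of k))} [GrpObj G] {T : Over (Spec (CommRingCat.of k))}
  [GrpObj T] {C : Chars (Fin d → ℤ) T} {iT : T ⟶ G} {H : Over (Spec (CommRingCat.of k))}

/-- Stability under conjugation by the torus. -/
def TStab (iT : T ⟶ G) (j : H ⟶ G) : Prop :=
  ∀ (X : Over (Spec (CommRingCat.of k))) (t : X ⟶ T) (h : X ⟶ H),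
    ∃ h' : X ⟶ H, h' ≫ j = (t ≫ iT) * (h ≫ j) * (t ≫ iT)⁻¹

/-- An entry restricted to a subscheme. -/
def ent (r : G ⟶ GLs k n) (j : H ⟶ G) (p : Fin n × Fin n) : Γ(H.left, ⊤) := mat (j ≫ r) p.1 p.2

omit [GrpObj G] in
theorem val_ent (r : G ⟶ GLs k n) (j : H ⟶ G) {B : Type u} [CommRing B] [Algebra k B] (h : VecGrp.pt k B ⟶ H)
    (p : Fin n × Fin n) : val h (ent r j p) = pmat r (h ≫ j) p.1 p.2 := by
  rw [ent, ← pmat_apply, pmat, pmat, Category.assoc]

variable {r : G ⟶ GLs k n} [IsMonHom r] [IsClosedImmersion r.left] [IsAffine G.left] [IsMonHom iT]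
  {a : Fin n → Fin d → ℤ}
  (hdiag : ∀ (X : Over (Spec (CommRingCat.of k))) (x : X ⟶ T),
    mat ((x ≫ iT) ≫ r) = Matrix.diagonal fun j => C.ch x (Multiplicative.ofAdd (a j))) (b : Fin d → ℤ)

include hdiag in
/-- **Stable smooth subgroups are affine spaces on some of any family of generating entries of positive degree.** -/
theorem exists_entry_coords_of_gen (j : H ⟶ G) [IsClosedImmersion j.left] [Smooth H.hom]
    (e : VecGrp.pt k k ⟶ H) (he : e ≫ j = 1) (hst : TStab iT j) {J : Type} [Finite J] (p₀ : J → Fin n × Fin n)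
    (hpos : ∀ s, wt a b (p₀ s).2 < wt a b (p₀ s).1)
    (hgen : Algebra.adjoin k (Set.range fun s => ent r j (p₀ s)) = ⊤) :
    ∃ (κ : Type) (_ : Fintype κ) (c : κ → J), Function.Injective c ∧
      Function.Bijective (MvPolynomial.aeval fun t => ent r j (p₀ (c t)) :
        MvPolynomial κ k →ₐ[k] Γ(H.left, ⊤)) := by
  classical
  haveI : IsAffine H.left := isAffine_of_isAffineHom j.left
  haveI : Algebra.FormallySmooth k Γ(H.left, ⊤) := formallySmooth_gam (G := H)
  set w := wt a b with hw
  let A : Type u := Γ(H.left, ⊤)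
  obtain ⟨τ, hτ⟩ := exists_lam C b A
  let incl : A →ₐ[k] A[T;T⁻¹] := IsScalarTower.toAlgHom k A A[T;T⁻¹]
  let up : VecGrp.pt k A[T;T⁻¹] ⟶ H := VecGrp.ptMap incl ≫ uPt H
  have hincl : ∀ F : A, incl F = AddMonoidAlgebra.single 0 F := fun F => by simp [incl]
  obtain ⟨h', hh'⟩ := hst _ τ up
  let Φ : A →ₐ[k] A[T;T⁻¹] := val h'
  have hX : ∀ q : Fin n × Fin n, Φ (ent r j q) = AddMonoidAlgebra.single (w q.1 - w q.2) (ent r j q) := fun q => by
    show val h' _ = _
    have hpos : pmat r (τ ≫ iT) = Matrix.diagonal fun j => AddMonoidAlgebra.single (wt a b j) 1 := by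
      rw [pmat, hdiag, Matrix.diagonal_map (map_zero _)]
      congr 1
      funext j
      exact (hτ (a j)).1
    have hneg : pmat r (τ ≫ iT)⁻¹ = Matrix.diagonal fun j => AddMonoidAlgebra.single (-wt a b j) 1 := by
      rw [pmat, show (τ ≫ iT)⁻¹ = τ⁻¹ ≫ iT from (GrpObj.inv_comp _ _).symm, hdiag, Matrix.diagonal_map (map_zero _)]
      congr 1
      funext j
      exact (hτ (a j)).2
    rw [val_ent, hh', pmat_mul, pmat_mul, hpos, hneg, Matrix.mul_diagonal, Matrix.diagonal_mul, ← val_ent]
    show _ * val (VecGrp.ptMap incl ≫ uPt H) _ * _ = _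
    rw [val_ptMap, val_uPt, AlgHom.comp_id, hincl, AddMonoidAlgebra.single_mul_single,
      AddMonoidAlgebra.single_mul_single, _root_.one_mul, _root_.mul_one, add_zero, ← sub_eq_add_neg]
  let ε : A →ₐ[k] k := val e
  obtain ⟨κ, _, c, hc, hbij⟩ := exists_coords Φ (fun s => ent r j (p₀ s)) (fun s => w (p₀ s).1 - w (p₀ s).2)
    (fun s => hX (p₀ s)) hgen (fun s => sub_pos.2 (hpos s)) ε fun s => by
      show val e (ent r j (p₀ s)) = 0
      rw [val_ent, he, pmat_one, Matrix.one_apply_ne fun e' => (hpos s).ne' (congrArg w e')]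
  exact ⟨κ, Fintype.ofFinite κ, c, hc, hbij⟩

omit [GrpObj G] [IsMonHom r] in
/-- The entries of positive degree generate. -/
theorem adjoin_ent (j : H ⟶ G) [IsClosedImmersion j.left] (hU : Unp (wt a b) (mat (j ≫ r))) :
    Algebra.adjoin k (Set.range fun p : {p : Fin n × Fin n // wt a b p.2 < wt a b p.1} => ent r j p.1) = ⊤ := by
  haveI : IsAffine H.left := isAffine_of_isAffineHom j.left
  haveI : IsClosedImmersion (j ≫ r).left := by rw [Over.comp_left]; infer_instance
  rw [eq_top_iff, ← adjoin_gen (j ≫ r)]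
  refine Algebra.adjoin_le ?_
  rintro _ ⟨_ | ⟨p, q⟩, rfl⟩
  · have hdet : coordHom (j ≫ r) CoordGrp.GLn.det = (mat (j ≫ r)).det := by
      rw [CoordGrp.GLn.det_eq, AlgHom.map_det]
      rfl
    have hone : coordHom (j ≫ r) CoordGrp.GLn.det * coordHom (j ≫ r) CoordGrp.GLn.Dinv = 1 := by
      rw [← map_mul, CoordGrp.GLn.det_mul_Dinv, map_one]
    rw [hdet, hU.det, _root_.one_mul] at hone
    show coordHom (j ≫ r) CoordGrp.GLn.Dinv ∈ _
    rw [hone]
    exact one_mem _
  · show mat (j ≫ r) p q ∈ _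
    rcases lt_trichotomy (wt a b p) (wt a b q) with h | h | h
    · rw [hU.1 p q h]
      exact zero_mem _
    · have h1 := congrFun (congrFun hU.2 p) q
      rw [blkDiag, Matrix.of_apply, if_pos h] at h1
      rw [h1]
      by_cases e : p = q
      · subst e
        rw [Matrix.one_apply_eq]
        exact one_mem _
      · rw [Matrix.one_apply_ne e]
        exact zero_mem _
    · exact Algebra.subset_adjoin ⟨⟨(p, q), h⟩, rfl⟩

include hdiag in
/-- **Stable smooth subgroups of the unipotent contracted group are affine spaces with entries as coordinates.** -/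
theorem exists_entry_coords (j : H ⟶ G) [IsClosedImmersion j.left] [Smooth H.hom]
    (e : VecGrp.pt k k ⟶ H) (he : e ≫ j = 1) (hU : Unp (wt a b) (mat (j ≫ r))) (hst : TStab iT j) :
    ∃ (κ : Type) (_ : Fintype κ) (p : κ → Fin n × Fin n), Function.Injective p ∧
      (∀ t, wt a b (p t).2 < wt a b (p t).1) ∧
      Function.Bijective (MvPolynomial.aeval fun t => ent r j (p t) :
        MvPolynomial κ k →ₐ[k] Γ(H.left, ⊤)) := by
  obtain ⟨κ, hκ, c, hc, hbij⟩ := exists_entry_coords_of_gen hdiag b j e he hst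
    (fun p : {p : Fin n × Fin n // wt a b p.2 < wt a b p.1} => p.1) (fun p => p.2) (adjoin_ent b j hU)
  exact ⟨κ, hκ, fun t => (c t).1, Subtype.val_injective.comp hc, fun t => (c t).2, hbij⟩

end Groth.Agent.AttrBorel21
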