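import Groth.Agent.Lib.AttrBorel21.Coords
import Groth.Agent.Lib.VarDim.Fibre
import Mathlib.RingTheory.Localization.Away.Basic

/-!
# The product of two opposite unipotent subgroups and the torus is no bigger than the group
-/

set_option autoImplicit false
set_option linter.style.haveILetI false
set_option backward.isDefEq.respectTransparency.types false
universe u

open CategoryTheory Limits MonoidalCategory CartesianMonoidalCategory MonObj AlgebraicGeometry

noncomputable section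

namespace Groth.Agent.AttrBorel21

open InvRing21 DiagGL TorPts21 BigCell21

attribute [local instance] InvRing21.gamAlg

variable {k : Type u} [Field k] {n d : ℕ}

/-- A monomorphism does not decrease the dimension. -/
theorem dim_le_of_mono {X Y : Scheme.{u}} [IrreducibleSpace X] (f : X ⟶ Y) [Mono f]
    (q : Y ⟶ Spec (CommRingCat.of k)) [LocallyOfFiniteType q] [QuasiCompact q]
    [LocallyOfFiniteType f] [QuasiCompact f] : topologicalKrullDim X ≤ topologicalKrullDim Y := by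
  set x := genericPoint X
  have hsub : Subsingleton (f ⁻¹' {f x} : Set X) := ⟨fun y z => Subtype.ext
    (f.injective ((show f y.1 = f x from y.2).trans (show f z.1 = f x from z.2).symm))⟩
  have h0 : topologicalKrullDim (f ⁻¹' {f x} : Set X) ≤ ((0 : ℕ) : WithBot ℕ∞) := by
    have : Subsingleton (TopologicalSpace.IrreducibleCloseds (f ⁻¹' {f x} : Set X)) := ⟨fun A B => by
      refine SetLike.coe_injective ?_
      rw [Subsingleton.eq_univ_of_nonempty A.isIrreducible.nonempty,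
        Subsingleton.eq_univ_of_nonempty B.isIrreducible.nonempty]⟩
    exact Order.krullDim_nonpos_of_subsingleton
  have h := (VarDim.dim_preimage_singleton_le_iff q f (f x) 0).1 h0 x rfl
  rw [zero_add] at h
  rw [VarDim.dim_eq_sdim_genericPoint (f ≫ q), VarDim.dim_eq_iSup_sdim q]
  refine le_trans ?_ (le_iSup _ (f x))
  exact_mod_cast h

variable {G T M P : Over (Spec (CommRingCat.of k))} [GrpObj G] [GrpObj T] [IsAffine G.left]
  {r : G ⟶ GLs k n} [IsMonHom r] [IsClosedImmersion r.left] {C : Chars (Fin d → ℤ) T} {iT : T ⟶ G}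
  {a : Fin n → Fin d → ℤ} {b : Fin d → ℤ}
  (hdiag : ∀ (X : Over (Spec (CommRingCat.of k))) (x : X ⟶ T),
    mat ((x ≫ iT) ≫ r) = Matrix.diagonal fun j => C.ch x (Multiplicative.ofAdd (a j)))
  (hmeet : ∀ (X : Over (Spec (CommRingCat.of k))) (x : X ⟶ G), Blk (wt a b) (mat (x ≫ r)) →
    Blk (wt a (-b)) (mat (x ≫ r)) → ∃ τ : X ⟶ T, τ ≫ iT = x)

omit [IsMonHom r] [IsAffine G.left] in
include hdiag in
/-- A unitriangular torus element is trivial. -/
theorem eq_one_of_unp [IsMonHom r] (b' : Fin d → ℤ) {X : Over (Spec (CommRingCat.of k))} (τ : X ⟶ T)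
    (h : Unp (wt a b') (mat ((τ ≫ iT) ≫ r))) : τ ≫ iT = 1 := by
  haveI : Mono r := Over.mono_of_mono_left r
  refine (cancel_mono r).1 (mat_injective ?_)
  rw [MonObj.one_comp, mat_one, ← h.2, hdiag]
  ext i j
  by_cases e : i = j
  · subst e; simp [blkDiag]
  · simp [blkDiag, Matrix.diagonal_apply_ne _ e]

include hdiag hmeet in
omit [IsAffine G.left] in
/-- Uniqueness of factorisations in the big cell. -/
theorem eq_of_cell_eq {X : Over (Spec (CommRingCat.of k))} {m m' p p' : X ⟶ G} {t t' : X ⟶ T}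
    (hm : Unp (wt a (-b)) (mat (m ≫ r))) (hm' : Unp (wt a (-b)) (mat (m' ≫ r)))
    (hp : Unp (wt a b) (mat (p ≫ r))) (hp' : Unp (wt a b) (mat (p' ≫ r)))
    (h : m * (t ≫ iT) * p = m' * (t' ≫ iT) * p') : m = m' ∧ t ≫ iT = t' ≫ iT ∧ p = p' := by
  have hinv : ∀ {w : Fin n → ℤ} {x : X ⟶ G}, Unp w (mat (x ≫ r)) → Unp w (mat (x⁻¹ ≫ r)) := fun {w x} hx =>
    hx.left_inv (by rw [← mat_mul, ← MonObj.mul_comp, inv_mul_cancel, MonObj.one_comp, mat_one])
  have hmul : ∀ {w : Fin n → ℤ} {x y : X ⟶ G}, Unp w (mat (x ≫ r)) → Unp w (mat (y ≫ r)) →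
      Unp w (mat ((x * y) ≫ r)) := fun {w x y} hx hy => by
    rw [MonObj.mul_comp, mat_mul]; exact hx.mul hy
  have hbmul : ∀ {w : Fin n → ℤ} {x y : X ⟶ G}, Blk w (mat (x ≫ r)) → Blk w (mat (y ≫ r)) →
      Blk w (mat ((x * y) ≫ r)) := fun {w x y} hx hy => by
    rw [MonObj.mul_comp, mat_mul]; exact (blk_iff _ _).2 (((blk_iff _ _).1 hx).mul ((blk_iff _ _).1 hy))
  have hT : ∀ τ : X ⟶ T, Blk (wt a b) (mat ((τ ≫ iT) ≫ r)) := fun τ => by
    rw [hdiag]; exact blk_diagonal _ _
  have hTi : ∀ τ : X ⟶ T, Blk (wt a b) (mat ((τ ≫ iT)⁻¹ ≫ r)) := fun τ =>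
    (blk_left_inv (hT τ) (by rw [← mat_mul, ← MonObj.mul_comp, inv_mul_cancel, MonObj.one_comp, mat_one])).1
  have h1 : m'⁻¹ * m = (t' ≫ iT) * p' * p⁻¹ * (t ≫ iT)⁻¹ := by
    calc m'⁻¹ * m = m'⁻¹ * (m * (t ≫ iT) * p) * (p⁻¹ * (t ≫ iT)⁻¹) := by group
      _ = _ := by rw [h]; group
  have hu := hmul (hinv hm') hm
  have hb1 : Blk (wt a b) (mat ((m'⁻¹ * m) ≫ r)) := by
    rw [h1]
    exact hbmul (hbmul (hbmul (hT t') hp'.1) (hinv hp).1) (hTi t)
  obtain ⟨τ, hτ⟩ := hmeet X _ hb1 hu.1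
  have hm1 : m'⁻¹ * m = 1 := by rw [← hτ]; exact eq_one_of_unp hdiag (-b) τ (hτ ▸ hu)
  have hmm : m = m' := (inv_mul_eq_one.1 hm1).symm
  subst hmm
  have h2 : (t ≫ iT) * p = (t' ≫ iT) * p' := mul_left_cancel (a := m) (by rw [← _root_.mul_assoc, ← _root_.mul_assoc, h])
  have h3 : (t ≫ iT)⁻¹ * (t' ≫ iT) = p * p'⁻¹ := by
    calc (t ≫ iT)⁻¹ * (t' ≫ iT) = (t ≫ iT)⁻¹ * ((t' ≫ iT) * p') * p'⁻¹ := by group
      _ = _ := by rw [← h2]; group
  have hu2 := hmul hp (hinv hp')
  have hb2 : Blk (wt a (-b)) (mat ((p * p'⁻¹) ≫ r)) := by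
    rw [← h3]
    have hTn : ∀ τ : X ⟶ T, Blk (wt a (-b)) (mat ((τ ≫ iT) ≫ r)) := fun τ => by
      rw [hdiag]; exact blk_diagonal _ _
    exact hbmul (blk_left_inv (hTn t)
      (by rw [← mat_mul, ← MonObj.mul_comp, inv_mul_cancel, MonObj.one_comp, mat_one])).1 (hTn t')
  obtain ⟨τ, hτ⟩ := hmeet X _ hu2.1 hb2
  have hp1 : p * p'⁻¹ = 1 := by rw [← hτ]; exact eq_one_of_unp hdiag b τ (hτ ▸ hu2)
  have hpp : p = p' := mul_inv_eq_one.1 hp1
  subst hpp
  exact ⟨rfl, mul_right_cancel h2, rfl⟩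

include hdiag hmeet in
set_option maxHeartbeats 1600000 in
/-- **The dimension bound.** -/
theorem card_add_le_dim [Smooth G.hom] [IsMonHom iT] [Mono iT] {iM : M ⟶ G} [IsClosedImmersion iM.left]
    {iP : P ⟶ G} [IsClosedImmersion iP.left] (hM : Unp (wt a (-b)) (mat (iM ≫ r)))
    (hP : Unp (wt a b) (mat (iP ≫ r))) {κm κp : Type} [Fintype κm] [Fintype κp]
    (pm : κm → Fin n × Fin n) (pp : κp → Fin n × Fin n)
    (hm : Function.Bijective (MvPolynomial.aeval fun t => ent r iM (pm t) : MvPolynomial κm k →ₐ[k] Γ(M.left, ⊤)))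
    (hp : Function.Bijective (MvPolynomial.aeval fun t => ent r iP (pp t) : MvPolynomial κp k →ₐ[k] Γ(P.left, ⊤))) :
    ((Fintype.card κm + Fintype.card κp + d : ℕ) : WithBot ℕ∞) ≤ topologicalKrullDim G.left := by
  classical
  haveI : IsAffine M.left := isAffine_of_isAffineHom iM.left
  haveI : IsAffine P.left := isAffine_of_isAffineHom iP.left
  let R : Type u := MvPolynomial (κm ⊕ κp ⊕ Fin d) k
  let f : R := ∏ l : Fin d, MvPolynomial.X (Sum.inr (Sum.inr l))
  let L : Type u := Localization.Away f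
  have hf : f ≠ 0 := Finset.prod_ne_zero_iff.2 fun l _ => MvPolynomial.X_ne_zero _
  haveI : IsDomain L := IsLocalization.isDomain_localization (powers_le_nonZeroDivisors_of_noZeroDivisors hf)
  haveI : Algebra.FinitePresentation R L := IsLocalization.Away.finitePresentation f
  haveI : Algebra.FiniteType k L := Algebra.FiniteType.trans (S := R) inferInstance inferInstance
  let incl : R →ₐ[k] L := IsScalarTower.toAlgHom k R L
  have hinj : Function.Injective incl :=
    IsLocalization.injective L (powers_le_nonZeroDivisors_of_noZeroDivisors hf)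
  have hu : ∀ l : Fin d, IsUnit (incl (MvPolynomial.X (Sum.inr (Sum.inr l)))) := fun l =>
    isUnit_of_dvd_unit (map_dvd incl (Finset.dvd_prod_of_mem
      (fun l : Fin d => (MvPolynomial.X (Sum.inr (Sum.inr l)) : R)) (Finset.mem_univ l)))
      (show IsUnit (algebraMap R L f) from IsLocalization.Away.algebraMap_isUnit f)
  let em := AlgEquiv.ofBijective _ hm
  let ep := AlgEquiv.ofBijective _ hp
  let φm : Γ(M.left, ⊤) →ₐ[k] L :=
    (incl.comp (MvPolynomial.rename Sum.inl)).comp em.symm.toAlgHom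
  let φp : Γ(P.left, ⊤) →ₐ[k] L :=
    (incl.comp (MvPolynomial.rename fun t => Sum.inr (Sum.inl t))).comp ep.symm.toAlgHom
  have hφm : ∀ t, φm (ent r iM (pm t)) = incl (MvPolynomial.X (Sum.inl t)) := fun t => by
    show incl (MvPolynomial.rename Sum.inl (em.symm (ent r iM (pm t)))) = _
    rw [show ent r iM (pm t) = em (MvPolynomial.X t) from (MvPolynomial.aeval_X (fun t => ent r iM (pm t)) t).symm,
      AlgEquiv.symm_apply_apply, MvPolynomial.rename_X]
  have hφp : ∀ t, φp (ent r iP (pp t)) = incl (MvPolynomial.X (Sum.inr (Sum.inl t))) := fun t => by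
    show incl (MvPolynomial.rename _ (ep.symm (ent r iP (pp t)))) = _
    rw [show ent r iP (pp t) = ep (MvPolynomial.X t) from (MvPolynomial.aeval_X (fun t => ent r iP (pp t)) t).symm,
      AlgEquiv.symm_apply_apply, MvPolynomial.rename_X]
  let xm : VecGrp.pt k L ⟶ M := VecGrp.ptMap φm ≫ uPt M
  let xp : VecGrp.pt k L ⟶ P := VecGrp.ptMap φp ≫ uPt P
  obtain ⟨xt, hxt⟩ := exists_chi C (monom fun l => (hu l).unit)
  let q : VecGrp.pt k L ⟶ G := (xm ≫ iM) * (xt ≫ iT) * (xp ≫ iP)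
  haveI hmono : Mono q := by
    refine ⟨fun {X} ψ ψ' h => ?_⟩
    simp only [q, MonObj.comp_mul] at h
    rw [← Category.assoc ψ xt, ← Category.assoc ψ' xt] at h
    have hUm : ∀ χ : X ⟶ VecGrp.pt k L, Unp (wt a (-b)) (mat ((χ ≫ xm ≫ iM) ≫ r)) := fun χ => by
      rw [← Category.assoc χ, Category.assoc _ iM, mat_comp]; exact hM.map _
    have hUp : ∀ χ : X ⟶ VecGrp.pt k L, Unp (wt a b) (mat ((χ ≫ xp ≫ iP) ≫ r)) := fun χ => by
      rw [← Category.assoc χ, Category.assoc _ iP, mat_comp]; exact hP.map _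
    obtain ⟨e1, e2, e3⟩ := eq_of_cell_eq hdiag hmeet (hUm ψ) (hUm ψ') (hUp ψ) (hUp ψ') h
    have e2' : ψ ≫ xt = ψ' ≫ xt := (cancel_mono iT).1 e2
    letI := (alg X).toAlgebra
    let Ψ : L →+* Γ(X.left, ⊤) := ψ.left.appTop.hom.comp (Scheme.ΓSpecIso (CommRingCat.of L)).inv.hom
    let Ψ' : L →+* Γ(X.left, ⊤) := ψ'.left.appTop.hom.comp (Scheme.ΓSpecIso (CommRingCat.of L)).inv.hom
    have hkey : ∀ (z : VecGrp.pt k L ⟶ G) (i j : Fin n) (c : L), pmat r z i j = c →
        ∀ χ : X ⟶ VecGrp.pt k L, mat ((χ ≫ z) ≫ r) i j =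
          χ.left.appTop ((Scheme.ΓSpecIso (CommRingCat.of L)).inv c) := fun z i j c hc χ => by
      rw [Category.assoc, mat_comp, Matrix.map_apply, ← hc]
      congr 1
      exact (ConcreteCategory.congr_hom (Scheme.ΓSpecIso (CommRingCat.of L)).hom_inv_id _).symm
    have hm' : ∀ t, Ψ (incl (MvPolynomial.X (Sum.inl t))) = Ψ' (incl (MvPolynomial.X (Sum.inl t))) := fun t => by
      have hc : pmat r (xm ≫ iM) (pm t).1 (pm t).2 = incl (MvPolynomial.X (Sum.inl t)) := by
        rw [← val_ent, val_ptMap, val_uPt, AlgHom.comp_id, hφm]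
      exact (hkey _ _ _ _ hc ψ).symm.trans ((congrArg (fun z => mat (z ≫ r) (pm t).1 (pm t).2) e1).trans
        (hkey _ _ _ _ hc ψ'))
    have hp' : ∀ t, Ψ (incl (MvPolynomial.X (Sum.inr (Sum.inl t)))) =
        Ψ' (incl (MvPolynomial.X (Sum.inr (Sum.inl t)))) := fun t => by
      have hc : pmat r (xp ≫ iP) (pp t).1 (pp t).2 = incl (MvPolynomial.X (Sum.inr (Sum.inl t))) := by
        rw [← val_ent, val_ptMap, val_uPt, AlgHom.comp_id, hφp]
      exact (hkey _ _ _ _ hc ψ).symm.trans ((congrArg (fun z => mat (z ≫ r) (pp t).1 (pp t).2) e3).trans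
        (hkey _ _ _ _ hc ψ'))
    have ht' : ∀ l, Ψ (incl (MvPolynomial.X (Sum.inr (Sum.inr l)))) =
        Ψ' (incl (MvPolynomial.X (Sum.inr (Sum.inr l)))) := fun l => by
      have hc : C.ch xt (Multiplicative.ofAdd (Pi.single l 1)) =
          (Scheme.ΓSpecIso (CommRingCat.of L)).inv (incl (MvPolynomial.X (Sum.inr (Sum.inr l)))) := by
        have h1 := hxt (Multiplicative.ofAdd (Pi.single l 1))
        rw [monom_single, IsUnit.unit_spec] at h1
        rw [← h1]
        exact (ConcreteCategory.congr_hom (Scheme.ΓSpecIso (CommRingCat.of L)).hom_inv_id _).symm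
      show ψ.left.appTop ((Scheme.ΓSpecIso (CommRingCat.of L)).inv _) = ψ'.left.appTop _
      have h6 := fun χ : X ⟶ VecGrp.pt k L =>
        C.nat χ xt (Multiplicative.ofAdd (Pi.single l 1))
      rw [← hc, ← h6, e2', h6]
    have hΨ : Ψ = Ψ' := by
      refine IsLocalization.ringHom_ext (Submonoid.powers f) ?_
      refine MvPolynomial.ringHom_ext (fun c => ?_) ?_
      · show ψ.left.appTop ((Scheme.ΓSpecIso (CommRingCat.of L)).inv (incl (MvPolynomial.C c))) =
          ψ'.left.appTop ((Scheme.ΓSpecIso (CommRingCat.of L)).inv (incl (MvPolynomial.C c)))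
        have hC : ∀ χ : X ⟶ VecGrp.pt k L, χ.left.appTop ((Scheme.ΓSpecIso (CommRingCat.of L)).inv
            (incl (MvPolynomial.C c))) = ev χ (algebraMap k L c) := fun χ => by
          rw [show incl (MvPolynomial.C c) = algebraMap k L c from AlgHom.commutes incl c]
          rfl
        rw [hC, hC, ev_algebraMap, ev_algebraMap]
      · rintro (t | t | l)
        exacts [hm' t, hp' t, ht' l]
    refine Over.OverMorphism.ext (ext_of_isAffine (CommRingCat.hom_ext (RingHom.ext fun F => ?_)))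
    have h4 := DFunLike.congr_fun hΨ ((Scheme.ΓSpecIso (CommRingCat.of L)).hom F)
    have h5 : ((Scheme.ΓSpecIso (CommRingCat.of L)).inv ((Scheme.ΓSpecIso (CommRingCat.of L)).hom F)) = F :=
      ConcreteCategory.congr_hom (Scheme.ΓSpecIso (CommRingCat.of L)).hom_inv_id F
    simpa [Ψ, Ψ', h5] using h4
  haveI : Mono q.left := inferInstance
  haveI : LocallyOfFiniteType (VecGrp.pt k L).hom := by
    show LocallyOfFiniteType (Spec.map (CommRingCat.ofHom (algebraMap k L)))
    rw [HasRingHomProperty.Spec_iff (P := @LocallyOfFiniteType)]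
    exact RingHom.finiteType_algebraMap.2 inferInstance
  haveI : LocallyOfFiniteType (q.left ≫ G.hom) := by rw [Over.w q]; infer_instance
  haveI : LocallyOfFiniteType q.left := locallyOfFiniteType_of_comp q.left G.hom
  haveI : IsAffine (VecGrp.pt k L).left := inferInstanceAs (IsAffine (Spec _))
  haveI : IsAffineHom q.left := inferInstance
  haveI : QuasiCompact q.left := inferInstance
  haveI : QuasiCompact G.hom := inferInstance
  haveI : IrreducibleSpace (VecGrp.pt k L).left := inferInstanceAs (IrreducibleSpace (PrimeSpectrum L))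
  refine le_trans ?_ (dim_le_of_mono q.left G.hom)
  show _ ≤ topologicalKrullDim (PrimeSpectrum L)
  rw [PrimeSpectrum.topologicalKrullDim_eq_ringKrullDim, VarDim.ringKrullDim_eq_tdeg k L]
  have h1 : Algebra.trdeg k R ≤ Algebra.trdeg k L := trdeg_le_of_injective incl hinj
  rw [VarDim.trdeg_eq_tdeg k L, MvPolynomial.trdeg_of_isDomain, Cardinal.mk_fintype] at h1
  simp only [Cardinal.lift_natCast, Fintype.card_sum, Fintype.card_fin, Nat.cast_le] at h1
  have h2 : Fintype.card κm + Fintype.card κp + d ≤ VarDim.tdeg k L := by omega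
  exact_mod_cast h2

end Groth.Agent.AttrBorel21
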