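import Groth.Agent.Lib.TorPts21.Sub
import Mathlib.LinearAlgebra.StdBasis

/-!
# Representations of split tori over a field are diagonalisable
-/

set_option autoImplicit false
set_option linter.style.haveILetI false
set_option backward.isDefEq.respectTransparency.types false
universe u

open CategoryTheory MonoidalCategory CartesianMonoidalCategory MonObj AlgebraicGeometry
open scoped Matrix

noncomputable section

namespace Groth.Agent.AttrBorel21

open DiagGL

variable {k : Type u} [Field k] {M : Type} [AddCommGroup M] {I : Type}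

theorem emb_symm_term (m : Multiplicative M) (r : k) :
    (emb k M).symm (univChar k M m * alg (D k M) r) = MonoidAlgebra.single m r := by
  refine (emb k M).injective ?_
  rw [RingEquiv.apply_symm_apply, alg_D]
  show emb k M (MonoidAlgebra.of k (Multiplicative M) m) * _ = _
  rw [← map_mul, MonoidAlgebra.of_apply, MonoidAlgebra.single_mul_single, _root_.one_mul, _root_.mul_one]

/-- Coefficients of a combination of characters. -/
theorem coeff_charSum [DecidableEq I] (S : Finset I) (g : I → Multiplicative M) (hg : Set.InjOn g S) (v : I → k)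
    (c : I) (hc : c ∈ S) :
    ((emb k M).symm (∑ i ∈ S, univChar k M (g i) * alg (D k M) (v i))).coeff (g c) = v c := by
  classical
  rw [map_sum]
  simp only [emb_symm_term]
  rw [MonoidAlgebra.coeff_sum, Finset.sum_apply', Finset.sum_eq_single c]
  · rw [MonoidAlgebra.coeff_single, Finsupp.single_eq_same]
  · intro b hb hbc
    rw [MonoidAlgebra.coeff_single, Finsupp.single_eq_of_ne fun h => hbc (hg hb hc h.symm)]
  · exact fun h => absurd hc h

variable {m : ℕ} {σ : Over (Spec (CommRingCat.of k))} [GrpObj σ] (C : Chars M σ)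

/-- A representation of a split torus is a complete family of orthogonal idempotents. -/
theorem exists_idem [DecidableEq M] (s : σ ⟶ TorPts21.GLs k m) [IsMonHom s] :
    ∃ (S : Finset M) (P : S → Matrix (Fin m) (Fin m) k), IsSplit P ∧
      ∀ (T : Over (Spec (CommRingCat.of k))) (x : T ⟶ σ),
        mat (x ≫ s) = ∑ a : S, C.ch x (Multiplicative.ofAdd (a : M)) • (P a).map (alg T) := by
  classical
  obtain ⟨w, hw⟩ := exists_uni C
  let A : Fin m → Fin m → MonoidAlgebra k (Multiplicative M) := fun i j => (emb k M).symm (mat (w ≫ s) i j)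
  let S : Finset M := Finset.univ.biUnion fun i => Finset.univ.biUnion fun j =>
    (A i j).coeff.support.image Multiplicative.toAdd
  let P : S → Matrix (Fin m) (Fin m) k := fun a =>
    Matrix.of fun i j => (A i j).coeff (Multiplicative.ofAdd (a : M))
  have hA : ∀ i j, mat (w ≫ s) i j =
      ∑ a : S, univChar k M (Multiplicative.ofAdd (a : M)) * alg (D k M) (P a i j) := fun i j => by
    refine (emb k M).symm.injective (MonoidAlgebra.coeff_injective (Finsupp.ext fun q => ?_))
    show (A i j).coeff q = _
    by_cases hq : q.toAdd ∈ S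
    · exact (coeff_charSum (Finset.univ : Finset S) (fun a => Multiplicative.ofAdd (a : M))
        (fun a _ b _ h => Subtype.ext (Multiplicative.ofAdd.injective h)) (fun a => P a i j) ⟨q.toAdd, hq⟩
        (Finset.mem_univ _)).symm
    · have h0 : (A i j).coeff q = 0 := by
        by_contra h
        exact hq (Finset.mem_biUnion.2 ⟨i, Finset.mem_univ _, Finset.mem_biUnion.2 ⟨j, Finset.mem_univ _,
          Finset.mem_image.2 ⟨q, Finsupp.mem_support_iff.2 h, rfl⟩⟩⟩)
      rw [h0, map_sum]
      simp only [emb_symm_term]
      rw [MonoidAlgebra.coeff_sum, Finset.sum_apply']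
      refine (Finset.sum_eq_zero fun b _ => ?_).symm
      rw [MonoidAlgebra.coeff_single, Finsupp.single_eq_of_ne]
      exact fun h => hq (by simp [h])
  have hform : ∀ (T : Over (Spec (CommRingCat.of k))) (x : T ⟶ σ),
      mat (x ≫ s) = ∑ a : S, C.ch x (Multiplicative.ofAdd (a : M)) • (P a).map (alg T) := fun T x => by
    obtain ⟨t, rfl, ht⟩ := exists_factor C hw x
    rw [Category.assoc, mat_comp]
    ext i j
    simp [Matrix.sum_apply, hA, ht, alg_comp]
  refine ⟨S, P, ⟨fun a b => ?_, ?_⟩, hform⟩
  · let U : Multiplicative M →* Γ((D k (M × M)).left, ⊤) :=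
      (univChar k (M × M)).comp (AddMonoidHom.toMultiplicative (AddMonoidHom.inl M M))
    let V : Multiplicative M →* Γ((D k (M × M)).left, ⊤) :=
      (univChar k (M × M)).comp (AddMonoidHom.toMultiplicative (AddMonoidHom.inr M M))
    obtain ⟨x, hx⟩ := C.surj U
    obtain ⟨y, hy⟩ := C.surj V
    have hUV : ∀ c c' : M, U (Multiplicative.ofAdd c) * V (Multiplicative.ofAdd c') =
        univChar k (M × M) (Multiplicative.ofAdd (c, c')) := fun c c' => by
      simp only [U, V, MonoidHom.comp_apply, ← map_mul]
      congr 1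
      apply Multiplicative.toAdd.injective
      simp
    have h := mat_mul (x ≫ s) (y ≫ s)
    rw [← MonObj.mul_comp, hform, hform _ x, hform _ y] at h
    simp only [C.mul, hx, hy, hUV] at h
    have h1 : ∀ i j, ∑ p : S × S, univChar k (M × M) (Multiplicative.ofAdd ((p.1 : M), (p.2 : M))) *
          alg _ ((if p.1 = p.2 then P p.1 else 0) i j) =
        ∑ p : S × S, univChar k (M × M) (Multiplicative.ofAdd ((p.1 : M), (p.2 : M))) *
          alg _ ((P p.1 * P p.2) i j) := fun i j => by
      have hij := congrFun (congrFun h i) j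
      simp only [Finset.sum_mul, Finset.mul_sum, smul_mul_assoc, mul_smul_comm, ← Matrix.map_mul,
        Matrix.sum_apply, Matrix.smul_apply, Matrix.map_apply, smul_eq_mul] at hij
      rw [Fintype.sum_prod_type, Fintype.sum_prod_type]
      refine Eq.trans ?_ (hij.trans ?_)
      · refine Finset.sum_congr rfl fun c _ => ?_
        rw [Finset.sum_eq_single c]
        · rw [if_pos rfl]
        · intro b _ hb
          rw [if_neg fun e => hb e.symm]
          simp
        · simp
      · rw [Finset.sum_comm]
        refine Finset.sum_congr rfl fun c _ => Finset.sum_congr rfl fun c' _ => ?_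
        rw [← hUV]
        ring
    have hinj : Set.InjOn (fun p : S × S => Multiplicative.ofAdd ((p.1 : M), (p.2 : M)))
        (Finset.univ : Finset (S × S)) := fun p _ q _ h => by
      have h' := Multiplicative.ofAdd.injective h
      exact Prod.ext (Subtype.ext (congrArg Prod.fst h')) (Subtype.ext (congrArg Prod.snd h'))
    ext i j
    have e1 := coeff_charSum _ _ hinj (fun p : S × S => (if p.1 = p.2 then P p.1 else 0) i j) (a, b)
      (Finset.mem_univ _)
    have e2 := coeff_charSum _ _ hinj (fun p : S × S => (P p.1 * P p.2) i j) (a, b) (Finset.mem_univ _)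
    rw [h1] at e1
    exact e2.symm.trans e1
  · have h := hform _ (1 : 𝟙_ (Over (Spec (CommRingCat.of k))) ⟶ σ)
    rw [MonObj.one_comp, mat_one] at h
    simp only [C.one, one_smul] at h
    refine (RingEquiv.ofBijective _ (alg_unit_bijective (k := k))).mapMatrix.injective ?_
    rw [map_one, map_sum]
    exact h.symm

omit [GrpObj σ] in
/-- A complete family of orthogonal idempotents has a common eigenbasis. -/
theorem exists_eigenbasis {S : Type} [Fintype S] [DecidableEq S] {P : S → Matrix (Fin m) (Fin m) k}
    (hP : IsSplit P) : ∃ (h : Matrix (Fin m) (Fin m) k) (a : Fin m → S), IsUnit h ∧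
      ∀ b, P b * h = h * Matrix.diagonal fun j => if b = a j then 1 else 0 := by
  classical
  let β : ∀ s : S, Module.Basis (Fin (Module.finrank k (LinearMap.range (P s).mulVecLin))) k
      (LinearMap.range (P s).mulVecLin) := fun s => Module.finBasis k _
  let bs := (Pi.basis β).map (decomp hP).symm
  have hcard : Fintype.card (Σ s : S, Fin (Module.finrank k (LinearMap.range (P s).mulVecLin))) = m := by
    rw [← Module.finrank_eq_card_basis bs, Module.finrank_fin_fun]
  let δ := bs.reindex (Fintype.equivFinOfCardEq hcard)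
  let a : Fin m → S := fun j => ((Fintype.equivFinOfCardEq hcard).symm j).1
  have hv : ∀ b j, P b *ᵥ δ j = if b = a j then δ j else 0 := fun b j => by
    obtain ⟨u, hu⟩ : δ j ∈ LinearMap.range (P (a j)).mulVecLin := by
      rw [show δ j = (decomp hP).symm (Pi.basis β ((Fintype.equivFinOfCardEq hcard).symm j)) by simp [δ, bs]]
      show (∑ s, ((Pi.basis β ((Fintype.equivFinOfCardEq hcard).symm j)) s : Fin m → k)) ∈ _
      rw [Finset.sum_eq_single (a j)]
      · exact Submodule.coe_mem _
      · intro s _ hs
        rw [Pi.basis_apply, Pi.single_eq_of_ne hs]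
        rfl
      · simp
    rw [← hu, Matrix.mulVecLin_apply, Matrix.mulVec_mulVec, hP.mul]
    split_ifs with e
    · rw [e]
    · rw [Matrix.zero_mulVec]
  refine ⟨Matrix.of fun i j => δ j i, a, ?_, fun b => ?_⟩
  · rw [← Matrix.linearIndependent_cols_iff_isUnit]
    exact δ.linearIndependent
  · ext i j
    rw [Matrix.mul_diagonal]
    show (P b *ᵥ δ j) i = δ j i * _
    rw [hv]
    split_ifs with e <;> simp

/-- A representation of a split torus can be conjugated into the diagonal. -/
theorem exists_diag {G : Over (Spec (CommRingCat.of k))} [GrpObj G] (i : σ ⟶ G) [IsMonHom i]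
    (r : G ⟶ TorPts21.GLs k m) [IsMonHom r] [IsClosedImmersion r.left] :
    ∃ (r' : G ⟶ TorPts21.GLs k m) (_ : IsMonHom r') (_ : IsClosedImmersion r'.left) (a : Fin m → M),
      ∀ (T : Over (Spec (CommRingCat.of k))) (x : T ⟶ σ),
        mat ((x ≫ i) ≫ r') = Matrix.diagonal fun j => C.ch x (Multiplicative.ofAdd (a j)) := by
  classical
  obtain ⟨S, P, hP, hform⟩ := exists_idem C (i ≫ r)
  obtain ⟨h, a, hu, hdiag⟩ := exists_eigenbasis hP
  obtain ⟨h', hl⟩ := hu.exists_left_inv
  have hr' := mul_eq_one_comm.1 hl
  obtain ⟨g, hg⟩ := exists_point (matsGLn k m) (IsUnit.of_mul_eq_one (a := h') h hl)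
  refine ⟨AGF.conjBy g r, TorPts21.isMonHom_conjBy g r, TorPts21.isClosedImmersion_conjBy g r,
    fun j => (a j : M), fun T x => ?_⟩
  have hsum : (∑ b : S, C.ch x (Multiplicative.ofAdd (b : M)) • (P b).map (alg T)) * h.map (alg T) =
      h.map (alg T) * Matrix.diagonal fun j => C.ch x (Multiplicative.ofAdd ((a j : M))) := by
    rw [Finset.sum_mul]
    simp only [smul_mul_assoc, ← Matrix.map_mul, hdiag]
    ext p q
    rw [Matrix.mul_diagonal]
    simp only [Matrix.sum_apply, Matrix.smul_apply, Matrix.map_apply, Matrix.mul_diagonal, smul_eq_mul]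
    rw [Finset.sum_eq_single (a q)]
    · simp [mul_comm]
    · intro b _ hb
      simp [hb]
    · simp
  have h1 := mat_conjBy (matsGLn k m) r hg (x ≫ i)
  change mat ((x ≫ i) ≫ AGF.conjBy g r) * h'.map (alg T) = h'.map (alg T) * mat ((x ≫ i) ≫ r) at h1
  have hone : h'.map (alg T) * h.map (alg T) = 1 := by
    rw [← Matrix.map_mul, hl, Matrix.map_one _ (map_zero _) (map_one _)]
  calc mat ((x ≫ i) ≫ AGF.conjBy g r)
      = mat ((x ≫ i) ≫ AGF.conjBy g r) * (h'.map (alg T) * h.map (alg T)) := by rw [hone, _root_.mul_one]
    _ = h'.map (alg T) * (mat ((x ≫ i) ≫ r) * h.map (alg T)) := by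
        rw [← _root_.mul_assoc, h1, _root_.mul_assoc]
    _ = Matrix.diagonal fun j => C.ch x (Multiplicative.ofAdd ((a j : M))) := by
        rw [Category.assoc, hform, hsum, ← _root_.mul_assoc, hone, _root_.one_mul]

end Groth.Agent.AttrBorel21
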