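import Groth.Agent.Lib.AttrBorel21.Smooth

/-!
# The fixed locus of a grading of a formally smooth algebra is formally smooth
-/

set_option autoImplicit false
universe u v

open scoped LaurentPolynomial

noncomputable section

namespace Groth.Agent.AttrBorel21

variable {R A : Type u} [CommRing R] [CommRing A] [Algebra R A] (Φ : A →ₐ[R] A[T;T⁻¹]) {ι : Type v}
  (x : ι → A) (d : ι → ℤ)

/-- The ideal of the generators of nonzero degree. -/
def fixIdeal : Ideal A := Ideal.span (Set.range fun i : {i // d i ≠ 0} => x i.1)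

theorem negIdeal_le_fixIdeal : negIdeal x d ≤ fixIdeal x d :=
  Ideal.span_le.2 (by rintro _ ⟨⟨i, hi⟩, rfl⟩; exact Ideal.subset_span ⟨⟨i, hi.ne⟩, rfl⟩)

variable (hx : ∀ i, IsHom Φ (d i) (x i)) (hgen : Algebra.adjoin R (Set.range x) = ⊤)

include hx hgen in
/-- **The fixed locus of a grading of a formally smooth algebra is formally smooth.** -/
theorem formallySmooth_fixed [Algebra.FormallySmooth R A] :
    Algebra.FormallySmooth R (A ⧸ fixIdeal x d) := by
  classical
  set N := negIdeal x d with hN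
  have : Algebra.FormallySmooth R (A ⧸ N) := formallySmooth_quotient Φ x d hx hgen
  let mkN : A →ₐ[R] A ⧸ N := Ideal.Quotient.mkₐ R N
  let inv : (A ⧸ N)[T;T⁻¹] →ₐ[R] (A ⧸ N)[T;T⁻¹] :=
    (AddMonoidAlgebra.mapDomainAlgHom (A ⧸ N) (A ⧸ N) (negAddMonoidHom : ℤ →+ ℤ)).restrictScalars R
  let Ψ : A →ₐ[R] (A ⧸ N)[T;T⁻¹] := inv.comp ((AddMonoidAlgebra.mapAlgHom ℤ mkN).comp Φ)
  have hΨ : ∀ i, Ψ (x i) = AddMonoidAlgebra.single (-d i) (mkN (x i)) := fun i => by
    show inv (AddMonoidAlgebra.mapAlgHom ℤ mkN (Φ (x i))) = _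
    rw [show Φ (x i) = _ from hx i, AddMonoidAlgebra.mapAlgHom_single]
    exact AddMonoidAlgebra.mapDomain_single
  have hker : ∀ a ∈ N, Ψ a = 0 := fun a ha => by
    induction ha using Submodule.span_induction with
    | mem b hb =>
      obtain ⟨⟨i, hi⟩, rfl⟩ := hb
      show Ψ (x i) = 0
      rw [hΨ, show mkN (x i) = 0 from Ideal.Quotient.eq_zero_iff_mem.2 (Ideal.subset_span ⟨⟨i, hi⟩, rfl⟩),
        AddMonoidAlgebra.single_zero]
    | zero => exact map_zero _
    | add b c _ _ hb hc => rw [map_add, hb, hc, add_zero]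
    | smul c b _ hb => rw [smul_eq_mul, map_mul, hb, mul_zero]
  let Φ' : A ⧸ N →ₐ[R] (A ⧸ N)[T;T⁻¹] := Ideal.Quotient.liftₐ N Ψ hker
  have hx' : ∀ i, IsHom Φ' (-d i) (mkN (x i)) := fun i => hΨ i
  have hgen' : Algebra.adjoin R (Set.range fun i => mkN (x i)) = ⊤ := by
    rw [show (Set.range fun i => mkN (x i)) = mkN '' Set.range x from Set.range_comp mkN x,
      Algebra.adjoin_image, hgen, Algebra.map_top]
    exact (AlgHom.range_eq_top mkN).2 (Ideal.Quotient.mkₐ_surjective R N)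
  have := formallySmooth_quotient Φ' (fun i => mkN (x i)) (fun i => -d i) hx' hgen'
  have hI : negIdeal (fun i => mkN (x i)) (fun i => -d i) = (fixIdeal x d).map mkN := by
    apply le_antisymm
    · refine Ideal.span_le.2 ?_
      rintro _ ⟨⟨i, hi⟩, rfl⟩
      exact Ideal.mem_map_of_mem _ (Ideal.subset_span ⟨⟨i, by simp only at hi ⊢; omega⟩, rfl⟩)
    · rw [fixIdeal, Ideal.map_span]
      refine Ideal.span_le.2 ?_
      rintro _ ⟨_, ⟨⟨i, hi⟩, rfl⟩, rfl⟩
      rcases lt_or_gt_of_ne hi with h | h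
      · rw [show mkN (x i) = 0 from Ideal.Quotient.eq_zero_iff_mem.2 (Ideal.subset_span ⟨⟨i, h⟩, rfl⟩)]
        exact zero_mem _
      · exact Ideal.subset_span ⟨⟨i, by simp only; omega⟩, rfl⟩
  exact Algebra.FormallySmooth.of_equiv
    ((Ideal.quotientEquivAlgOfEq R hI).trans (DoubleQuot.quotQuotEquivQuotOfLEₐ R (negIdeal_le_fixIdeal x d)))

end Groth.Agent.AttrBorel21
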