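import Groth.Agent.Lib.AttrBorel21.Main

/-!
# Points in field extensions of representations and split tori, and the action of automorphisms
-/

set_option autoImplicit false
set_option linter.style.haveILetI false
set_option backward.isDefEq.respectTransparency.types false
universe u

open CategoryTheory Limits MonoidalCategory CartesianMonoidalCategory MonObj AlgebraicGeometry

noncomputable section

namespace Groth.Agent.AttrBorel21

open InvRing21 DiagGL TorPts21

attribute [local instance] InvRing21.gamAlg BorelFix21.ptsTop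

variable {k : Type u} [Field k] {B B' : Type u} [CommRing B] [Algebra k B] [CommRing B'] [Algebra k B']
  {G T : Over (Spec (CommRingCat.of k))}

theorem ptHom_ptMap (φ : B →ₐ[k] B') (F : Γ((VecGrp.pt k B).left, ⊤)) :
    ptHom B' ((VecGrp.ptMap φ).left.appTop F) = φ (ptHom B F) := by
  show ((VecGrp.ptMap φ).left.appTop ≫ (Scheme.ΓSpecIso (CommRingCat.of B')).hom) F =
    ((Scheme.ΓSpecIso (CommRingCat.of B)).hom ≫ CommRingCat.ofHom φ.toRingHom) F
  rw [VecGrp.ptMap_left, Scheme.ΓSpecIso_naturality]

theorem pmat_comp_ptMap {n : ℕ} (r : G ⟶ GLs k n) (φ : B →ₐ[k] B') (x : VecGrp.pt k B ⟶ G) :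
    pmat r (VecGrp.ptMap φ ≫ x) = (pmat r x).map φ := by
  ext i j
  rw [pmat_apply, val_ptMap, Matrix.map_apply, pmat_apply]
  rfl

theorem pmat_injective {n : ℕ} (r : G ⟶ GLs k n) [IsClosedImmersion r.left] :
    Function.Injective (pmat r (B := B)) := fun x y h => by
  haveI : Mono r := Over.mono_of_mono_left r
  exact (cancel_mono r).1 (mat_injective (Matrix.map_injective (InvRing21.ptHom_injective B) h))

theorem pmat_one [GrpObj G] {n : ℕ} (r : G ⟶ GLs k n) [IsMonHom r] :
    pmat r (1 : VecGrp.pt k B ⟶ G) = 1 := by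
  rw [pmat, MonObj.one_comp, mat_one, Matrix.map_one _ (map_zero _) (map_one _)]

variable [GrpObj T] {d : ℕ} (C : Chars (Fin d → ℤ) T)

/-- The value of a character at a point. -/
def chi (x : VecGrp.pt k B ⟶ T) : Multiplicative (Fin d → ℤ) →* B := (ptHom B).toMonoidHom.comp (C.ch x)

theorem chi_mul (x y : VecGrp.pt k B ⟶ T) (m : Multiplicative (Fin d → ℤ)) :
    chi C (x * y) m = chi C x m * chi C y m := by
  show ptHom B (C.ch (x * y) m) = ptHom B (C.ch x m) * ptHom B (C.ch y m)
  rw [C.mul, map_mul]

theorem chi_ptMap (φ : B →ₐ[k] B') (x : VecGrp.pt k B ⟶ T) (m : Multiplicative (Fin d → ℤ)) :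
    chi C (VecGrp.ptMap φ ≫ x) m = φ (chi C x m) := by
  show ptHom B' (C.ch _ m) = φ (ptHom B (C.ch x m))
  rw [C.nat, ← ptHom_ptMap]

theorem chi_ext {x y : VecGrp.pt k B ⟶ T}
    (h : ∀ j, chi C x (Multiplicative.ofAdd (Pi.single j 1)) = chi C y (Multiplicative.ofAdd (Pi.single j 1))) :
    x = y := by
  refine C.inj fun m => InvRing21.ptHom_injective B ?_
  show chi C x m = chi C y m
  have : (chi C x).toHomUnits = (chi C y).toHomUnits := by
    apply AddMonoidHom.toMultiplicativeLeft.symm.injective
    apply AddMonoidHom.functions_ext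
    intro j z
    have hj : (chi C x).toHomUnits (Multiplicative.ofAdd (Pi.single j 1)) =
        (chi C y).toHomUnits (Multiplicative.ofAdd (Pi.single j 1)) := Units.ext (h j)
    have : Multiplicative.ofAdd (Pi.single j z : Fin d → ℤ) = Multiplicative.ofAdd (Pi.single j 1) ^ z := by
      rw [← ofAdd_zsmul, ← Pi.single_smul, smul_eq_mul, _root_.mul_one]
    show Additive.ofMul ((chi C x).toHomUnits (Multiplicative.ofAdd (Pi.single j z))) = Additive.ofMul _
    rw [this, map_zpow, hj, ← map_zpow, ← this]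
  exact congrArg Units.val (DFunLike.congr_fun this m)

theorem exists_chi (χ : Multiplicative (Fin d → ℤ) →* B) : ∃ x : VecGrp.pt k B ⟶ T, ∀ m, chi C x m = χ m := by
  obtain ⟨x, hx⟩ := C.surj (T := VecGrp.pt k B) ((Scheme.ΓSpecIso (CommRingCat.of B)).inv.hom.toMonoidHom.comp χ)
  exact ⟨x, fun m => by
    show ptHom B (C.ch x m) = _
    rw [hx]
    exact ConcreteCategory.congr_hom (Scheme.ΓSpecIso (CommRingCat.of B)).inv_hom_id (χ m)⟩

/-- The monomial character with prescribed values on the basis. -/
def monom (c : Fin d → Bˣ) : Multiplicative (Fin d → ℤ) →* B :=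
  (Units.coeHom B).comp (MonoidHom.mk' (fun m => ∏ j, c j ^ m.toAdd j) fun m m' => by
    simp only [toAdd_mul, Pi.add_apply, zpow_add, Finset.prod_mul_distrib])

theorem monom_single (c : Fin d → Bˣ) (j : Fin d) :
    monom c (Multiplicative.ofAdd (Pi.single j 1)) = c j := by
  show ((∏ i, c i ^ (Pi.single j 1 : Fin d → ℤ) i : Bˣ) : B) = _
  rw [Finset.prod_eq_single j]
  · rw [Pi.single_eq_same, zpow_one]
  · intro i _ hi
    rw [Pi.single_eq_of_ne hi, zpow_zero]
  · simp

/-- A monoid homomorphism into a field which is a combination of characters is one of them. -/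
theorem exists_eq_of_sum {M : Type*} [Monoid M] {L : Type*} [Field L] {I : Type*} [Fintype I] (χ : I → M →* L)
    (c : I → L) (φ : M →* L) (h : ∀ s, φ s = ∑ i, c i * χ i s) : ∃ i, φ = χ i := by
  by_contra hne
  simp only [not_exists] at hne
  refine (linearIndependent_monoidHom M L).notMem_span_image (x := φ) (s := Set.range χ)
    (fun ⟨i, hi⟩ => hne i hi.symm) ?_
  rw [show (φ : M → L) = ∑ i, c i • (χ i : M → L) from funext fun s => by simp [h s]]
  exact Submodule.sum_mem _ fun i _ => Submodule.smul_mem _ _ (Submodule.subset_span ⟨χ i, ⟨i, rfl⟩, rfl⟩)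

/-- A point lying in a closed subscheme after extending the coefficient field lies in it. -/
theorem exists_lift_of_ext {L K : Type u} [Field L] [CommRing K] [Nontrivial K] [Algebra k L] [Algebra k K]
    (j : L →ₐ[k] K) {H G : Over (Spec (CommRingCat.of k))} [IsAffine G.left] (i : H ⟶ G) [IsClosedImmersion i.left]
    (x : VecGrp.pt k L ⟶ G) (z : VecGrp.pt k K ⟶ H) (h : z ≫ i = VecGrp.ptMap j ≫ x) :
    ∃ y : VecGrp.pt k L ⟶ H, y ≫ i = x := by
  haveI : IsAffine H.left := isAffine_of_isAffineHom i.left
  have hs : Function.Surjective (appAlg i) :=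
    (IsClosedImmersion.isAffine_surjective_of_isAffine i.left).2
  have hker : ∀ f, appAlg i f = 0 → val x f = 0 := fun f hf => j.toRingHom.injective (by
    rw [map_zero]
    show j.comp (val x) f = 0
    rw [← val_ptMap, ← h, ← appTop_val, show i.left.appTop f = 0 from hf, map_zero])
  let ψ : Γ(H.left, ⊤) →ₐ[k] L := AlgHom.liftOfSurjective (appAlg i) hs (val x) hker
  refine ⟨VecGrp.ptMap ψ ≫ uPt H, ?_⟩
  rw [Category.assoc, ← ptMap_appAlg, ← Category.assoc, ptMap_comp,
    show ψ.comp (appAlg i) = val x from AlgHom.liftOfSurjective_comp _ _ _ _, ptMap_val]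

end Groth.Agent.AttrBorel21
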