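import Groth.Agent.Lib.AttrBorel21.Subgroup
import Groth.Agent.Lib.AttrBorel21.Contr
import Groth.Agent.Lib.BorelFix21.BaseChange
import Groth.Agent.Lib.FinBorel21.Pairs

/-!
# Geometric fibres of contracted subgroups
-/

set_option autoImplicit false
set_option linter.style.haveILetI false
set_option backward.isDefEq.respectTransparency.types false
universe u

open CategoryTheory Limits MonoidalCategory CartesianMonoidalCategory MonObj AlgebraicGeometry

noncomputable section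

namespace Groth.Agent.AttrBorel21

open MatGrp21 InvRing21 DiagGL TorPts21 BigCell21 BorelLam21

attribute [local instance] InvRing21.gamAlg BorelFix21.ptsTop

variable {k : Type u} [Field k] (K : Type u) [Field K] [Algebra k K]

/-- Base change to the extension field. -/
abbrev bcK (X : Over (Spec (CommRingCat.of k))) : Over (Spec (CommRingCat.of K)) := Red.bc (DiagGL.ext' (k := k) K) X

/-- Base change of a morphism. -/
abbrev bcMap {X Y : Over (Spec (CommRingCat.of k))} (f : X ⟶ Y) : bcK K X ⟶ bcK K Y :=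
  (Over.pullback (DiagGL.ext' (k := k) K)).map f

/-- The two views of the point with values in the extension field. -/
def ptIso : (Over.map (DiagGL.ext' (k := k) K)).obj (VecGrp.pt K K) ≅ VecGrp.pt k K :=
  Over.isoMk (Iso.refl _) (by
    show 𝟙 _ ≫ Spec.map (CommRingCat.ofHom (algebraMap k K)) =
      Spec.map (CommRingCat.ofHom (algebraMap K K)) ≫ Spec.map (CommRingCat.ofHom (algebraMap k K))
    rw [Category.id_comp, show CommRingCat.ofHom (algebraMap K K) = 𝟙 _ from rfl, Spec.map_id, Category.id_comp])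

variable {K}

/-- A point with values in the extension, as a rational point of the base change. -/
def toK {X : Over (Spec (CommRingCat.of k))} (x : VecGrp.pt k K ⟶ X) : VecGrp.pt K K ⟶ bcK K X :=
  (Over.mapPullbackAdj _).homEquiv _ _ ((ptIso K).hom ≫ x)

theorem fl_toK {X : Over (Spec (CommRingCat.of k))} [GrpObj X] (x : VecGrp.pt k K ⟶ X) :
    fl _ X (toK x) = (ptIso K).hom ≫ x := Equiv.symm_apply_apply _ _

theorem exists_toK {X : Over (Spec (CommRingCat.of k))} (y : VecGrp.pt K K ⟶ bcK K X) :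
    ∃ x : VecGrp.pt k K ⟶ X, toK x = y :=
  ⟨(ptIso K).inv ≫ ((Over.mapPullbackAdj _).homEquiv _ _).symm y, by simp [toK]⟩

theorem toK_comp {X Y : Over (Spec (CommRingCat.of k))} (x : VecGrp.pt k K ⟶ X) (f : X ⟶ Y) :
    toK (x ≫ f) = toK x ≫ bcMap K f := by
  rw [toK, toK, ← Category.assoc, Adjunction.homEquiv_naturality_right]

theorem toK_injective {X : Over (Spec (CommRingCat.of k))} : Function.Injective (toK (k := k) (K := K) (X := X)) :=
  fun _ _ h => (cancel_epi (ptIso K).hom).1 (((Over.mapPullbackAdj _).homEquiv _ _).injective h)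

variable {n d : ℕ} {G T : Over (Spec (CommRingCat.of k))} [GrpObj G] [GrpObj T]

variable (K) in
/-- Base change of a matrix representation. -/
theorem exists_bcRep (r : G ⟶ GLs k n) [IsMonHom r] [IsClosedImmersion r.left] :
    ∃ (rK : bcK K G ⟶ GLs K n) (_ : IsMonHom rK) (_ : IsClosedImmersion rK.left),
      ∀ (X : Over (Spec (CommRingCat.of K))) (x : X ⟶ bcK K G),
        mat (x ≫ rK) = mat (fl _ G x ≫ r) := by
  let MB := (matsGLn k n).baseChange (DiagGL.ext' (k := k) K) (GLs k n)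
  let MK := matsGLn K n
  obtain ⟨ψ, hψ⟩ := MK.surj (MB.isUnit (𝟙 (bcK K (GLs k n))))
  obtain ⟨ψ', hψ'⟩ := MB.surj (MK.isUnit (𝟙 (GLs K n)))
  have hall : ∀ {X : Over (Spec (CommRingCat.of K))} (x : X ⟶ bcK K (GLs k n)), MK.mat (x ≫ ψ) = MB.mat x := fun x => by
    rw [MK.nat, hψ, ← MB.nat, Category.comp_id]
  have hall' : ∀ {X : Over (Spec (CommRingCat.of K))} (x : X ⟶ GLs K n), MB.mat (x ≫ ψ') = MK.mat x := fun x => by
    rw [MB.nat, hψ', ← MK.nat, Category.comp_id]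
  let e : bcK K (GLs k n) ≅ GLs K n := ⟨ψ, ψ', MB.inj (by rw [hall', hψ]), MK.inj (by rw [hall, hψ'])⟩
  haveI hm : IsMonHom e.hom :=
    { one_hom := MK.inj (by rw [hall, MonObj.one_eq_one, MonObj.one_eq_one, MB.one, MK.one])
      mul_hom := MK.inj (by
        rw [hall, MonObj.mul_eq_mul, MonObj.mul_eq_mul, MonObj.comp_mul, MK.mul, MB.mul]
        congr 1
        · rw [tensorHom_fst, hall]
        · rw [tensorHom_snd, hall]) }
  haveI : IsMonHom (bcMap K r) := inferInstance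
  haveI : IsClosedImmersion (bcMap K r).left := BorelFix21.isClosedImmersion_bc _ r
  haveI : IsIso e.hom := e.isIso_hom
  haveI : IsIso e.hom.left := inferInstanceAs (IsIso ((Over.forget _).map e.hom))
  refine ⟨bcMap K r ≫ e.hom, inferInstance, inferInstanceAs (IsClosedImmersion ((bcMap K r).left ≫ e.hom.left)),
    fun X x => ?_⟩
  rw [← Category.assoc]
  refine (hall _).trans ?_
  show mat (fl _ (GLs k n) (x ≫ bcMap K r)) = _
  rw [DiagGL.fl_comp_map]

variable [IsAlgClosed K] {iT : T ⟶ G} (C : Chars (Fin d → ℤ) T) {r : G ⟶ GLs k n} {a : Fin n → Fin d → ℤ}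
  (hdiag : ∀ (X : Over (Spec (CommRingCat.of k))) (x : X ⟶ T),
    mat ((x ≫ iT) ≫ r) = Matrix.diagonal fun j => C.ch x (Multiplicative.ofAdd (a j)))
  {rK : bcK K G ⟶ GLs K n}
  (hrK : ∀ (X : Over (Spec (CommRingCat.of K))) (x : X ⟶ bcK K G), mat (x ≫ rK) = mat (fl _ G x ≫ r))

omit [IsAlgClosed K] in
include hrK hdiag in
theorem diag_K (τ : VecGrp.pt K K ⟶ bcK K T) :
    (mtxFn rK (τ ≫ bcMap K iT) : Matrix (Fin n) (Fin n) K) =
      Matrix.diagonal fun j => ptChr (C.baseChange (DiagGL.ext' (k := k) K) T) τ (Multiplicative.ofAdd (a j)) := by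
  rw [coe_mtxFn, mtxMat, hrK, DiagGL.fl_comp_map, hdiag, Matrix.diagonal_map (map_zero _)]
  rfl

omit [IsAlgClosed K] [GrpObj T] in
include hrK in
theorem blk_iff_mem_upPts [IsMonHom rK] (w : Fin n → ℤ) (x : VecGrp.pt k K ⟶ G) :
    Blk w (mat (x ≫ r)) ↔ toK x ∈ upPts rK w := by
  have h : mat (toK x ≫ rK) = (mat (x ≫ r)).map (ptIso K).hom.left.appTop := by
    rw [hrK, fl_toK, Category.assoc, mat_comp]
  have hinj : Function.Injective (ptIso (k := k) K).hom.left.appTop := by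
    intro p q h
    simpa [ptIso] using h
  rw [mem_upPts]
  constructor
  · intro hb i j hij
    rw [coe_mtxFn, mtxMat, h, Matrix.map_apply, Matrix.map_apply, hb i j hij, map_zero, map_zero]
  · intro hb i j hij
    have h1 := hb i j hij
    rw [coe_mtxFn, mtxMat, h, Matrix.map_apply, Matrix.map_apply] at h1
    exact hinj ((BorelFix21.ptHom_bijective.1 (h1.trans (map_zero _).symm)).trans (map_zero _).symm)

include hrK hdiag in
/-- Borel subgroups containing the split torus are contracted subgroups of integral cocharacters. -/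
theorem exists_cochar [IsAffine G.left] [Smooth G.hom] [IsMonHom rK] [IsClosedImmersion rK.left]
    (hG : Red.IsReductiveOver K (bcK K G)) (hT : AGF.IsMaxTorus (bcMap K iT))
    {B' : Over (Spec (CommRingCat.of K))} [GrpObj B'] {iB' : B' ⟶ bcK K G} (hB' : Red.IsBorelOver K iB')
    (t' : bcK K T ⟶ B') (ht' : t' ≫ iB' = bcMap K iT) :
    ∃ b : Fin d → ℤ, (∀ x, (∃ y, y ≫ iB' = x) ↔ x ∈ upPts rK (wt a b)) ∧
      (∃ (B₂ : Over (Spec (CommRingCat.of K))) (_ : GrpObj B₂) (iB₂ : B₂ ⟶ bcK K G),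
        Red.IsBorelOver K iB₂ ∧ ∀ x, (∃ y, y ≫ iB₂ = x) ↔ x ∈ upPts rK (wt a (-b))) ∧
      ∀ x ∈ upPts rK (wt a b), x ∈ upPts rK (wt a (-b)) →
        ∃ τ : VecGrp.pt K K ⟶ bcK K T, τ ≫ bcMap K iT = x := by
  haveI : IsAffine (bcK K G).left := BorelFix21.isAffine_bc _ G
  haveI : Smooth (bcK K G).hom := BorelFix21.smooth_bc _ G
  haveI := hG.2.2.1
  haveI := hT.1
  haveI := hT.2.1
  let CK := C.baseChange (DiagGL.ext' (k := k) K) T
  obtain ⟨F, hF, hFT⟩ := UMod21.exists_frame hG hB' t' (by rw [ht']; exact hT)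
  haveI := F.maxT.1
  haveI := F.maxT.2.1
  obtain ⟨hTa, hTs, -, -⟩ := props_of_isTorus hT.2.2.1
  haveI := hTa
  haveI := hTs
  obtain ⟨hFa, hFs, -, -⟩ := props_of_isTorus F.maxT.2.2.1
  haveI := hFa
  haveI := hFs
  haveI := isClosedImmersion_of_torus hT.2.2.1 (bcMap K iT)
  haveI := isClosedImmersion_of_torus F.maxT.2.2.1 F.iT
  obtain ⟨g, hg⟩ := exists_lift_of_pts F.iT (bcMap K iT) fun τ => by
    obtain ⟨τ', hτ'⟩ := hFT τ
    exact ⟨τ', hτ'.trans (by rw [ht'])⟩
  haveI : IsIso g := hT.2.2.2 F.T F.iT g F.maxT.2.2.1 hg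
  let φ : F.T ⟶ bcK K T := inv g
  have hφ : φ ≫ bcMap K iT = F.iT := (IsIso.inv_comp_eq _).2 hg.symm
  haveI : IsMonHom φ := BorelFix21.isMonHom_of_comp (bcMap K iT) φ (hφ.symm ▸ F.maxT.1)
  obtain ⟨b, hb⟩ := exists_cochar_transport CK F.C φ F.b
  have hup : ∀ (b₁ : Fin F.d → ℤ) (b₂ : Fin d → ℤ),
      (∀ s : Kˣ, ∃ τ : VecGrp.pt K K ⟶ F.T,
        (∀ m, ptChr F.C τ (Multiplicative.ofAdd m) = ((s ^ pairing m b₁ : Kˣ) : K)) ∧
        ∀ m, ptChr CK (τ ≫ φ) (Multiplicative.ofAdd m) = ((s ^ pairing m b₂ : Kˣ) : K)) →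
      upPts F.r (wt F.a b₁) = upPts rK (wt a b₂) := fun b₁ b₂ h => by
    choose τ hτ₁ hτ₂ using h
    ext x
    rw [mem_upPts_iff (lam := fun s => τ s ≫ F.iT), mem_upPts_iff (lam := fun s => τ s ≫ F.iT)]
    · intro s
      show (mtxFn rK (τ s ≫ F.iT) : Matrix (Fin n) (Fin n) K) = _
      rw [← hφ, ← Category.assoc, diag_K C hdiag hrK, dg]
      congr 1
      funext j
      exact hτ₂ s (a j)
    · intro s
      show (mtxFn F.r (τ s ≫ F.iT) : Matrix (Fin F.n) (Fin F.n) K) = _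
      rw [F.diag, dg]
      congr 1
      funext j
      exact hτ₁ s (F.a j)
  have hp : upPts F.r (wt F.a F.b) = upPts rK (wt a b) := hup _ _ fun s => by
    obtain ⟨τ, hτ⟩ := exists_cochar_pt F.C F.b s
    exact ⟨τ, hτ, hb s τ hτ⟩
  have hn : upPts F.r (wt F.a (-F.b)) = upPts rK (wt a (-b)) := hup _ _ fun s => by
    obtain ⟨τ, hτ⟩ := exists_cochar_pt F.C F.b s⁻¹
    have e : ∀ {e : ℕ} (m c : Fin e → ℤ), (s⁻¹ : Kˣ) ^ pairing m c = s ^ pairing m (-c) := fun m c => by
      rw [inv_zpow', show pairing m (-c) = -pairing m c by simp [pairing]]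
    exact ⟨τ, fun m => by rw [hτ, e], fun m => by rw [hb s⁻¹ τ hτ, e]⟩
  refine ⟨b, fun x => (hF x).trans (by rw [← hp]; rfl), ?_, fun x hx hx' => ?_⟩
  · obtain ⟨B₂, _, iB₂, h₂, hp₂⟩ := F.neg.exists_borel
    exact ⟨B₂, inferInstance, iB₂, h₂, fun x => (hp₂ x).trans (by rw [← hn]; rfl)⟩
  · rw [← hp] at hx
    rw [← hn] at hx'
    obtain ⟨τ, hτ⟩ := down_inter F.C F.red F.maxT F.diag F.sep hB' (fun y hy => (hF y).2 hy) x hx' ((hF x).2 hx)
    exact ⟨τ ≫ φ, by rw [Category.assoc, hφ, hτ]⟩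

omit [GrpObj T] in
include hrK in
/-- A smooth closed subgroup with the points of a Borel subgroup is a Borel subgroup after base change. -/
theorem exists_iso_borel [IsAffine G.left] [IsMonHom rK] {w : Fin n → ℤ}
    {B : Over (Spec (CommRingCat.of k))} [GrpObj B] {iB : B ⟶ G} [IsMonHom iB] [IsClosedImmersion iB.left]
    [Smooth B.hom] [IsAffine B.left]
    (hB : ∀ (X : Over (Spec (CommRingCat.of k))) (x : X ⟶ G), (∃ y, y ≫ iB = x) ↔ Blk w (mat (x ≫ r)))
    {B' : Over (Spec (CommRingCat.of K))} [GrpObj B'] {iB' : B' ⟶ bcK K G} (hB' : Red.IsBorelOver K iB')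
    (hpts : ∀ x, (∃ y, y ≫ iB' = x) ↔ x ∈ upPts rK w) :
    ∃ e : bcK K B ≅ B', e.hom ≫ iB' = bcMap K iB ∧ Red.IsBorelOver K (bcMap K iB) := by
  haveI : IsAffine (bcK K G).left := BorelFix21.isAffine_bc _ G
  haveI : IsAffine (bcK K B).left := BorelFix21.isAffine_bc _ B
  haveI : Smooth (bcK K B).hom := BorelFix21.smooth_bc _ B
  haveI : IsClosedImmersion (bcMap K iB).left := BorelFix21.isClosedImmersion_bc _ iB
  obtain ⟨hm', hc', hs', -, -, -⟩ := id hB'
  haveI := hm'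
  haveI := hc'
  haveI := hs'
  haveI : IsAffine B'.left := isAffine_of_isAffineHom iB'.left
  have hK : ∀ x : VecGrp.pt K K ⟶ bcK K G, (∃ y, y ≫ bcMap K iB = x) ↔ x ∈ upPts rK w := fun x => by
    obtain ⟨z, rfl⟩ := exists_toK x
    rw [← blk_iff_mem_upPts hrK, ← hB]
    constructor
    · rintro ⟨y, hy⟩
      obtain ⟨v, rfl⟩ := exists_toK y
      exact ⟨v, toK_injective (by rw [toK_comp, hy])⟩
    · rintro ⟨v, rfl⟩
      exact ⟨toK v, (toK_comp v iB).symm⟩
  obtain ⟨f, hf⟩ := exists_lift_of_pts iB' (bcMap K iB) fun y => (hpts _).2 ((hK _).1 ⟨y, rfl⟩)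
  obtain ⟨g, hg⟩ := exists_lift_of_pts (bcMap K iB) iB' fun y => (hK _).2 ((hpts _).1 ⟨y, rfl⟩)
  haveI : Mono iB' := Over.mono_of_mono_left iB'
  haveI : Mono (bcMap K iB) := Over.mono_of_mono_left _
  let e : bcK K B ≅ B' := ⟨f, g, (cancel_mono (bcMap K iB)).1 (by rw [Category.assoc, hg, hf, Category.id_comp]),
    (cancel_mono iB').1 (by rw [Category.assoc, hf, hg, Category.id_comp])⟩
  haveI : IsMonHom e.hom := BorelFix21.isMonHom_of_comp iB' f (hf.symm ▸ inferInstance)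
  refine ⟨e, hf, ?_⟩
  rw [← hf]
  exact FinBorel21.isBorelOver_iso hB' e

end Groth.Agent.AttrBorel21
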