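import Groth.Agent.Lib.AttrBorel21.UnipRad

/-!
# Cochar data of Borel subgroups in a fixed representation
-/

set_option autoImplicit false
set_option linter.style.haveILetI false
set_option backward.isDefEq.respectTransparency.types false
universe u

open CategoryTheory Limits MonoidalCategory CartesianMonoidalCategory MonObj AlgebraicGeometry

noncomputable section

namespace Groth.Agent.AttrBorel21

open InvRing21 DiagGL TorPts21 BigCell21 BorelLam21

attribute [local instance] InvRing21.gamAlg BorelFix21.ptsTop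

variable {k : Type u} [Field k] {d : ℕ}

set_option maxHeartbeats 800000 in
/-- The cocharacter of a Borel subgroup in a given diagonalised representation. -/
theorem exists_cochar_data {K : Type u} [Field K] [IsAlgClosed K] [Algebra k K]
    {G T : Over (Spec (CommRingCat.of k))} [GrpObj G] [GrpObj T] [IsAffine G.left] [Smooth G.hom]
    (C : Chars (Fin d → ℤ) T) (iT : T ⟶ G) [IsMonHom iT] [IsClosedImmersion iT.left]
    (hG : Red.IsReductiveOver K (bcK K G)) (hT : AGF.IsMaxTorus (bcMap K iT))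
    {n : ℕ} (r : G ⟶ GLs k n) [IsMonHom r] [IsClosedImmersion r.left] (a : Fin n → Fin d → ℤ)
    (hdiag : ∀ (X : Over (Spec (CommRingCat.of k))) (x : X ⟶ T),
      mat ((x ≫ iT) ≫ r) = Matrix.diagonal fun j => C.ch x (Multiplicative.ofAdd (a j)))
    {B : Over (Spec (CommRingCat.of k))} [GrpObj B] {iB : B ⟶ G} [IsMonHom iB] [IsClosedImmersion iB.left]
    [Smooth B.hom] (hB : Red.IsBorelOver K (bcMap K iB)) (t : T ⟶ B) (ht : t ≫ iB = iT) :
    ∃ b : Fin d → ℤ,
      (∀ (X : Over (Spec (CommRingCat.of k))) (x : X ⟶ G), (∃ y, y ≫ iB = x) ↔ Blk (wt a b) (mat (x ≫ r))) ∧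
      ∀ (X : Over (Spec (CommRingCat.of k))) (x : X ⟶ G), Blk (wt a b) (mat (x ≫ r)) →
        Blk (wt a (-b)) (mat (x ≫ r)) → ∃ τ : X ⟶ T, τ ≫ iT = x := by
  obtain ⟨rK, hm, hc, hrK⟩ := exists_bcRep K r
  haveI := hm
  haveI := hc
  obtain ⟨b, hb, -, hmeet⟩ := exists_cochar C hdiag hrK hG hT hB (bcMap K t)
    (by rw [← Functor.map_comp, ht])
  obtain ⟨Ba, _, iBa, hBam, hBac, hBas, -, hBa⟩ := exists_attr r hdiag b
  haveI := hBac
  haveI := hBas
  have hfac := fac_iff_blk (iB := iB) hrK hBa hb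
  refine ⟨b, hfac, fun X x hx hx' => ?_⟩
  haveI : IsAffine B.left := isAffine_of_isAffineHom iB.left
  haveI : IsClosedImmersion (iB ≫ r).left := by rw [Over.comp_left]; infer_instance
  haveI : Mono iB := Over.mono_of_mono_left iB
  haveI : IsMonHom t := BorelFix21.isMonHom_of_comp iB t (ht.symm ▸ ‹IsMonHom iT›)
  obtain ⟨D, _, iD, -, hDc, hDs, hDa, hD⟩ := exists_attr (iB ≫ r) (C := C) (iT := t) (a := a)
    (fun Y y => by
      rw [← Category.assoc, Category.assoc y t iB, ht]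
      exact hdiag Y y) (-b)
  haveI := hDc
  haveI := hDs
  haveI := hDa
  obtain ⟨g, hg⟩ := exists_lift_of_Kpts (K := K) iT (iD ≫ iB) fun z => by
    have h1 : Blk (wt a b) (mat ((z ≫ iD ≫ iB) ≫ r)) := (hfac _ _).1 ⟨z ≫ iD, Category.assoc _ _ _⟩
    have h2 : Blk (wt a (-b)) (mat ((z ≫ iD ≫ iB) ≫ r)) := by
      simpa only [Category.assoc] using (hD _ _).1 ⟨z, rfl⟩
    obtain ⟨τ, hτ⟩ := hmeet _ ((blk_iff_mem_upPts hrK _ _).1 h1) ((blk_iff_mem_upPts hrK _ _).1 h2)
    obtain ⟨v, rfl⟩ := exists_toK τ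
    exact ⟨v, toK_injective (by rw [toK_comp, hτ])⟩
  obtain ⟨y, rfl⟩ := (hfac _ _).2 hx
  obtain ⟨l, rfl⟩ := (hD _ _).2 (by simpa only [Category.assoc] using hx')
  exact ⟨l ≫ g, by rw [Category.assoc, hg, Category.assoc]⟩

variable {G : Over (Spec (CommRingCat.of k))} [GrpObj G] (D : Red.SplitRed G)

/-- A diagonalised representation of a split reductive group. -/
theorem exists_split_rep : ∃ (_ : IsMonHom D.i) (_ : IsClosedImmersion D.i.left) (_ : IsAffine G.left)
    (_ : Smooth G.hom) (n : ℕ) (r : G ⟶ GLs k n) (_ : IsMonHom r) (_ : IsClosedImmersion r.left)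
    (a : Fin n → Fin (Module.finrank ℤ D.M) → ℤ),
    ∀ (X : Over (Spec (CommRingCat.of k))) (x : X ⟶ D.T),
      mat ((x ≫ D.i) ≫ r) = Matrix.diagonal fun j => (splitChars D).ch x (Multiplicative.ofAdd (a j)) := by
  haveI := D.maximalTorus.1
  haveI := D.maximalTorus.2.1
  obtain ⟨hGa, hGs, -⟩ := props_of_isReductive D.reductive
  haveI := hGa
  haveI := hGs
  haveI : IsClosedImmersion D.i.left := MTRigid29.isClosedImmersion_of_mono
    (isMultTypeFT_of_isTorus D.maximalTorus.2.2.1) D.reductive.1 D.i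
  obtain ⟨n, r, hr, hrc, a, hdiag⟩ := exists_diagRep (splitChars D) D.i
  exact ⟨inferInstance, inferInstance, hGa, hGs, n, r, hr, hrc, a, hdiag⟩

set_option maxHeartbeats 800000 in
/-- The structure attached to a Borel subgroup and its unipotent radical in a fixed representation. -/
theorem exists_radical_data [IsMonHom D.i] [IsClosedImmersion D.i.left] [IsAffine G.left] [Smooth G.hom] {n : ℕ}
    {r : G ⟶ GLs k n} [IsMonHom r] [IsClosedImmersion r.left] {a : Fin n → Fin (Module.finrank ℤ D.M) → ℤ}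
    (hdiag : ∀ (X : Over (Spec (CommRingCat.of k))) (x : X ⟶ D.T),
      mat ((x ≫ D.i) ≫ r) = Matrix.diagonal fun j => (splitChars D).ch x (Multiplicative.ofAdd (a j)))
    {B : Over (Spec (CommRingCat.of k))} [GrpObj B] {iB : B ⟶ G} (hB : Red.IsBorel iB) (t : D.T ⟶ B)
    (ht : t ≫ iB = D.i) :
    ∃ b, (∀ (X : Over (Spec (CommRingCat.of k))) (x : X ⟶ G), (∃ y, y ≫ iB = x) ↔ Blk (wt a b) (mat (x ≫ r))) ∧
      (∀ (X : Over (Spec (CommRingCat.of k))) (x : X ⟶ G), Blk (wt a b) (mat (x ≫ r)) →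
        Blk (wt a (-b)) (mat (x ≫ r)) → ∃ τ : X ⟶ D.T, τ ≫ D.i = x) ∧
      (∀ c : D.idx, pairing ((rootGroups D).e c) b ≠ 0) ∧
      Nonempty (UnipData r a b (rootGroups D)) ∧
      ∀ (U : Over (Spec (CommRingCat.of k))) [GrpObj U] (uB : U ⟶ B), Par.IsUnipotentRadical uB →
        ∀ (X : Over (Spec (CommRingCat.of k))) (x : X ⟶ G),
          (∃ y, y ≫ uB ≫ iB = x) ↔ Unp (wt a b) (mat (x ≫ r)) := by
  haveI : Mono D.i := Over.mono_of_mono_left _
  haveI := hB.1
  haveI := hB.2.1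
  haveI := hB.2.2.1
  let s : ↥(Spec (CommRingCat.of k)) := IsLocalRing.closedPoint k
  obtain ⟨φ, hφ⟩ := Spec.map_surjective (Red.geomPt s)
  letI : Algebra k (AlgebraicClosure ((Spec (CommRingCat.of k)).residueField s)) := φ.hom.toAlgebra
  have hq : ext' (k := k) (AlgebraicClosure ((Spec (CommRingCat.of k)).residueField s)) = Red.geomPt s := hφ
  obtain ⟨b, hfac, hmeet⟩ :=
    exists_cochar_data (K := AlgebraicClosure ((Spec (CommRingCat.of k)).residueField s)) (splitChars D) D.i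
      ((show ∀ q', q' = Red.geomPt s → Red.IsReductiveOver (AlgebraicClosure ((Spec (CommRingCat.of k)).residueField s))
        (Red.bc q' G) from fun q' h => by subst h; exact D.reductive.2.2 s) _ hq)
      (FinBorel21.isMaxTorus_congr hq.symm (isMaxTorus_geomFibre D.maximalTorus s)) r a hdiag
      (FinBorel21.isBorelOver_congr hq.symm (hB.2.2.2 s)) t ht
  obtain ⟨V⟩ := exists_unipData hdiag (rootGroups D) b hmeet (dim_eq_of_split D)
  exact ⟨b, hfac, hmeet, pairing_root_ne_zero hdiag (rootGroups D) b hmeet, ⟨V⟩,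
    fun U _ uB hU X x => fac_iff_unp D hB hU hdiag hfac hmeet V X x⟩

end Groth.Agent.AttrBorel21
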