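import Groth.Agent.Lib.AttrBorel21.Weight
import Groth.Prelude.Def_RedSub

/-!
# Powers of the additive group as affine spaces
-/

set_option autoImplicit false
set_option linter.style.haveILetI false
set_option backward.isDefEq.respectTransparency.types false
universe u

open CategoryTheory Limits MonoidalCategory CartesianMonoidalCategory MonObj AlgebraicGeometry

noncomputable section

namespace Groth.Agent.AttrBorel21

open InvRing21 DiagGL

attribute [local instance] InvRing21.gamAlg

section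

variable {S : Scheme.{u}} {X Y : Over S}

/-- The point of a power of the additive group with given coordinates. -/
def powPt : (m : ℕ) → (Fin m → Γ(X.left, ⊤)) → (X ⟶ RedSub.pow (Red.Ga S) m)
  | 0, _ => toUnit X
  | m + 1, f => lift (GaPts.ptOfFn (f 0)) (powPt m fun i => f i.succ)

/-- The coordinates of a point of a power of the additive group. -/
def powFn : (m : ℕ) → (X ⟶ RedSub.pow (Red.Ga S) m) → Fin m → Γ(X.left, ⊤)
  | 0, _ => Fin.elim0
  | m + 1, x => Fin.cases (Red.gaFn (x ≫ fst _ _)) (powFn m (x ≫ snd _ _))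

theorem powFn_powPt : ∀ (m : ℕ) (f : Fin m → Γ(X.left, ⊤)), powFn (S := S) (X := X) m (powPt m f) = f
  | 0, _ => funext fun i => i.elim0
  | m + 1, f => funext fun i => by
    cases i using Fin.cases with
    | zero => exact (congrArg Red.gaFn (lift_fst _ _)).trans (GaPts.gaFn_ptOfFn _)
    | succ i =>
      refine (congrFun (congrArg (powFn m) (lift_snd _ _)) i).trans ?_
      exact congrFun (powFn_powPt m _) i

theorem powPt_powFn : ∀ (m : ℕ) (x : X ⟶ RedSub.pow (Red.Ga S) m), powPt m (powFn m x) = x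
  | 0, x => toUnit_unique _ _
  | m + 1, x => by
    refine CartesianMonoidalCategory.hom_ext _ _ ?_ ?_
    · exact (lift_fst _ _).trans (GaPts.gaFn_injective (GaPts.gaFn_ptOfFn _))
    · refine (lift_snd _ _).trans ?_
      exact powPt_powFn m (x ≫ snd _ _)

theorem powFn_comp : ∀ (m : ℕ) (g : Y ⟶ X) (x : X ⟶ RedSub.pow (Red.Ga S) m),
    powFn m (g ≫ x) = fun i => g.left.appTop (powFn m x i)
  | 0, _, _ => funext fun i => i.elim0
  | m + 1, g, x => funext fun i => by
    cases i using Fin.cases with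
    | zero => exact (congrArg Red.gaFn (Category.assoc _ _ _)).trans (GaPts.gaFn_comp g _)
    | succ i =>
      refine (congrFun (congrArg (powFn m) (Category.assoc g x (snd _ _))) i).trans ?_
      exact congrFun (powFn_comp m g _) i

theorem powPt_comp (m : ℕ) (g : Y ⟶ X) (f : Fin m → Γ(X.left, ⊤)) :
    g ≫ powPt (S := S) m f = powPt m fun i => g.left.appTop (f i) := by
  rw [← powPt_powFn m (g ≫ powPt m f), powFn_comp, powFn_powPt]

variable {G : Over S} [GrpObj G]

theorem prodMap_zero (x : X ⟶ RedSub.pow (Red.Ga S) 0) (f : Fin 0 → (Red.Ga S ⟶ G)) :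
    x ≫ RedSub.prodMap (Red.Ga S) 0 f = 1 := MonObj.comp_one x

theorem powPt_prodMap (m : ℕ) (v : Fin (m + 1) → Γ(X.left, ⊤)) (f : Fin (m + 1) → (Red.Ga S ⟶ G)) :
    powPt (m + 1) v ≫ RedSub.prodMap (Red.Ga S) (m + 1) f =
      (GaPts.ptOfFn (v 0) ≫ f 0) *
        (powPt m (fun i => v i.succ) ≫ RedSub.prodMap (Red.Ga S) m fun i => f i.succ) := by
  show lift _ _ ≫ ((fst _ _ ≫ f 0) * (snd _ _ ≫ _)) = _
  rw [MonObj.comp_mul, lift_fst_assoc, lift_snd_assoc]

/-- A product of points of a subfunctor closed under multiplication lies in it. -/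
theorem prodMap_factors {H : Over S} (j : H ⟶ G)
    (hone : ∀ X : Over S, ∃ e : X ⟶ H, e ≫ j = 1)
    (hmul : ∀ (X : Over S) (x y : X ⟶ H), ∃ z : X ⟶ H, z ≫ j = (x ≫ j) * (y ≫ j)) :
    ∀ (m : ℕ) (f : Fin m → (Red.Ga S ⟶ G)), (∀ i, ∃ v, v ≫ j = f i) →
      ∃ w, w ≫ j = RedSub.prodMap (Red.Ga S) m f
  | 0, _, _ => hone _
  | m + 1, f, hf => by
    obtain ⟨v, hv⟩ := hf 0
    obtain ⟨w, hw⟩ := prodMap_factors j hone hmul m (fun i => f i.succ) fun i => hf i.succ
    obtain ⟨z, hz⟩ := hmul _ (fst (Red.Ga S) (RedSub.pow (Red.Ga S) m) ≫ v) (snd _ _ ≫ w)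
    exact ⟨z, hz.trans (by simp only [Category.assoc, hv, hw]; rfl)⟩

end

variable {k : Type u} [Field k]

/-- The universal point of a power of the additive group. -/
def powX (m : ℕ) : VecGrp.pt k (MvPolynomial (Fin m) k) ⟶ RedSub.pow (Red.Ga (Spec (CommRingCat.of k))) m :=
  powPt m fun i => (Scheme.ΓSpecIso (CommRingCat.of (MvPolynomial (Fin m) k))).inv (MvPolynomial.X i)

theorem powX_comp (m : ℕ) {B : Type u} [CommRing B] [Algebra k B] (θ : MvPolynomial (Fin m) k →ₐ[k] B) :
    VecGrp.ptMap θ ≫ powX (k := k) m =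
      powPt m fun i => (Scheme.ΓSpecIso (CommRingCat.of B)).inv (θ (MvPolynomial.X i)) := by
  rw [powX, powPt_comp]
  congr 1
  funext i
  rw [VecGrp.ptMap_left]
  show ((Scheme.ΓSpecIso _).inv ≫ (Spec.map (CommRingCat.ofHom θ.toRingHom)).appTop) _ = _
  rw [← Scheme.ΓSpecIso_inv_naturality]
  rfl

theorem isIso_powX (m : ℕ) : IsIso (powX (k := k) m) := by
  let P := RedSub.pow (Red.Ga (Spec (CommRingCat.of k))) m
  letI := (alg P).toAlgebra
  let θ : MvPolynomial (Fin m) k →ₐ[k] Γ(P.left, ⊤) := MvPolynomial.aeval (powFn m (𝟙 P))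
  let z : P ⟶ VecGrp.pt k (MvPolynomial (Fin m) k) := DiagGL.mk θ.toRingHom fun c => θ.commutes c
  have hev : ∀ i, z.left.appTop ((Scheme.ΓSpecIso (CommRingCat.of (MvPolynomial (Fin m) k))).inv
      (MvPolynomial.X i)) = powFn m (𝟙 P) i := fun i => by
    show ev z (MvPolynomial.X i : MvPolynomial (Fin m) k) = _
    rw [ev_mk]
    exact MvPolynomial.aeval_X _ _
  have h1 : z ≫ powX m = 𝟙 P := by
    rw [powX, powPt_comp]
    exact (congrArg (powPt m) (funext hev)).trans (powPt_powFn m _)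
  refine ⟨z, ?_, h1⟩
  refine ev_injective fun F => ?_
  have h2 : ∀ i, (powX (k := k) m).left.appTop (powFn m (𝟙 P) i) =
      (Scheme.ΓSpecIso (CommRingCat.of (MvPolynomial (Fin m) k))).inv (MvPolynomial.X i) := fun i => by
    have h := congrFun (powFn_comp m (powX (k := k) m) (𝟙 P)) i
    rw [Category.comp_id, powX, powFn_powPt] at h
    exact h.symm
  induction F using MvPolynomial.induction_on with
  | C c =>
    exact (ev_algebraMap _ c).trans (ev_algebraMap (A := MvPolynomial (Fin m) k) (𝟙 _) c).symm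
  | add p q hp hq => rw [map_add, map_add, hp, hq]
  | mul_X p i hp =>
    rw [map_mul, map_mul, hp]
    congr 1
    show (powX (k := k) m ≫ z).left.appTop _ = _
    rw [Over.comp_left, Scheme.Hom.comp_appTop]
    exact ((congrArg ((powX (k := k) m).left.appTop) (hev i)).trans (h2 i)).trans rfl

end Groth.Agent.AttrBorel21
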