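import Groth.Agent.Lib.AttrBorel21.SplitStr
import Groth.Agent.Lib.AttrBorel21.PowGa

/-!
# Smooth subgroups of the unipotent group stable under the torus are products of root groups
-/

set_option autoImplicit false
set_option linter.style.haveILetI false
set_option backward.isDefEq.respectTransparency.types false
universe u

open CategoryTheory Limits MonoidalCategory CartesianMonoidalCategory MonObj AlgebraicGeometry
open scoped LaurentPolynomial Polynomial

noncomputable section

namespace Groth.Agent.AttrBorel21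

open InvRing21 DiagGL TorPts21 BigCell21

attribute [local instance] InvRing21.gamAlg

variable {k : Type u} [Field k] {n d : ℕ}

/-- Matrices of polynomials homogeneous of the weights of the entries. -/
def WMat (a : Fin n → Fin d → ℤ) {σ : Type} (f : σ → Fin d → ℤ)
    (M : Matrix (Fin n) (Fin n) (MvPolynomial σ k)) : Prop :=
  ∀ i j s, MvPolynomial.coeff s (M i j) ≠ 0 → Finsupp.weight f s = a i - a j

theorem wMat_one {a : Fin n → Fin d → ℤ} {σ : Type} (f : σ → Fin d → ℤ) :
    WMat a f (1 : Matrix (Fin n) (Fin n) (MvPolynomial σ k)) := fun i j s hs => by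
  classical
  by_cases e : i = j
  · subst e
    rw [Matrix.one_apply_eq, MvPolynomial.coeff_one] at hs
    have h0 : s = 0 := by
      by_contra h
      exact hs (if_neg fun e => h e.symm)
    rw [h0, map_zero, sub_self]
  · rw [Matrix.one_apply_ne e] at hs
    exact absurd (MvPolynomial.coeff_zero s) hs

theorem WMat.mul {a : Fin n → Fin d → ℤ} {σ : Type} {f : σ → Fin d → ℤ}
    {M N : Matrix (Fin n) (Fin n) (MvPolynomial σ k)} (hM : WMat a f M) (hN : WMat a f N) : WMat a f (M * N) := by
  classical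
  intro i j s hs
  rw [Matrix.mul_apply, MvPolynomial.coeff_sum] at hs
  obtain ⟨l, -, hl⟩ := Finset.exists_ne_zero_of_sum_ne_zero hs
  rw [MvPolynomial.coeff_mul] at hl
  obtain ⟨⟨s₁, s₂⟩, hmem, hne⟩ := Finset.exists_ne_zero_of_sum_ne_zero hl
  rw [← Finset.HasAntidiagonal.mem_antidiagonal.1 hmem, map_add, hM i l s₁ (left_ne_zero_of_mul hne),
    hN l j s₂ (right_ne_zero_of_mul hne), sub_add_sub_cancel]

theorem WMat.rename {a : Fin n → Fin d → ℤ} {σ τ : Type} (g : σ → τ) {f : τ → Fin d → ℤ}
    {M : Matrix (Fin n) (Fin n) (MvPolynomial σ k)} (hM : WMat a (f ∘ g) M) :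
    WMat a f (M.map (MvPolynomial.rename g)) := fun i j s hs => by
  classical
  obtain ⟨s', rfl, hs'⟩ := MvPolynomial.coeff_rename_ne_zero g (M i j) s hs
  rw [← hM i j s' hs', Finsupp.weight_apply, Finsupp.weight_apply,
    Finsupp.sum_mapDomain_index (fun t => zero_smul ℕ (f t)) fun t m m' => add_smul m m' (f t)]
  rfl

theorem exists_of_coeff_aeval_X {σ : Type} (i : σ) (p : k[X]) (s : σ →₀ ℕ)
    (hs : MvPolynomial.coeff s (Polynomial.aeval (MvPolynomial.X i : MvPolynomial σ k) p) ≠ 0) :
    ∃ l, s = Finsupp.single i l ∧ p.coeff l ≠ 0 := by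
  classical
  rw [Polynomial.aeval_eq_sum_range, MvPolynomial.coeff_sum] at hs
  obtain ⟨l, -, hl⟩ := Finset.exists_ne_zero_of_sum_ne_zero hs
  rw [MvPolynomial.coeff_smul, MvPolynomial.coeff_X_pow] at hl
  refine ⟨l, ?_, left_ne_zero_of_mul hl⟩
  by_contra h
  exact right_ne_zero_of_mul hl (if_neg fun e => h e.symm)

/-- The linear coefficient after restriction to an axis. -/
theorem coeff_one_aeval_single {σ : Type} [Fintype σ] [DecidableEq σ] (i : σ) (F : MvPolynomial σ k) :
    (MvPolynomial.aeval (Pi.single i (Polynomial.X : k[X]) : σ → k[X]) F).coeff 1 =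
      MvPolynomial.coeff (Finsupp.single i 1) F := by
  induction F using MvPolynomial.induction_on' with
  | add p q hp hq => rw [map_add, Polynomial.coeff_add, MvPolynomial.coeff_add, hp, hq]
  | monomial s c =>
    rw [MvPolynomial.aeval_monomial, Finsupp.prod_fintype _ _ (fun t => pow_zero _), MvPolynomial.coeff_monomial]
    by_cases hs : ∀ t, t ≠ i → s t = 0
    · rw [Finset.prod_eq_single i (fun t _ ht => by rw [hs t ht, pow_zero]) (by simp), Pi.single_eq_same,
        Polynomial.algebraMap_eq, Polynomial.coeff_C_mul, Polynomial.coeff_X_pow]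
      by_cases h1 : s i = 1
      · rw [if_pos h1.symm, _root_.mul_one, if_pos (Finsupp.ext fun t => by
          by_cases ht : t = i
          · subst ht; simp [h1]
          · simp [hs t ht, Ne.symm ht])]
      · rw [if_neg (Ne.symm h1), mul_zero, if_neg fun e => h1 (by simp [e])]
    · push Not at hs
      obtain ⟨t, ht, hst⟩ := hs
      rw [Finset.prod_eq_zero (Finset.mem_univ t) (by rw [Pi.single_eq_of_ne ht, zero_pow hst]), mul_zero,
        Polynomial.coeff_zero, if_neg fun e => hst (by simp [e, Ne.symm ht])]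

/-- Coefficients of a Laurent rescaling. -/
theorem coeff_coeff_aeval_singles {σ : Type} (w : σ → ℤ) (F : MvPolynomial σ k) (e : ℤ) (s : σ →₀ ℕ) :
    MvPolynomial.coeff s ((MvPolynomial.aeval fun t => (AddMonoidAlgebra.single (w t) (MvPolynomial.X t) :
      (MvPolynomial σ k)[T;T⁻¹])) F |>.coeff e) = if Finsupp.weight w s = e then MvPolynomial.coeff s F else 0 := by
  classical
  induction F using MvPolynomial.induction_on' with
  | add p q hp hq =>
    rw [map_add, AddMonoidAlgebra.coeff_add, Finsupp.add_apply, MvPolynomial.coeff_add, hp, hq, MvPolynomial.coeff_add]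
    split_ifs <;> simp
  | monomial m c =>
    have hprod : ∀ m : σ →₀ ℕ, m.prod (fun t l => (AddMonoidAlgebra.single (w t) (MvPolynomial.X t) :
        (MvPolynomial σ k)[T;T⁻¹]) ^ l) = AddMonoidAlgebra.single (Finsupp.weight w m) (MvPolynomial.monomial m 1) := by
      intro m
      induction m using Finsupp.induction with
      | zero => rw [Finsupp.prod_zero_index, map_zero, MvPolynomial.monomial_zero', map_one]; exact AddMonoidAlgebra.one_def
      | single_add t l m ht hl ih =>
        rw [Finsupp.prod_add_index' (fun t => pow_zero _) (fun t a b => pow_add _ a b),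
          Finsupp.prod_single_index (h := fun t l => (AddMonoidAlgebra.single (w t) (MvPolynomial.X t) :
            (MvPolynomial σ k)[T;T⁻¹]) ^ l) (pow_zero _), ih, AddMonoidAlgebra.single_pow,
          AddMonoidAlgebra.single_mul_single, map_add, Finsupp.weight_single, MvPolynomial.monomial_single_add]
    rw [MvPolynomial.aeval_monomial, hprod, IsScalarTower.algebraMap_apply k (MvPolynomial σ k),
      show algebraMap (MvPolynomial σ k) (MvPolynomial σ k)[T;T⁻¹] (algebraMap k (MvPolynomial σ k) c) =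
        AddMonoidAlgebra.single 0 (MvPolynomial.C c) by simp,
      AddMonoidAlgebra.single_mul_single, zero_add, MvPolynomial.C_mul_monomial, _root_.mul_one,
      AddMonoidAlgebra.coeff_single, MvPolynomial.coeff_monomial]
    by_cases hm : Finsupp.weight w m = e
    · subst hm
      rw [Finsupp.single_eq_same, MvPolynomial.coeff_monomial]
      by_cases hms : m = s
      · subst hms; simp
      · simp [hms]
    · rw [Finsupp.single_eq_of_ne (Ne.symm hm), MvPolynomial.coeff_zero]
      by_cases hms : m = s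
      · subst hms; simp [hm]
      · simp [hms]

variable {G T H : Over (Spec (CommRingCat.of k))} [GrpObj G] [GrpObj T] [IsAffine G.left] {r : G ⟶ GLs k n}
  [IsMonHom r] [IsClosedImmersion r.left] {C : Chars (Fin d → ℤ) T} {iT : T ⟶ G} [IsMonHom iT]
  {a : Fin n → Fin d → ℤ}
  (hdiag : ∀ (X : Over (Spec (CommRingCat.of k))) (x : X ⟶ T),
    mat ((x ≫ iT) ≫ r) = Matrix.diagonal fun j => C.ch x (Multiplicative.ofAdd (a j)))

omit [IsAffine G.left] [IsClosedImmersion r.left] in
include hdiag in
/-- The grading of the functions on a stable subscheme. -/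
theorem exists_scale [IsAffine H.left] (b : Fin d → ℤ) (j : H ⟶ G) (hst : TStab iT j) :
    ∃ Φ : Γ(H.left, ⊤) →ₐ[k] (Γ(H.left, ⊤) : Type u)[T;T⁻¹], ∀ q : Fin n × Fin n,
      Φ (ent r j q) = AddMonoidAlgebra.single (wt a b q.1 - wt a b q.2) (ent r j q) := by
  let A : Type u := Γ(H.left, ⊤)
  obtain ⟨τ, hτ⟩ := exists_lam C b A
  let incl : A →ₐ[k] A[T;T⁻¹] := IsScalarTower.toAlgHom k A A[T;T⁻¹]
  let up : VecGrp.pt k A[T;T⁻¹] ⟶ H := VecGrp.ptMap incl ≫ uPt H
  have hincl : ∀ F : A, incl F = AddMonoidAlgebra.single 0 F := fun F => by simp [incl]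
  obtain ⟨h', hh'⟩ := hst _ τ up
  refine ⟨val h', fun q => ?_⟩
  have hpos : pmat r (τ ≫ iT) = Matrix.diagonal fun j => AddMonoidAlgebra.single (wt a b j) 1 := by
    rw [pmat, hdiag, Matrix.diagonal_map (map_zero _)]
    congr 1
    funext j
    exact (hτ (a j)).1
  have hneg : pmat r (τ ≫ iT)⁻¹ = Matrix.diagonal fun j => AddMonoidAlgebra.single (-wt a b j) 1 := by
    rw [pmat, show (τ ≫ iT)⁻¹ = τ⁻¹ ≫ iT from (GrpObj.inv_comp _ _).symm, hdiag, Matrix.diagonal_map (map_zero _)]
    congr 1
    funext j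
    exact (hτ (a j)).2
  rw [val_ent, hh', pmat_mul, pmat_mul, hpos, hneg, Matrix.mul_diagonal, Matrix.diagonal_mul, ← val_ent]
  show _ * val (VecGrp.ptMap incl ≫ uPt H) _ * _ = _
  rw [val_ptMap, val_uPt, AlgHom.comp_id, hincl, AddMonoidAlgebra.single_mul_single,
    AddMonoidAlgebra.single_mul_single, _root_.one_mul, _root_.mul_one, add_zero, ← sub_eq_add_neg]

omit [IsAffine G.left] [IsClosedImmersion r.left] in
include hdiag in
/-- Entries are homogeneous in entry coordinates. -/
theorem wMat_coords [IsAffine H.left] (j : H ⟶ G) (hst : TStab iT j) {κ : Type} (p : κ → Fin n × Fin n)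
    (f : κ → Fin d → ℤ) (hf : ∀ t, a (p t).1 - a (p t).2 = f t)
    (θ : MvPolynomial κ k ≃ₐ[k] Γ(H.left, ⊤)) (hθ : ∀ t, θ (MvPolynomial.X t) = ent r j (p t)) :
    WMat a f ((mat (j ≫ r)).map θ.symm.toAlgHom) := by
  intro i l s hs
  funext z
  obtain ⟨Φ, hΦ⟩ := exists_scale hdiag (Pi.single z 1) j hst
  let Φ' : MvPolynomial κ k →ₐ[k] (MvPolynomial κ k)[T;T⁻¹] :=
    (AddMonoidAlgebra.mapAlgHom ℤ θ.symm.toAlgHom).comp (Φ.comp θ.toAlgHom)
  let w : κ → ℤ := fun t => f t z
  have hwt : ∀ q, wt a (Pi.single z 1) q = a q z := fun q => by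
    simp [wt, pairing, Pi.single_apply]
  have hΦ' : Φ' = MvPolynomial.aeval fun t => AddMonoidAlgebra.single (w t) (MvPolynomial.X t) :=
    MvPolynomial.algHom_ext fun t => by
      show AddMonoidAlgebra.mapAlgHom ℤ θ.symm.toAlgHom (Φ (θ (MvPolynomial.X t))) = _
      rw [hθ, hΦ, AddMonoidAlgebra.mapAlgHom_single, MvPolynomial.aeval_X, ← hθ]
      show AddMonoidAlgebra.single _ (θ.symm (θ _)) = _
      rw [AlgEquiv.symm_apply_apply, hwt, hwt, show w t = f t z from rfl, ← hf]
      rfl
  have h1 : Φ' (θ.symm (mat (j ≫ r) i l)) =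
      AddMonoidAlgebra.single (a i z - a l z) (θ.symm (mat (j ≫ r) i l)) := by
    show AddMonoidAlgebra.mapAlgHom ℤ θ.symm.toAlgHom (Φ (θ (θ.symm _))) = _
    rw [AlgEquiv.apply_symm_apply, show mat (j ≫ r) i l = ent r j (i, l) from rfl, hΦ,
      AddMonoidAlgebra.mapAlgHom_single, hwt, hwt]
    rfl
  have h2 := congrArg (fun F : (MvPolynomial κ k)[T;T⁻¹] => MvPolynomial.coeff s (F.coeff (a i z - a l z))) h1
  rw [hΦ', AddMonoidAlgebra.coeff_single, Finsupp.single_eq_same] at h2
  change MvPolynomial.coeff s ((MvPolynomial.aeval _ _ : (MvPolynomial κ k)[T;T⁻¹]).coeff _) = _ at h2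
  rw [coeff_coeff_aeval_singles] at h2
  split_ifs at h2 with he
  · rw [Pi.sub_apply, ← he, Finsupp.weight_apply, Finsupp.weight_apply, Finsupp.sum, Finsupp.sum, Finset.sum_apply]
    rfl
  · exact absurd h2.symm hs

variable {J : Type} (R : RootGroups G iT C J)

omit [IsAffine G.left] [IsClosedImmersion r.left] in
/-- The product of root groups at the universal point. -/
theorem pmat_prod_succ (m : ℕ) (e : Fin (m + 1) → J) :
    pmat r (powX (m + 1) ≫ RedSub.prodMap _ (m + 1) fun i => R.u (e i)) =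
      (pmat r (gaX ≫ R.u (e 0))).map (Polynomial.aeval (MvPolynomial.X 0 : MvPolynomial (Fin (m + 1)) k)) *
        (pmat r (powX m ≫ RedSub.prodMap _ m fun i => R.u (e i.succ))).map (MvPolynomial.rename Fin.succ) := by
  rw [powX, powPt_prodMap, pmat_mul]
  congr 1
  · rw [← pmat_comp_ptMap, ← Category.assoc]
    congr 2
    refine GaPts.gaFn_injective (InvRing21.ptHom_injective _ ?_)
    show ptHom _ (Red.gaFn (GaPts.ptOfFn _)) = ptHom _ (Red.gaFn _)
    rw [GaPts.gaFn_ptOfFn, ptHom_gaFn_gaX, Polynomial.aeval_X]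
    exact ConcreteCategory.congr_hom (Scheme.ΓSpecIso _).inv_hom_id _
  · rw [← pmat_comp_ptMap, ← Category.assoc, powX_comp]
    simp only [MvPolynomial.rename_X]

omit [IsAffine G.left] [IsClosedImmersion r.left] in
include hdiag in
/-- The universal product of root groups is homogeneous. -/
theorem wMat_prod : ∀ (m : ℕ) (e : Fin m → J),
    WMat a (fun i => R.e (e i)) (pmat r (powX m ≫ RedSub.prodMap _ m fun i => R.u (e i)))
  | 0, e => by
    rw [prodMap_zero, pmat_one]
    exact wMat_one _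
  | m + 1, e => by
    rw [pmat_prod_succ]
    refine WMat.mul (fun i j s hs => ?_) (WMat.rename Fin.succ (wMat_prod m fun i => e i.succ))
    haveI := R.isMonHom (e 0)
    obtain ⟨l, rfl, hl⟩ := exists_of_coeff_aeval_X _ _ _ hs
    rw [Finsupp.weight_single, ← natCast_zsmul, smul_eq_of_coeff_ne_zero hdiag _ (R.conj (e 0)) i j l hl]

omit [IsMonHom r] [IsClosedImmersion r.left] [IsAffine G.left] in
/-- On a coordinate axis the product is one root group. -/
theorem powPt_prodMap_single {X : Over (Spec (CommRingCat.of k))} : ∀ (m : ℕ) (v : Fin m → Γ(X.left, ⊤))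
    (e : Fin m → J), ((∀ j, v j = 0) → powPt m v ≫ RedSub.prodMap _ m (fun i => R.u (e i)) = 1) ∧
      ∀ i, (∀ j, j ≠ i → v j = 0) →
        powPt m v ≫ RedSub.prodMap _ m (fun i => R.u (e i)) = GaPts.ptOfFn (v i) ≫ R.u (e i)
  | 0, v, e => ⟨fun _ => prodMap_zero _ _, fun i => i.elim0⟩
  | m + 1, v, e => by
    haveI := R.isMonHom (e 0)
    obtain ⟨hz, hi⟩ := powPt_prodMap_single m (fun i => v i.succ) fun i => e i.succ
    refine ⟨fun h => ?_, fun i h => ?_⟩
    · rw [powPt_prodMap, hz fun j => h _, h 0, GaPts.ptOfFn_zero, MonObj.one_comp, _root_.mul_one]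
    · rw [powPt_prodMap]
      cases i using Fin.cases with
      | zero => rw [hz fun j => h _ (Fin.succ_ne_zero j), _root_.mul_one]
      | succ i =>
        rw [hi i fun j hj => h _ fun e => hj (Fin.succ_injective _ e), h 0 (Fin.succ_ne_zero i).symm,
          GaPts.ptOfFn_zero, MonObj.one_comp, _root_.one_mul]

variable [Fintype J]

include hdiag in
set_option maxHeartbeats 1600000 in
/-- **Smooth subgroups of the unipotent group stable under the torus are products of the root groups in them.** -/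
theorem prod_rootGroups {b : Fin d → ℤ} (V : UnipData r a b R)
    (hred : ∀ c c' (l : ℕ), (l : ℤ) • R.e c = R.e c' → c = c' ∧ l = 1)
    (iH : H ⟶ G) [IsClosedImmersion iH.left] [Smooth H.hom]
    (hone : ∀ X : Over (Spec (CommRingCat.of k)), ∃ e : X ⟶ H, e ≫ iH = 1)
    (hmul : ∀ (X : Over (Spec (CommRingCat.of k))) (x y : X ⟶ H), ∃ z : X ⟶ H, z ≫ iH = (x ≫ iH) * (y ≫ iH))
    (hU : Unp (wt a b) (mat (iH ≫ r))) (hst : TStab iT iH) :
    ConnectedSpace H.left ∧ ∀ (m : ℕ) (e : Fin m → J),
      RedSub.Enumerates {c : J | ∃ v : Red.Ga (Spec (CommRingCat.of k)) ⟶ H, v ≫ iH = R.u c} e →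
        ∃ ψ : RedSub.pow (Red.Ga (Spec (CommRingCat.of k))) m ≅ H,
          ψ.hom ≫ iH = RedSub.prodMap (Red.Ga (Spec (CommRingCat.of k))) m (fun i => R.u (e i)) := by
  classical
  haveI : IsAffine H.left := isAffine_of_isAffineHom iH.left
  letI := V.grpU
  haveI := V.closed
  haveI : IsAffine V.U.left := isAffine_of_isAffineHom V.iU.left
  haveI : Mono iH := Over.mono_of_mono_left _
  obtain ⟨jH, hjH⟩ := (V.fac _ iH).2 hU
  haveI : IsClosedImmersion jH.left := by
    haveI : IsClosedImmersion (jH.left ≫ V.iU.left) := by rw [← Over.comp_left, hjH]; infer_instance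
    exact IsClosedImmersion.of_comp jH.left V.iU.left
  have hres : ∀ q, InvRing21.appAlg jH (ent r V.iU q) = ent r iH q := fun q => by
    show jH.left.appTop (mat (V.iU ≫ r) q.1 q.2) = mat (iH ≫ r) q.1 q.2
    rw [← hjH, Category.assoc, mat_comp _ (V.iU ≫ r)]
    rfl
  have hgen : Algebra.adjoin k (Set.range fun c : Pos R b => ent r iH (V.p c)) = ⊤ := by
    rw [eq_top_iff]
    rintro F -
    obtain ⟨F', rfl⟩ := (IsClosedImmersion.isAffine_surjective_of_isAffine jH.left).2 F
    obtain ⟨P, rfl⟩ := V.bij.2 F'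
    show InvRing21.appAlg jH (MvPolynomial.aeval _ P) ∈ _
    rw [← AlgHom.comp_apply, MvPolynomial.comp_aeval, Algebra.adjoin_range_eq_range_aeval]
    exact ⟨P, by simp only [hres]; rfl⟩
  have hpos : ∀ c : Pos R b, wt a b (V.p c).2 < wt a b (V.p c).1 := fun c => by
    have h : 0 < pairing (a (V.p c).1 - a (V.p c).2) b := by rw [V.weight]; exact c.2
    simp only [pairing, Pi.sub_apply, sub_mul, Finset.sum_sub_distrib] at h
    simpa [wt, pairing] using sub_pos.1 h
  obtain ⟨e₁, he₁⟩ := hone (VecGrp.pt k k)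
  obtain ⟨κ, _, c, hc, hbij⟩ := exists_entry_coords_of_gen hdiag b iH e₁ he₁ hst V.p hpos hgen
  let θ : MvPolynomial κ k ≃ₐ[k] Γ(H.left, ⊤) := AlgEquiv.ofBijective _ hbij
  have hθ : ∀ t, θ (MvPolynomial.X t) = ent r iH (V.p (c t)) := fun t => MvPolynomial.aeval_X _ _
  have hW : WMat a (fun t => R.e (c t).1) ((mat (iH ≫ r)).map θ.symm.toAlgHom) :=
    wMat_coords hdiag iH hst _ _ (fun t => V.weight (c t)) θ hθ
  have hne : ∀ c' : Pos R b, (V.p c').1 ≠ (V.p c').2 := fun c' h => (hpos c').ne' (congrArg _ h)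
  have hroot : ∀ (c' : Pos R b) (q : Pos R b) (l : ℕ),
      (pmat r (gaX ≫ R.u c'.1) (V.p q).1 (V.p q).2).coeff l ≠ 0 → q = c' ∧ l = 1 := fun c' q l hl => by
    haveI := R.isMonHom c'.1
    have h := smul_eq_of_coeff_ne_zero hdiag _ (R.conj c'.1) _ _ l hl
    rw [V.weight] at h
    obtain ⟨h1, h2⟩ := hred _ _ l h
    exact ⟨Subtype.ext h1.symm, h2⟩
  have hval : ∀ {B : Type u} [CommRing B] [Algebra k B] (x y : VecGrp.pt k B ⟶ V.U),
      (∀ q, pmat r (x ≫ V.iU) (V.p q).1 (V.p q).2 = pmat r (y ≫ V.iU) (V.p q).1 (V.p q).2) → x = y := by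
    intro B _ _ x y h
    rw [← ptMap_val x, ← ptMap_val y]
    congr 2
    refine AlgHom.ext fun F => ?_
    obtain ⟨P, rfl⟩ := V.bij.2 F
    rw [← AlgHom.comp_apply, ← AlgHom.comp_apply, MvPolynomial.comp_aeval, MvPolynomial.comp_aeval]
    congr 2
    funext q
    rw [val_ent, val_ent, h q]
  -- the root groups of the coordinates lie in the subgroup
  have hmem : ∀ t, ∃ v, v ≫ iH = R.u (c t).1 := fun t => by
    haveI := R.isMonHom (c t).1
    let L : k := (pmat r (gaX ≫ R.u (c t).1) (V.p (c t)).1 (V.p (c t)).2).coeff 1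
    let η₀ : MvPolynomial κ k →ₐ[k] k[X] := MvPolynomial.aeval (Pi.single t (Polynomial.C L * Polynomial.X))
    let z : VecGrp.pt k k[X] ⟶ H := VecGrp.ptMap (η₀.comp θ.symm.toAlgHom) ≫ uPt H
    have hz : ∀ q, pmat r (z ≫ iH) q.1 q.2 = η₀ (θ.symm (ent r iH q)) := fun q => by
      rw [← val_ent, val_ptMap, val_uPt, AlgHom.comp_id]
      rfl
    obtain ⟨w, hw⟩ := (V.fac _ _).2 (unp_root hdiag _ (R.conj (c t).1) b (c t).2)
    have heq : gaX ≫ w = z ≫ jH := hval _ _ fun q => by
      rw [Category.assoc, hw, Category.assoc, hjH, hz]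
      by_cases hq : q = c t
      · subst hq
        rw [show θ.symm (ent r iH (V.p (c t))) = MvPolynomial.X t by rw [← hθ, AlgEquiv.symm_apply_apply],
          MvPolynomial.aeval_X, Pi.single_eq_same]
        refine Polynomial.ext fun l => ?_
        rw [Polynomial.coeff_C_mul, Polynomial.coeff_X]
        by_cases hl : l = 1
        · subst hl; simp [L]
        · rw [if_neg (Ne.symm hl), mul_zero]
          by_contra h
          exact hl (hroot _ _ l h).2
      · have hL : pmat r (gaX ≫ R.u (c t).1) (V.p q).1 (V.p q).2 = 0 := Polynomial.ext fun l => by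
          rw [Polynomial.coeff_zero]
          by_contra h
          exact hq (hroot _ _ l h).1
        rw [hL, MvPolynomial.as_sum (θ.symm (ent r iH (V.p q))), map_sum]
        symm
        refine Finset.sum_eq_zero fun s hs => ?_
        rw [MvPolynomial.aeval_monomial, Finsupp.prod_fintype _ _ (fun t => pow_zero _)]
        refine mul_eq_zero_of_right _ ?_
        by_contra hp
        have hsupp : ∀ t', t' ≠ t → s t' = 0 := fun t' ht' => by
          by_contra hne'
          exact hp (Finset.prod_eq_zero (Finset.mem_univ t') (by rw [Pi.single_eq_of_ne ht', zero_pow hne']))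
        have hs' : s = Finsupp.single t (s t) := Finsupp.ext fun t' => by
          by_cases ht' : t' = t
          · subst ht'; simp
          · simp [hsupp t' ht', Ne.symm ht']
        have h := hW _ _ s (show MvPolynomial.coeff s (((mat (iH ≫ r)).map θ.symm.toAlgHom) (V.p q).1 (V.p q).2) ≠ 0
          from MvPolynomial.mem_support_iff.1 hs)
        rw [hs', Finsupp.weight_single, V.weight, ← natCast_zsmul] at h
        exact hq (Subtype.ext (hred _ _ _ h).1.symm)
    obtain ⟨sec, hsec⟩ := exists_gaX_section (k := k)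
    refine ⟨sec ≫ z, ?_⟩
    rw [Category.assoc, ← hjH, ← Category.assoc z, ← heq, Category.assoc, hw, ← Category.assoc, hsec,
      Category.id_comp]
  have hconv : ∀ c₀, (∃ v : Red.Ga (Spec (CommRingCat.of k)) ⟶ H, v ≫ iH = R.u c₀) → ∃ t, (c t).1 = c₀ := by
    rintro c₀ ⟨v, hv⟩
    haveI := R.isMonHom c₀
    by_contra! hnot
    have hb₀ : 0 < pairing (R.e c₀) b := by
      have hu : Unp (wt a b) (mat (R.u c₀ ≫ r)) := by
        rw [← hv, Category.assoc, mat_comp]; exact hU.map _
      haveI := R.closed c₀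
      obtain ⟨w, hw⟩ := (V.fac _ _).2 hu
      obtain ⟨q, hq, -⟩ := exists_coord_of_root hdiag _ (R.conj c₀) V.iU w hw V.p
        (fun q h => (hpos q).ne' (congrArg (fun g => pairing g b) h)) V.bij.2
      rw [← hq, V.weight]
      exact q.2
    refine V.linear ⟨c₀, hb₀⟩ ?_
    have hval' : val (gaX ≫ v) = (Algebra.ofId k k[X]).comp (val e₁) := by
      refine (AlgHom.cancel_right (f := θ.toAlgHom) θ.surjective).1 (MvPolynomial.algHom_ext fun t => ?_)
      show val (gaX ≫ v) (θ (MvPolynomial.X t)) = algebraMap k k[X] (val e₁ (θ (MvPolynomial.X t)))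
      rw [hθ, val_ent, val_ent, Category.assoc, hv, he₁, pmat_one, Matrix.one_apply_ne (hne (c t)), map_zero]
      refine Polynomial.ext fun l => ?_
      rw [Polynomial.coeff_zero]
      by_contra h
      exact hnot t (congrArg Subtype.val (hroot ⟨c₀, hb₀⟩ _ l h).1)
    rw [← hv, ← Category.assoc, ← val_ent r iH (gaX ≫ v), hval', AlgHom.comp_apply, val_ent, he₁, pmat_one,
      Matrix.one_apply_ne (hne _), map_zero, Polynomial.coeff_zero]
  refine ⟨?_, fun m e he => ?_⟩
  · let A : CommRingCat.{u} := CommRingCat.of Γ(H.left, ⊤)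
    haveI : IsDomain A := (MulEquiv.isDomain_iff θ.symm.toMulEquiv).2 inferInstance
    haveI : IrreducibleSpace ↥(Spec A) := PrimeSpectrum.irreducibleSpace
    exact ((Scheme.homeoOfIso H.left.isoSpec).connectedSpace_iff).2 inferInstance
  obtain ⟨einj, erange⟩ := he
  have heS : ∀ i, ∃ v, v ≫ iH = R.u (e i) := fun i => by
    have : e i ∈ {c : J | ∃ v : Red.Ga (Spec (CommRingCat.of k)) ⟶ H, v ≫ iH = R.u c} := erange ▸ ⟨i, rfl⟩
    exact this
  obtain ⟨ψ, hψ⟩ := prodMap_factors iH hone hmul m (fun i => R.u (e i)) heS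
  have hrange : ∀ t, ∃ i, e i = (c t).1 := fun t => by
    have : (c t).1 ∈ Set.range e := erange.symm ▸ hmem t
    exact this
  choose ι' hι' using hrange
  have hι'bij : Function.Bijective ι' := by
    refine ⟨fun t t' h => hc (Subtype.ext (by rw [← hι', ← hι', h])), fun i => ?_⟩
    obtain ⟨t, ht⟩ := hconv _ (heS i)
    exact ⟨t, einj ((hι' t).trans ht)⟩
  have hpe : ∀ i, 0 < pairing (R.e (e i)) b := fun i => by
    obtain ⟨t, rfl⟩ := hι'bij.2 i
    rw [hι']; exact (c t).2
  let φ : MvPolynomial κ k →ₐ[k] MvPolynomial (Fin m) k := (val (powX m ≫ ψ)).comp θ.toAlgHom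
  have hφX : ∀ t, φ (MvPolynomial.X t) =
      pmat r (powX m ≫ RedSub.prodMap _ m fun i => R.u (e i)) (V.p (c t)).1 (V.p (c t)).2 := fun t => by
    show val (powX m ≫ ψ) (θ (MvPolynomial.X t)) = _
    rw [hθ, val_ent, Category.assoc, hψ]
  have hpair : ∀ s : Fin m →₀ ℕ, wdeg (fun i => pairing (R.e (e i)) b) s =
      pairing (Finsupp.weight (fun i => R.e (e i)) s) b := fun s => by
    simp only [wdeg, Finsupp.weight_apply, Finsupp.sum, pairing, Finset.sum_apply, Pi.smul_apply, Finset.sum_mul,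
      Finset.smul_sum, smul_mul_assoc]
    exact Finset.sum_comm
  have hφ : Function.Bijective φ := by
    refine bijective_of_triangular (Equiv.ofBijective ι' hι'bij) (fun i => pairing (R.e (e i)) b) hpe φ
      (fun t s hs => ?_) fun t i => ?_
    · rw [hpair, wMat_prod hdiag R m e _ _ s (by rw [← hφX]; exact MvPolynomial.mem_support_iff.1 hs), V.weight,
        ← hι']
      rfl
    · haveI := R.isMonHom (e i)
      rw [hφX, ← coeff_one_aeval_single, ← pmat_apply_map, ← Category.assoc, powX_comp,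
        (powPt_prodMap_single R m _ e).2 i fun j hj => by
          rw [MvPolynomial.aeval_X, Pi.single_eq_of_ne hj, map_zero],
        MvPolynomial.aeval_X, Pi.single_eq_same]
      change (pmat r (gaX ≫ R.u (e i)) _ _).coeff 1 ≠ 0 ↔ _
      constructor
      · intro h
        refine einj ?_
        obtain ⟨h1, -⟩ := hroot ⟨e i, hpe i⟩ (c t) 1 h
        exact (congrArg Subtype.val h1).symm.trans (hι' t).symm
      · intro h
        have h1 : (⟨e i, hpe i⟩ : Pos R b) = c t := Subtype.ext (by rw [h]; exact hι' t)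
        exact h1 ▸ V.linear ⟨e i, hpe i⟩
  have hval2 : Function.Bijective (val (powX m ≫ ψ)) := by
    have he' : val (powX m ≫ ψ) = φ.comp θ.symm.toAlgHom := AlgHom.ext fun F => by simp [φ]
    rw [he']
    exact hφ.comp θ.symm.bijective
  haveI : IsIso (powX (k := k) m ≫ ψ) := by
    haveI : IsIso (CommRingCat.ofHom (val (powX (k := k) m ≫ ψ)).toRingHom) :=
      (RingEquiv.ofBijective (val (powX (k := k) m ≫ ψ)).toRingHom hval2).toCommRingCatIso.isIso_hom
    haveI : IsIso (VecGrp.ptMap (val (powX (k := k) m ≫ ψ))).left :=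
      inferInstanceAs (IsIso (Spec.map (CommRingCat.ofHom (val (powX (k := k) m ≫ ψ)).toRingHom)))
    haveI : IsIso (uPt H).left := inferInstanceAs (IsIso H.left.isoSpec.inv)
    haveI : IsIso ((powX (k := k) m ≫ ψ).left) := by
      rw [← ptMap_val (powX (k := k) m ≫ ψ), Over.comp_left]
      infer_instance
    exact @isIso_of_reflects_iso _ _ _ _ _ _ _ (Over.forget _) (inferInstanceAs (IsIso ((powX (k := k) m ≫ ψ).left))) _
  haveI := isIso_powX (k := k) m
  haveI : IsIso ψ := IsIso.of_isIso_comp_left (powX (k := k) m) ψ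
  exact ⟨asIso ψ, hψ⟩
where
  pmat_apply_map {σ : Type} [Fintype σ] [DecidableEq σ] {r : G ⟶ GLs k n} {i : σ}
      {x : VecGrp.pt k (MvPolynomial σ k) ⟶ G} {p q : Fin n} :
      pmat r (VecGrp.ptMap (MvPolynomial.aeval (R := k) (Pi.single i (Polynomial.X : k[X]) : σ → k[X])) ≫ x) p q =
        MvPolynomial.aeval (Pi.single i (Polynomial.X : k[X]) : σ → k[X]) (pmat r x p q) := by
    rw [pmat_comp_ptMap]; rfl

end Groth.Agent.AttrBorel21
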