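import Groth.Agent.Lib.AttrBorel21.SplitStr
import Groth.Agent.Lib.FibDim4.Basic
import Groth.Agent.Lib.FinBorel21.Frob

/-!
# Root data of a split reductive group over a field in coordinates
-/

set_option autoImplicit false
set_option linter.style.haveILetI false
set_option backward.isDefEq.respectTransparency.types false
universe u

open CategoryTheory Limits MonoidalCategory CartesianMonoidalCategory MonObj AlgebraicGeometry

noncomputable section

namespace Groth.Agent.AttrBorel21

open InvRing21 DiagGL TorPts21 BigCell21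

attribute [local instance] InvRing21.gamAlg

variable {k : Type u} [Field k] {G : Over (Spec (CommRingCat.of k))} [GrpObj G] (D : Red.SplitRed G)

/-- The character coordinates of the torus of a splitting. -/
def splitChars : Chars (Fin (Module.finrank ℤ D.M) → ℤ) D.T :=
  let e := (Module.finBasis ℤ D.M).equivFun
  let C₀ := (charsDS (Spec (CommRingCat.of k)) D.M).transport D.split
  { ch := fun x => (C₀.ch x).comp (AddMonoidHom.toMultiplicative e.symm.toLinearMap.toAddMonoidHom)
    nat := fun t x m => C₀.nat t x _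
    mul := fun x y m => C₀.mul x y _
    inj := fun {X x y} h => C₀.inj fun m => by
      have h1 := h (Multiplicative.ofAdd (e m.toAdd))
      simp only [MonoidHom.comp_apply] at h1
      simpa using h1
    surj := fun {X} c => by
      obtain ⟨x, hx⟩ := C₀.surj (T := X) (c.comp (AddMonoidHom.toMultiplicative e.toLinearMap.toAddMonoidHom))
      refine ⟨x, MonoidHom.ext fun m => ?_⟩
      simp [hx] }

theorem splitChars_root {X : Over (Spec (CommRingCat.of k))} (x : X ⟶ D.T) (c : D.idx) :
    (splitChars D).ch x (Multiplicative.ofAdd ((Module.finBasis ℤ D.M).equivFun (D.P.root c))) =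
      Red.gmFn (x ≫ D.split.hom.hom.hom ≫ Red.chi (Spec (CommRingCat.of k)) (D.P.root c)) := by
  rw [← Category.assoc, gmFn_chi]
  simp [splitChars, Chars.transport]

/-- The roots of a splitting. -/
def rootGroups [IsMonHom D.i] : RootGroups G D.i (splitChars D) D.idx where
  e c := (Module.finBasis ℤ D.M).equivFun (D.P.root c)
  u := D.u
  inj := (Module.finBasis ℤ D.M).equivFun.injective.comp D.P.root.injective
  ne_zero c h := RootPairing.ne_zero D.P c ((Module.finBasis ℤ D.M).equivFun.map_eq_zero_iff.1 h)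
  neg c := ⟨D.P.reflectionPerm c c, by rw [RootPairing.root_reflectionPerm, RootPairing.reflection_apply_self, map_neg]⟩
  isMonHom c := (D.rootHom c).1
  closed c := (D.rootHom c).2.1
  conj c X t x := by
    obtain ⟨y, h1, h2⟩ := (D.rootHom c).2.2 X t x
    exact ⟨y, h1, h2.trans (congrArg (· * Red.gaFn x) (splitChars_root D t c).symm)⟩

theorem dim_eq_of_split : topologicalKrullDim G.left =
    ((Module.finrank ℤ D.M + Fintype.card D.idx : ℕ) : WithBot ℕ∞) := by
  let s : ↥(Spec (CommRingCat.of k)) := IsLocalRing.closedPoint k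
  haveI : Smooth G.hom := D.reductive.2.1
  obtain ⟨φ, hφ⟩ := Spec.map_surjective (Red.geomPt s)
  rw [← D.dim_fibre s]
  refine (FibDim4.topologicalKrullDim_eq_of_isPullback φ (Field.toIsField k) (Field.toIsField _) G.hom
    (pullback.fst G.hom (Red.geomPt s)) (pullback.snd G.hom (Red.geomPt s)) ?_).symm
  rw [hφ]
  exact IsPullback.of_hasPullback _ _

set_option maxHeartbeats 800000 in
/-- **Coordinates for a split reductive group and a Borel subgroup containing its torus.** -/
theorem exists_split_data {B : Over (Spec (CommRingCat.of k))} [GrpObj B] {iB : B ⟶ G} (hB : Red.IsBorel iB)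
    (t : D.T ⟶ B) (ht : t ≫ iB = D.i) :
    ∃ (_ : IsMonHom D.i) (_ : IsAffine G.left) (_ : Smooth G.hom) (n : ℕ) (r : G ⟶ GLs k n) (_ : IsMonHom r)
      (_ : IsClosedImmersion r.left) (a : Fin n → Fin (Module.finrank ℤ D.M) → ℤ)
      (b : Fin (Module.finrank ℤ D.M) → ℤ),
      (∀ (X : Over (Spec (CommRingCat.of k))) (x : X ⟶ D.T),
        mat ((x ≫ D.i) ≫ r) = Matrix.diagonal fun j => (splitChars D).ch x (Multiplicative.ofAdd (a j))) ∧
      (∀ (X : Over (Spec (CommRingCat.of k))) (x : X ⟶ G), (∃ y, y ≫ iB = x) ↔ Blk (wt a b) (mat (x ≫ r))) ∧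
      (∀ (X : Over (Spec (CommRingCat.of k))) (x : X ⟶ G), Blk (wt a b) (mat (x ≫ r)) →
        Blk (wt a (-b)) (mat (x ≫ r)) → ∃ τ : X ⟶ D.T, τ ≫ D.i = x) ∧
      (∀ c : D.idx, pairing ((rootGroups D).e c) b ≠ 0) ∧
      Nonempty (UnipData r a b (rootGroups D)) ∧ Nonempty (UnipData r a (-b) (rootGroups D)) := by
  haveI := D.maximalTorus.1
  haveI := D.maximalTorus.2.1
  obtain ⟨hGa, hGs, -⟩ := props_of_isReductive D.reductive
  haveI := hGa
  haveI := hGs
  haveI : IsClosedImmersion D.i.left := MTRigid29.isClosedImmersion_of_mono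
    (isMultTypeFT_of_isTorus D.maximalTorus.2.2.1) D.reductive.1 D.i
  haveI := hB.1
  haveI := hB.2.1
  haveI := hB.2.2.1
  let s : ↥(Spec (CommRingCat.of k)) := IsLocalRing.closedPoint k
  obtain ⟨φ, hφ⟩ := Spec.map_surjective (Red.geomPt s)
  letI : Algebra k (AlgebraicClosure ((Spec (CommRingCat.of k)).residueField s)) := φ.hom.toAlgebra
  have hq : ext' (k := k) (AlgebraicClosure ((Spec (CommRingCat.of k)).residueField s)) = Red.geomPt s := hφ
  obtain ⟨n, r, hr, hrc, a, b, hdiag, hfac, -, hmeet⟩ :=
    exists_opposite_data (K := AlgebraicClosure ((Spec (CommRingCat.of k)).residueField s))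
      (splitChars D) D.i
      ((show ∀ q', q' = Red.geomPt s → Red.IsReductiveOver (AlgebraicClosure ((Spec (CommRingCat.of k)).residueField s))
        (Red.bc q' G) from fun q' h => by subst h; exact D.reductive.2.2 s) _ hq)
      (FinBorel21.isMaxTorus_congr hq.symm (isMaxTorus_geomFibre D.maximalTorus s))
      (FinBorel21.isBorelOver_congr hq.symm (hB.2.2.2 s)) t ht
  haveI := hr
  haveI := hrc
  have hmeet' : ∀ (X : Over (Spec (CommRingCat.of k))) (x : X ⟶ G), Blk (wt a (-b)) (mat (x ≫ r)) →
      Blk (wt a (- -b)) (mat (x ≫ r)) → ∃ τ : X ⟶ D.T, τ ≫ D.i = x := fun X x h h' => by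
    rw [neg_neg] at h'
    exact hmeet X x h' h
  refine ⟨inferInstance, hGa, hGs, n, r, hr, hrc, a, b, hdiag, hfac, hmeet,
    pairing_root_ne_zero hdiag (rootGroups D) b hmeet,
    exists_unipData hdiag (rootGroups D) b hmeet (dim_eq_of_split D),
    exists_unipData hdiag (rootGroups D) (-b) hmeet' (dim_eq_of_split D)⟩

end Groth.Agent.AttrBorel21
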