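import Groth.Agent.Lib.AttrBorel21.Plane
import Groth.Agent.Lib.AttrBorel21.SplitData
import Groth.Agent.Lib.AttrBorel21.Opposite
import Mathlib.LinearAlgebra.RootSystem.Finite.Lemmas

/-!
# Borel subgroups containing a split maximal torus and reducedness of the roots
-/

set_option autoImplicit false
set_option linter.style.haveILetI false
set_option backward.isDefEq.respectTransparency.types false
universe u

open CategoryTheory Limits MonoidalCategory CartesianMonoidalCategory MonObj AlgebraicGeometry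
open scoped Polynomial

noncomputable section

namespace Groth.Agent.AttrBorel21

open InvRing21 DiagGL TorPts21 BigCell21 BorelLam21

attribute [local instance] InvRing21.gamAlg BorelFix21.ptsTop

variable {k : Type u} [Field k]

/-- The coefficients of a product of polynomials in separate variables. -/
theorem coeff_aeval_mul_aeval {K : Type u} [CommRing K] (p q : K[X]) (s : Fin 2 →₀ ℕ) :
    MvPolynomial.coeff s (Polynomial.aeval (MvPolynomial.X 0 : MvPolynomial (Fin 2) K) p *
      Polynomial.aeval (MvPolynomial.X 1 : MvPolynomial (Fin 2) K) q) = p.coeff (s 0) * q.coeff (s 1) := by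
  classical
  induction p using Polynomial.induction_on' with
  | add p p' hp hp' => rw [map_add, add_mul, MvPolynomial.coeff_add, hp, hp', Polynomial.coeff_add, add_mul]
  | monomial i a =>
    induction q using Polynomial.induction_on' with
    | add q q' hq hq' => rw [map_add, mul_add, MvPolynomial.coeff_add, hq, hq', Polynomial.coeff_add, mul_add]
    | monomial j c =>
      rw [Polynomial.aeval_monomial, Polynomial.aeval_monomial, MvPolynomial.algebraMap_eq, _root_.mul_mul_mul_comm,
        ← map_mul, MvPolynomial.X_pow_eq_monomial, MvPolynomial.X_pow_eq_monomial, MvPolynomial.monomial_mul,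
        _root_.mul_one, MvPolynomial.C_mul_monomial, _root_.mul_one, MvPolynomial.coeff_monomial,
        Polynomial.coeff_monomial, Polynomial.coeff_monomial]
      by_cases h0 : i = s 0
      · by_cases h1 : j = s 1
        · rw [if_pos, if_pos h0, if_pos h1]
          exact Finsupp.ext fun q => by fin_cases q <;> simp [h0, h1]
        · rw [if_neg, if_neg h1, mul_zero]
          exact fun h => h1 (by simpa using DFunLike.congr_fun h 1)
      · rw [if_neg, if_neg h0, zero_mul]
        exact fun h => h0 (by simpa using DFunLike.congr_fun h 0)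

/-- A matrix that is upper and lower triangular unipotent is trivial. -/
theorem eq_one_of_unp_of_isUp {n : ℕ} {w w' : Fin n → ℤ} (hw : ∀ i j, w' i < w' j ↔ w j < w i)
    {M : Matrix (Fin n) (Fin n) k} (hM : Unp w' M) (hup : IsUp w M) : M = 1 := by
  ext i j
  rcases lt_trichotomy (w' i) (w' j) with h | h | h
  · rw [hM.1 i j h, Matrix.one_apply_ne fun e => h.ne (congrArg w' e)]
  · have h1 := congrFun (congrFun hM.2 i) j
    rwa [blkDiag, Matrix.of_apply, if_pos h] at h1
  · rw [hup i j ((hw j i).1 h), Matrix.one_apply_ne fun e => h.ne' (congrArg w' e)]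

variable {G : Over (Spec (CommRingCat.of k))} [GrpObj G]

/-- A root group at the origin. -/
theorem pmat_root_zero {n : ℕ} (r : G ⟶ GLs k n) [IsMonHom r] (u : Red.Ga (Spec (CommRingCat.of k)) ⟶ G) [IsMonHom u] :
    (pmat r (gaX ≫ u)).map (Polynomial.eval (0 : k)) = 1 := by
  have h0 : VecGrp.ptMap (R := k) (Polynomial.aeval (0 : k) : k[X] →ₐ[k] k) ≫ gaX ≫ u = 1 := by
    rw [← Category.assoc, show VecGrp.ptMap (R := k) (Polynomial.aeval (0 : k) : k[X] →ₐ[k] k) ≫ gaX = 1 from
      GaPts.gaFn_injective (InvRing21.ptHom_injective k (by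
        rw [ptHom_gaFn_gaX, Polynomial.aeval_X]
        show _ = ptHom k (Red.gaFn 1)
        rw [GaPts.gaFn_one, map_zero]))]
    exact MonObj.one_comp u
  rw [← pmat_one (B := k) r, ← h0, pmat_comp_ptMap]
  ext i j
  rw [Matrix.map_apply, Matrix.map_apply, Polynomial.coe_aeval_eq_eval]

variable (D : Red.SplitRed G)

set_option maxHeartbeats 800000 in
/-- A split torus lies in a Borel subgroup defined over the base field. -/
theorem exists_isBorel : ∃ (B : Over (Spec (CommRingCat.of k))) (_ : GrpObj B) (iB : B ⟶ G) (t : D.T ⟶ B),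
    Red.IsBorel iB ∧ t ≫ iB = D.i := by
  haveI := D.maximalTorus.1
  haveI := D.maximalTorus.2.1
  obtain ⟨hGa, hGs, -⟩ := props_of_isReductive D.reductive
  haveI := hGa
  haveI := hGs
  haveI : IsClosedImmersion D.i.left := MTRigid29.isClosedImmersion_of_mono
    (isMultTypeFT_of_isTorus D.maximalTorus.2.2.1) D.reductive.1 D.i
  let s : ↥(Spec (CommRingCat.of k)) := IsLocalRing.closedPoint k
  have hG := D.reductive.2.2 s
  haveI : IsAffine (Red.bc (Red.geomPt s) G).left := BorelFix21.isAffine_bc _ G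
  haveI : Smooth (Red.bc (Red.geomPt s) G).hom := BorelFix21.smooth_bc _ G
  haveI := hG.2.2.1
  have hT := isMaxTorus_geomFibre D.maximalTorus s
  haveI := hT.1
  haveI := hT.2.1
  obtain ⟨B', _, iB', t', hB', ht'⟩ := exists_borel_containing ((Over.pullback (Red.geomPt s)).map D.i) hT.2.2.1
  obtain ⟨B, _, iB, t, -, h1, h2, h3, ht, h5, -⟩ := exists_borel_defined (splitChars D) (Red.geomPt s) hG hT hB' t' ht'
  refine ⟨B, inferInstance, iB, t, ⟨h1, h2, h3, fun s' => ?_⟩, ht⟩
  obtain rfl : s = s' := Subsingleton.elim _ _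
  exact h5

variable {K : Type u} [Field K] [IsAlgClosed K] [Algebra k K] {n : ℕ}

omit [IsAlgClosed K] [GrpObj G] in
theorem mtxFn_toK {r : G ⟶ GLs k n} {rK : bcK K G ⟶ GLs K n}
    (hrK : ∀ (X : Over (Spec (CommRingCat.of K))) (x : X ⟶ bcK K G), mat (x ≫ rK) = mat (fl _ G x ≫ r))
    [GrpObj G] (x : VecGrp.pt k K ⟶ G) :
    (mtxFn rK (toK x) : Matrix (Fin n) (Fin n) K) = pmat r x := by
  rw [coe_mtxFn, mtxMat, pmat, hrK, fl_toK, Category.assoc, mat_comp, Matrix.map_map]
  ext i j
  simp only [Matrix.map_apply, Function.comp_apply]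
  simp [ptIso]
  rfl

variable (K) in
set_option maxHeartbeats 1600000 in
/-- No root is twice a root, tested in an algebraically closed extension. -/
theorem root_ne_two_smul_aux (q : Spec (CommRingCat.of K) ⟶ Spec (CommRingCat.of k))
    (hq : DiagGL.ext' (k := k) K = q) (hG : Red.IsReductiveOver K (Red.bc q G))
    (hT : AGF.IsMaxTorus ((Over.pullback q).map D.i)) {B : Over (Spec (CommRingCat.of k))} [GrpObj B] {iB : B ⟶ G}
    (hB : Red.IsBorel iB) (t : D.T ⟶ B) (ht : t ≫ iB = D.i) (hBK : Red.IsBorelOver K ((Over.pullback q).map iB))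
    (c c' : D.idx) :
    (Module.finBasis ℤ D.M).equivFun (D.P.root c') ≠ (2 : ℤ) • (Module.finBasis ℤ D.M).equivFun (D.P.root c) := by
  subst hq
  haveI := D.maximalTorus.1
  intro hcc
  obtain ⟨_, hGa, hGs, n, r, hr, hrc, a, b, hdiag, hfac, hmeet, hne, -, ⟨U⟩⟩ := exists_split_data D hB t ht
  haveI := hGa
  haveI := hGs
  haveI := hr
  haveI := hrc
  set R := rootGroups D with hR
  replace hcc : R.e c' = (2 : ℤ) • R.e c := hcc
  obtain ⟨c, c', hcc, hneg⟩ : ∃ c c', R.e c' = (2 : ℤ) • R.e c ∧ pairing (R.e c) b < 0 := by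
    rcases lt_or_gt_of_ne (hne c) with h | h
    · exact ⟨c, c', hcc, h⟩
    · obtain ⟨d, hd⟩ := R.neg c
      obtain ⟨d', hd'⟩ := R.neg c'
      exact ⟨d, d', by rw [hd, hd', hcc, smul_neg], by rw [hd, neg_pairing]; omega⟩
  haveI := R.isMonHom c
  haveI := R.isMonHom c'
  have hp1 : 0 < pairing (R.e c) (-b) := by rw [pairing_neg]; omega
  have hp2 : 0 < pairing (R.e c') (-b) := by
    rw [hcc, show pairing ((2 : ℤ) • R.e c) (-b) = 2 * pairing (R.e c) (-b) by
      simp [pairing, Finset.mul_sum, _root_.mul_assoc]]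
    omega
  obtain ⟨rK, hm, hc, hrK⟩ := exists_bcRep K r
  haveI := hm
  haveI := hc
  let P₀ := pmat r (gaX ≫ R.u c)
  let Q₀ := pmat r (gaX ≫ R.u c')
  let P : Matrix (Fin n) (Fin n) K[X] := P₀.map (Polynomial.map (algebraMap k K))
  let Q : Matrix (Fin n) (Fin n) K[X] := Q₀.map (Polynomial.map (algebraMap k K))
  have hunp : ∀ (u : Red.Ga (Spec (CommRingCat.of k)) ⟶ G), Unp (wt a (-b)) (mat (u ≫ r)) →
      Unp (wt a (-b)) ((pmat r (gaX ≫ u)).map (Polynomial.mapRingHom (algebraMap k K))) := fun u hu => by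
    refine Unp.map _ ?_
    rw [pmat, Category.assoc, mat_comp]
    exact (hu.map _).map _
  have hP : Unp (wt a (-b)) P := hunp _ (unp_root hdiag _ (R.conj c) (-b) hp1)
  have hQ : Unp (wt a (-b)) Q := hunp _ (unp_root hdiag _ (R.conj c') (-b) hp2)
  have hPm : ∀ i j l, (P i j).coeff l ≠ 0 → (l : ℤ) • R.e c = a i - a j := fun i j l hl =>
    smul_eq_of_coeff_ne_zero hdiag _ (R.conj c) i j l fun h => hl (by
      rw [show P i j = (P₀ i j).map (algebraMap k K) from rfl, Polynomial.coeff_map, h, map_zero])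
  have hQm : ∀ i j l, (Q i j).coeff l ≠ 0 → (2 * (l : ℤ)) • R.e c = a i - a j := fun i j l hl => by
    rw [mul_comm, mul_smul, ← hcc]
    exact smul_eq_of_coeff_ne_zero hdiag _ (R.conj c') i j l fun h => hl (by
      rw [show Q i j = (Q₀ i j).map (algebraMap k K) from rfl, Polynomial.coeff_map, h, map_zero])
  have hP0 : P.map (Polynomial.eval (0 : K)) = 1 := by
    ext i j
    rw [Matrix.map_apply, show P i j = (P₀ i j).map (algebraMap k K) from rfl,
      show (0 : K) = algebraMap k K 0 from (map_zero _).symm, Polynomial.eval_map, Polynomial.eval₂_at_apply,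
      show (P₀ i j).eval 0 = (1 : Matrix (Fin n) (Fin n) k) i j from
        congrFun (congrFun (pmat_root_zero r (R.u c)) i) j, Matrix.one_apply, Matrix.one_apply]
    split_ifs <;> simp
  have hQ0 : Q.map (Polynomial.eval (0 : K)) = 1 := by
    ext i j
    rw [Matrix.map_apply, show Q i j = (Q₀ i j).map (algebraMap k K) from rfl,
      show (0 : K) = algebraMap k K 0 from (map_zero _).symm, Polynomial.eval_map, Polynomial.eval₂_at_apply,
      show (Q₀ i j).eval 0 = (1 : Matrix (Fin n) (Fin n) k) i j from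
        congrFun (congrFun (pmat_root_zero r (R.u c')) i) j, Matrix.one_apply, Matrix.one_apply]
    split_ifs <;> simp
  let φ₀ : K[X] →ₐ[K] MvPolynomial (Fin 2) K := Polynomial.aeval (MvPolynomial.X 0)
  let φ₁ : K[X] →ₐ[K] MvPolynomial (Fin 2) K := Polynomial.aeval (MvPolynomial.X 1)
  let M : Matrix (Fin n) (Fin n) (MvPolynomial (Fin 2) K) := P.map φ₀ * Q.map φ₁
  have hMu : Unp (wt a (-b)) M := (hP.map φ₀).mul (hQ.map φ₁)
  have hMev : ∀ x y : K, M.map (MvPolynomial.eval ![x, y]) =
      P.map (Polynomial.eval x) * Q.map (Polynomial.eval y) := fun x y => by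
    have key : ∀ (i : Fin 2) (F : K[X]), MvPolynomial.eval ![x, y] (Polynomial.aeval (MvPolynomial.X i) F) =
        Polynomial.eval (![x, y] i) F := fun i F => by
      induction F using Polynomial.induction_on' with
      | add p q hp hq => simp [hp, hq]
      | monomial l z => simp [Polynomial.aeval_monomial]
    simp only [M, Matrix.map_mul, Matrix.map_map]
    congr 1 <;> ext i j <;> simp only [Matrix.map_apply, Function.comp_apply, φ₀, φ₁, key] <;> rfl
  let CK := (splitChars D).baseChange (DiagGL.ext' (k := k) K) D.T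
  haveI : IsAffine (bcK K G).left := BorelFix21.isAffine_bc _ G
  haveI : Smooth (bcK K G).hom := BorelFix21.smooth_bc _ G
  haveI := hG.2.2.1
  haveI := hT.1
  haveI := hT.2.1
  refine false_of_plane (iB := bcMap K iB) hBK (iT := bcMap K D.i) hT (bcMap K t) (by rw [← Functor.map_comp, ht])
    CK rK a (fun τ => diag_K (splitChars D) hdiag hrK τ) b (fun x => ?_) (R.e c) hneg 2 two_ne_zero M
    hMu.det (by rw [hMev, hP0, hQ0, _root_.one_mul]) (fun x y => ?_) (fun i j s hs => ?_) (fun x y hxy => ?_)
  · obtain ⟨x', rfl⟩ := exists_toK x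
    rw [← blk_iff_mem_upPts hrK, ← hfac]
    constructor
    · rintro ⟨y, hy⟩
      obtain ⟨y', rfl⟩ := exists_toK y
      exact ⟨y', toK_injective (by rw [toK_comp, hy])⟩
    · rintro ⟨y, rfl⟩
      exact ⟨toK y, (toK_comp y iB).symm⟩
  · let pa : K → (VecGrp.pt k K ⟶ Red.Ga (Spec (CommRingCat.of k))) := fun z =>
      VecGrp.ptMap (R := k) (Polynomial.aeval z : k[X] →ₐ[k] K) ≫ gaX
    refine ⟨toK ((pa x ≫ R.u c) * (pa y ≫ R.u c')), ?_⟩
    rw [mtxFn_toK hrK, pmat_mul, Category.assoc, Category.assoc, pmat_comp_ptMap, pmat_comp_ptMap, hMev]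
    congr 1 <;> ext i j <;>
      simp only [Matrix.map_apply, P, Q, P₀, Q₀, Polynomial.eval_map, Polynomial.aeval_def]
  · rw [show M i j = ∑ l, φ₀ (P i l) * φ₁ (Q l j) from Matrix.mul_apply, MvPolynomial.coeff_sum] at hs
    obtain ⟨l, -, hl⟩ := Finset.exists_ne_zero_of_sum_ne_zero hs
    rw [coeff_aeval_mul_aeval] at hl
    rw [Nat.cast_ofNat, add_smul, hPm i l _ (left_ne_zero_of_mul hl), hQm l j _ (right_ne_zero_of_mul hl),
      sub_add_sub_cancel]
  · have hM1 : M.map (MvPolynomial.eval ![x, y]) = 1 := eq_one_of_unp_of_isUp (fun i j => by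
      simp only [wt, pairing_neg, neg_lt_neg_iff]) (hMu.map _) hxy
    rw [hMev] at hM1
    have hαne := R.ne_zero c
    have hlin : ∀ (d : D.idx) (hd : 0 < pairing (R.e d) (-b)) (z : K) (F : Matrix (Fin n) (Fin n) K[X]),
        F = (pmat r (gaX ≫ R.u d)).map (Polynomial.map (algebraMap k K)) →
        (F.map (Polynomial.eval z)) (U.p ⟨d, hd⟩).1 (U.p ⟨d, hd⟩).2 = 0 → z = 0 := fun d hd z F hF h => by
      subst hF
      have hw := U.weight ⟨d, hd⟩
      have hP' : pmat r (gaX ≫ R.u d) (U.p ⟨d, hd⟩).1 (U.p ⟨d, hd⟩).2 =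
          Polynomial.monomial 1 ((pmat r (gaX ≫ R.u d) (U.p ⟨d, hd⟩).1 (U.p ⟨d, hd⟩).2).coeff 1) := by
        refine Polynomial.ext fun l => ?_
        rw [Polynomial.coeff_monomial]
        split_ifs with hl
        · rw [hl]
        · by_contra h0
          have h1 := smul_eq_of_coeff_ne_zero hdiag _ (R.conj d) _ _ l h0
          rw [hw] at h1
          have h2 : ((l : ℤ) - 1) • R.e d = 0 := by rw [sub_smul, h1, one_smul, sub_self]
          have := (smul_eq_zero.1 h2).resolve_right (R.ne_zero d)
          omega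
      rw [Matrix.map_apply, Matrix.map_apply, hP', Polynomial.map_monomial, Polynomial.eval_monomial, pow_one] at h
      exact (mul_eq_zero.1 h).resolve_left ((map_ne_zero _).2 (U.linear ⟨d, hd⟩))
    have hx : x = 0 := by
      obtain ⟨i, j, hij⟩ : ∃ i j, U.p ⟨c, hp1⟩ = (i, j) := ⟨_, _, rfl⟩
      have hw : a i - a j = R.e c := by have := U.weight ⟨c, hp1⟩; rwa [hij] at this
      have hne' : i ≠ j := fun e => hαne (by rw [← hw, e, sub_self])
      refine hlin c hp1 x P rfl ?_
      rw [hij]
      have h1 := congrFun (congrFun hM1 i) j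
      rw [Matrix.one_apply_ne hne', Matrix.mul_apply] at h1
      rw [← h1]
      symm
      refine (Finset.sum_eq_single j (fun l _ hlj => ?_) (by simp)).trans ?_
      · by_contra h0
        simp only [Matrix.map_apply] at h0
        obtain ⟨m, hm, hm'⟩ : ∃ m, (Q l j).coeff m ≠ 0 ∧ m ≠ 0 := by
          by_contra! hall
          refine right_ne_zero_of_mul h0 ?_
          have h3 := congrFun (congrFun hQ0 l) j
          rw [Matrix.map_apply, Matrix.one_apply_ne hlj, ← Polynomial.coeff_zero_eq_eval_zero] at h3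
          rw [show Q l j = 0 from Polynomial.ext fun m => by
            by_contra hm
            rw [Polynomial.coeff_zero] at hm
            rw [hall m hm, h3] at hm
            exact hm rfl, Polynomial.eval_zero]
        obtain ⟨e, he⟩ : ∃ e, (P i l).coeff e ≠ 0 := by
          by_contra! hall
          refine left_ne_zero_of_mul h0 ?_
          rw [show P i l = 0 from Polynomial.ext fun m => by rw [hall, Polynomial.coeff_zero], Polynomial.eval_zero]
        have h2 : ((e : ℤ) + 2 * m - 1) • R.e c = 0 := by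
          rw [sub_smul, add_smul, hPm _ _ _ he, hQm _ _ _ hm, one_smul, sub_add_sub_cancel, hw, sub_self]
        have := (smul_eq_zero.1 h2).resolve_right hαne
        omega
      · have h3 : Q j j = 1 := by
          refine Polynomial.ext fun m => ?_
          have h4 := congrFun (congrFun hQ0 j) j
          rw [Matrix.map_apply, Matrix.one_apply_eq, ← Polynomial.coeff_zero_eq_eval_zero] at h4
          rw [Polynomial.coeff_one]
          split_ifs with hm
          · rw [hm, h4]
          · by_contra h0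
            have h5 := hQm j j m h0
            rw [sub_self, smul_eq_zero] at h5
            have := h5.resolve_right hαne
            omega
        show Polynomial.eval x (P i j) * Polynomial.eval y (Q j j) = Polynomial.eval x (P i j)
        rw [h3, Polynomial.eval_one, _root_.mul_one]
    refine ⟨hx, ?_⟩
    rw [hx, hP0, _root_.one_mul] at hM1
    refine hlin c' hp2 y Q rfl ?_
    rw [hM1, Matrix.one_apply_ne fun e => R.ne_zero c' ?_]
    rw [← U.weight ⟨c', hp2⟩, e, sub_self]

/-- **No root is twice a root.** -/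
theorem root_ne_two_smul (c c' : D.idx) : D.P.root c' ≠ (2 : ℤ) • D.P.root c := by
  intro h
  haveI := D.maximalTorus.1
  obtain ⟨B, _, iB, t, hB, ht⟩ := exists_isBorel D
  let s : ↥(Spec (CommRingCat.of k)) := IsLocalRing.closedPoint k
  obtain ⟨φ, hφ⟩ := Spec.map_surjective (Red.geomPt s)
  letI : Algebra k (AlgebraicClosure ((Spec (CommRingCat.of k)).residueField s)) := φ.hom.toAlgebra
  refine root_ne_two_smul_aux D _ (Red.geomPt s) hφ (D.reductive.2.2 s) (isMaxTorus_geomFibre D.maximalTorus s)
    hB t ht (hB.2.2.2 s) c c' ?_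
  show (Module.finBasis ℤ D.M).equivFun _ = (2 : ℤ) • (Module.finBasis ℤ D.M).equivFun _
  rw [h, map_zsmul]

end Groth.Agent.AttrBorel21
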