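import Groth.Agent.Lib.AttrBorel21.SplitRep
import Groth.Agent.Lib.AttrBorel21.SplitRed
import Groth.Agent.Lib.AttrBorel21.CoordSub
import Groth.Agent.Lib.AttrBorel21.Prod
import Groth.Agent.Lib.TorPts21.ReductiveCartanField

/-!
# Commuting root groups and separating cocharacters
-/

set_option autoImplicit false
set_option linter.style.haveILetI false
set_option backward.isDefEq.respectTransparency.types false
universe u

open CategoryTheory Limits MonoidalCategory CartesianMonoidalCategory MonObj AlgebraicGeometry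
open scoped Polynomial

noncomputable section

namespace Groth.Agent.AttrBorel21

open InvRing21 DiagGL TorPts21 BigCell21

attribute [local instance] InvRing21.gamAlg BorelFix21.ptsTop

theorem pairing_add_smul {d : ℕ} (g φ z : Fin d → ℤ) (N : ℤ) :
    pairing g (N • φ + z) = N * pairing g φ + pairing g z := by
  simp only [pairing, Finset.mul_sum, ← Finset.sum_add_distrib, Pi.add_apply, Pi.smul_apply, smul_eq_mul]
  exact Finset.sum_congr rfl fun q _ => by ring

/-- There is a cocharacter separating finitely many weights. -/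
theorem exists_sep {d : ℕ} (S : Finset (Fin d → ℤ)) : ∃ z, ∀ g ∈ S, g ≠ 0 → pairing g z ≠ 0 := by
  classical
  let P : ℤ[X] := ∏ g ∈ S.filter (· ≠ 0), ∑ q, Polynomial.C (g q) * Polynomial.X ^ (q : ℕ)
  have hP : P ≠ 0 := Finset.prod_ne_zero_iff.2 fun g hg h => (Finset.mem_filter.1 hg).2 (funext fun q => by
    have := congrArg (Polynomial.coeff · (q : ℕ)) h
    simpa [Polynomial.finsetSum_coeff, Polynomial.coeff_X_pow, Fin.val_inj] using this)
  obtain ⟨t, ht⟩ := Infinite.exists_notMem_finset P.roots.toFinset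
  refine ⟨fun q => t ^ (q : ℕ), fun g hg hg0 h => ht ?_⟩
  rw [Multiset.mem_toFinset, Polynomial.mem_roots hP, Polynomial.IsRoot.def, Polynomial.eval_prod]
  refine Finset.prod_eq_zero (Finset.mem_filter.2 ⟨hg, hg0⟩) ?_
  simpa [Polynomial.eval_finsetSum, pairing] using h

/-- A separating cocharacter with prescribed positivity. -/
theorem exists_sep_pos {d : ℕ} (S : Finset (Fin d → ℤ)) (φ : Fin d → ℤ) :
    ∃ z, (∀ g ∈ S, g ≠ 0 → pairing g z ≠ 0) ∧ ∀ g ∈ S, 0 < pairing g φ → 0 < pairing g z := by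
  classical
  obtain ⟨z₀, hz₀⟩ := exists_sep S
  let N : ℤ := 1 + ∑ g ∈ S, |pairing g z₀|
  have hN : ∀ g ∈ S, |pairing g z₀| < N := fun g hg => by
    have := Finset.single_le_sum (f := fun g => |pairing g z₀|) (fun g _ => abs_nonneg _) hg
    simp only [N]
    omega
  refine ⟨N • φ + z₀, fun g hg hg0 => ?_, fun g hg hpos => ?_⟩
  · rw [pairing_add_smul]
    rcases eq_or_ne (pairing g φ) 0 with h | h
    · rw [h, mul_zero, zero_add]
      exact hz₀ g hg hg0
    · intro e
      have h1 := hN g hg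
      have h0 : (0 : ℤ) ≤ N := le_trans (abs_nonneg _) h1.le
      have h2 : N * 1 ≤ N * |pairing g φ| := mul_le_mul_of_nonneg_left (Int.one_le_abs h) h0
      rw [show pairing g z₀ = -(N * pairing g φ) by omega, abs_neg, abs_mul,
        abs_of_nonneg h0] at h1
      omega
  · rw [pairing_add_smul]
    have h1 := hN g hg
    have h2 : N * 1 ≤ N * pairing g φ :=
      mul_le_mul_of_nonneg_left hpos (le_trans (abs_nonneg _) h1.le)
    have h3 := neg_abs_le (pairing g z₀)
    omega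

variable {k : Type u} [Field k] {G : Over (Spec (CommRingCat.of k))} [GrpObj G] (D : Red.SplitRed G)

/-- For a separating cocharacter the two contracted groups meet in the torus. -/
theorem meet_of_sep [IsMonHom D.i] {n : ℕ} {r : G ⟶ GLs k n} [IsMonHom r] [IsClosedImmersion r.left]
    {a : Fin n → Fin (Module.finrank ℤ D.M) → ℤ}
    (hdiag : ∀ (X : Over (Spec (CommRingCat.of k))) (x : X ⟶ D.T),
      mat ((x ≫ D.i) ≫ r) = Matrix.diagonal fun j => (splitChars D).ch x (Multiplicative.ofAdd (a j)))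
    {z : Fin (Module.finrank ℤ D.M) → ℤ} (hsep : ∀ i j, wt a z i = wt a z j → a i = a j)
    (X : Over (Spec (CommRingCat.of k))) (x : X ⟶ G) (h : Blk (wt a z) (mat (x ≫ r)))
    (h' : Blk (wt a (-z)) (mat (x ≫ r))) : ∃ τ : X ⟶ D.T, τ ≫ D.i = x := by
  refine TorPts21.exists_lift_of_commute_maxTorus D.reductive D.maximalTorus x fun X' f t => ?_
  haveI : Mono r := Over.mono_of_mono_left r
  refine (cancel_mono r).1 (mat_injective ?_)
  rw [MonObj.mul_comp, MonObj.mul_comp, mat_mul, mat_mul, hdiag]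
  ext i j
  rw [Matrix.mul_diagonal, Matrix.diagonal_mul]
  by_cases he : a i = a j
  · rw [he, mul_comm]
  · have hzero : mat (x ≫ r) i j = 0 := by
      rcases lt_trichotomy (wt a z i) (wt a z j) with hl | hl | hl
      · exact h i j hl
      · exact absurd (hsep i j hl) he
      · exact h' i j (by simpa [wt, pairing_neg] using hl)
    rw [show mat ((f ≫ x) ≫ r) i j = 0 by rw [Category.assoc, mat_comp, Matrix.map_apply, hzero, map_zero],
      zero_mul, mul_zero]

/-- A root group at a polynomial parameter. -/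
theorem pmat_root_at {n : ℕ} (r : G ⟶ GLs k n) (u : Red.Ga (Spec (CommRingCat.of k)) ⟶ G) {B : Type u} [CommRing B]
    [Algebra k B] (β : B) :
    pmat r (VecGrp.ptMap (R := k) (Polynomial.aeval β : k[X] →ₐ[k] B) ≫ gaX ≫ u) =
      (pmat r (gaX ≫ u)).map (Polynomial.aeval β) := pmat_comp_ptMap r _ _

theorem coeff_aeval_mul_aeval' (p q : k[X]) (s : Fin 2 →₀ ℕ) :
    MvPolynomial.coeff s (Polynomial.aeval (MvPolynomial.X 0 : MvPolynomial (Fin 2) k) p *
      Polynomial.aeval (MvPolynomial.X 1 : MvPolynomial (Fin 2) k) q) = p.coeff (s 0) * q.coeff (s 1) :=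
  coeff_aeval_mul_aeval p q s

set_option maxHeartbeats 1600000 in
/-- **Root groups whose roots combine to no root commute.** -/
theorem commute_roots (c₁ c₂ : D.idx) (φ : Fin (Module.finrank ℤ D.M) → ℤ)
    (h₁ : 0 < pairing ((Module.finBasis ℤ D.M).equivFun (D.P.root c₁)) φ)
    (h₂ : 0 < pairing ((Module.finBasis ℤ D.M).equivFun (D.P.root c₂)) φ)
    (hcomb : ∀ (c : D.idx) (i j : ℕ), i ≠ 0 → j ≠ 0 → D.P.root c ≠ i • D.P.root c₁ + j • D.P.root c₂)
    {B : Type u} [CommRing B] [Algebra k B] (x y : VecGrp.pt k B ⟶ Red.Ga (Spec (CommRingCat.of k))) :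
    (x ≫ D.u c₁) * (y ≫ D.u c₂) = (y ≫ D.u c₂) * (x ≫ D.u c₁) := by
  classical
  obtain ⟨hi, hic, _, _, n, r, _, _, a, hdiag⟩ := exists_split_rep D
  haveI : Mono D.i := Over.mono_of_mono_left D.i
  let S : Finset (Fin (Module.finrank ℤ D.M) → ℤ) :=
    (Finset.univ.image fun p : Fin n × Fin n => a p.1 - a p.2) ∪
      Finset.univ.image fun c : D.idx => (rootGroups D).e c
  obtain ⟨z, hzne, hzpos⟩ := exists_sep_pos S φ
  have hsep : ∀ i j, wt a z i = wt a z j → a i = a j := fun i j h => by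
    by_contra hne
    refine hzne (a i - a j) (Finset.mem_union_left _ (Finset.mem_image.2 ⟨(i, j), Finset.mem_univ _, rfl⟩))
      (sub_ne_zero.2 hne) ?_
    rw [pairing_sub_eq, h, sub_self]
  have hp : ∀ c, 0 < pairing ((Module.finBasis ℤ D.M).equivFun (D.P.root c)) φ →
      0 < pairing ((rootGroups D).e c) z := fun c hc =>
    hzpos _ (Finset.mem_union_right _ (Finset.mem_image.2 ⟨c, Finset.mem_univ _, rfl⟩)) hc
  obtain ⟨V⟩ := exists_unipData hdiag (rootGroups D) z (meet_of_sep D hdiag hsep) (dim_eq_of_split D)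
  letI := V.grpU
  haveI := V.isMonHom
  haveI := V.closed
  haveI : IsAffine V.U.left := isAffine_of_isAffineHom V.iU.left
  haveI := (rootGroups D).isMonHom c₁
  haveI := (rootGroups D).isMonHom c₂
  obtain ⟨v₁, hv₁⟩ := (V.fac _ _).2 (unp_root hdiag _ ((rootGroups D).conj c₁) z (hp c₁ h₁))
  obtain ⟨v₂, hv₂⟩ := (V.fac _ _).2 (unp_root hdiag _ ((rootGroups D).conj c₂) z (hp c₂ h₂))
  let B₂ : Type u := MvPolynomial (Fin 2) k
  let X₁ : VecGrp.pt k B₂ ⟶ G :=
    VecGrp.ptMap (R := k) (Polynomial.aeval (MvPolynomial.X 0 : B₂) : k[X] →ₐ[k] B₂) ≫ gaX ≫ (rootGroups D).u c₁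
  let X₂ : VecGrp.pt k B₂ ⟶ G :=
    VecGrp.ptMap (R := k) (Polynomial.aeval (MvPolynomial.X 1 : B₂) : k[X] →ₐ[k] B₂) ≫ gaX ≫ (rootGroups D).u c₂
  let Y₁ : VecGrp.pt k B₂ ⟶ V.U :=
    VecGrp.ptMap (R := k) (Polynomial.aeval (MvPolynomial.X 0 : B₂) : k[X] →ₐ[k] B₂) ≫ gaX ≫ v₁
  let Y₂ : VecGrp.pt k B₂ ⟶ V.U :=
    VecGrp.ptMap (R := k) (Polynomial.aeval (MvPolynomial.X 1 : B₂) : k[X] →ₐ[k] B₂) ≫ gaX ≫ v₂
  have hY₁ : Y₁ ≫ V.iU = X₁ := by simp only [Y₁, X₁, Category.assoc, hv₁]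
  have hY₂ : Y₂ ≫ V.iU = X₂ := by simp only [Y₂, X₂, Category.assoc, hv₂]
  -- the monomials of the coordinates
  set M := pmat r (gaX ≫ (rootGroups D).u c₁) with hM
  set N := pmat r (gaX ≫ (rootGroups D).u c₂) with hN
  have hM0 : ∀ i j, (M i j).coeff 0 = (1 : Matrix (Fin n) (Fin n) k) i j := fun i j => by
    rw [Polynomial.coeff_zero_eq_eval_zero, ← pmat_root_zero r ((rootGroups D).u c₁)]; rfl
  have hN0 : ∀ i j, (N i j).coeff 0 = (1 : Matrix (Fin n) (Fin n) k) i j := fun i j => by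
    rw [Polynomial.coeff_zero_eq_eval_zero, ← pmat_root_zero r ((rootGroups D).u c₂)]; rfl
  have hX₁ : pmat r X₁ = M.map (Polynomial.aeval (MvPolynomial.X 0 : B₂)) := pmat_root_at r _ _
  have hX₂ : pmat r X₂ = N.map (Polynomial.aeval (MvPolynomial.X 1 : B₂)) := pmat_root_at r _ _
  have hmain : ∀ (c : Pos (rootGroups D) z),
      pmat r (X₁ * X₂) (V.p c).1 (V.p c).2 = pmat r (X₂ * X₁) (V.p c).1 (V.p c).2 := fun c => by
    refine MvPolynomial.ext _ _ fun s => ?_
    simp only [pmat_mul, hX₁, hX₂, Matrix.mul_apply, Matrix.map_apply, MvPolynomial.coeff_sum,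
      mul_comm (Polynomial.aeval (MvPolynomial.X 1 : B₂) _), coeff_aeval_mul_aeval']
    by_cases h0 : s 0 = 0
    · simp [h0, hM0, Matrix.one_apply]
    by_cases h1 : s 1 = 0
    · simp [h1, hN0, Matrix.one_apply]
    have key : ∀ i j l l', M i j ≠ 0 → N l l' ≠ 0 → (M i j).coeff (s 0) ≠ 0 → (N l l').coeff (s 1) ≠ 0 →
        a i - a j + (a l - a l') ≠ (rootGroups D).e c.1 := fun i j l l' _ _ hm hn e => by
      rw [← smul_eq_of_coeff_ne_zero hdiag _ ((rootGroups D).conj c₁) i j _ hm,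
        ← smul_eq_of_coeff_ne_zero hdiag _ ((rootGroups D).conj c₂) l l' _ hn, natCast_zsmul, natCast_zsmul] at e
      refine hcomb c.1 (s 0) (s 1) h0 h1 ((Module.finBasis ℤ D.M).equivFun.injective ?_)
      rw [map_add, map_nsmul, map_nsmul]
      exact e.symm
    have z₁ : ∀ i j l, a i - a j = (rootGroups D).e c.1 → (M i l).coeff (s 0) * (N l j).coeff (s 1) = 0 := by
      intro i j l hij
      by_contra hne
      exact key i l l j (fun e => hne (by rw [e]; simp)) (fun e => hne (by rw [e]; simp))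
        (left_ne_zero_of_mul hne) (right_ne_zero_of_mul hne) (by rw [sub_add_sub_cancel, hij])
    have z₂ : ∀ i j l, a i - a j = (rootGroups D).e c.1 → (M l j).coeff (s 0) * (N i l).coeff (s 1) = 0 := by
      intro i j l hij
      by_contra hne
      exact key l j i l (fun e => hne (by rw [e]; simp)) (fun e => hne (by rw [e]; simp))
        (left_ne_zero_of_mul hne) (right_ne_zero_of_mul hne) (by rw [add_comm, sub_add_sub_cancel, hij])
    rw [Finset.sum_eq_zero fun l _ => z₁ _ _ l (V.weight c), Finset.sum_eq_zero fun l _ => z₂ _ _ l (V.weight c)]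
  have hYY : Y₁ * Y₂ = Y₂ * Y₁ := by
    have hval : InvRing21.val (Y₁ * Y₂) = InvRing21.val (Y₂ * Y₁) := by
      refine AlgHom.ext fun F => ?_
      obtain ⟨P, rfl⟩ := V.bij.2 F
      refine DFunLike.congr_fun (MvPolynomial.algHom_ext (f := (InvRing21.val (Y₁ * Y₂)).comp
        (MvPolynomial.aeval fun c => ent r V.iU (V.p c))) (g := (InvRing21.val (Y₂ * Y₁)).comp
        (MvPolynomial.aeval fun c => ent r V.iU (V.p c))) fun c => ?_) P
      rw [AlgHom.comp_apply, AlgHom.comp_apply, MvPolynomial.aeval_X, val_ent, val_ent, MonObj.mul_comp,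
        MonObj.mul_comp, hY₁, hY₂]
      exact hmain c
    rw [← InvRing21.ptMap_val (Y₁ * Y₂), ← InvRing21.ptMap_val (Y₂ * Y₁), hval]
  have hXX : X₁ * X₂ = X₂ * X₁ := by rw [← hY₁, ← hY₂, ← MonObj.mul_comp, ← MonObj.mul_comp, hYY]
  -- specialisation
  let ψ : B₂ →ₐ[k] B := MvPolynomial.aeval ![ptHom B (Red.gaFn x), ptHom B (Red.gaFn y)]
  have hsp : ∀ (t : Fin 2) (w : VecGrp.pt k B ⟶ Red.Ga (Spec (CommRingCat.of k)))
      (u : Red.Ga (Spec (CommRingCat.of k)) ⟶ G), ψ (MvPolynomial.X t) = ptHom B (Red.gaFn w) →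
      VecGrp.ptMap ψ ≫ VecGrp.ptMap (R := k) (Polynomial.aeval (MvPolynomial.X t : B₂) : k[X] →ₐ[k] B₂) ≫
        gaX ≫ u = w ≫ u := fun t w u hw => by
    rw [← Category.assoc, ← Category.assoc, VecGrp.ptMap]
    congr 1
    refine GaPts.gaFn_injective (InvRing21.ptHom_injective B ?_)
    rw [← hw, ← VecGrp.ptMap, InvRing21.ptMap_comp, ptHom_gaFn_gaX]
    simp
  have h := congrArg (VecGrp.ptMap ψ ≫ ·) hXX
  simp only [MonObj.comp_mul] at h
  rw [show VecGrp.ptMap ψ ≫ X₁ = x ≫ D.u c₁ from hsp 0 x _ (MvPolynomial.aeval_X _ _),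
    show VecGrp.ptMap ψ ≫ X₂ = y ≫ D.u c₂ from hsp 1 y _ (MvPolynomial.aeval_X _ _)] at h
  exact h

/-- The functional given by a sum of two coroots. -/
theorem exists_pos_of_orth (c₁ c₂ : D.idx) (h : D.P.pairing c₁ c₂ = 0) :
    ∃ φ : Fin (Module.finrank ℤ D.M) → ℤ,
      0 < pairing ((Module.finBasis ℤ D.M).equivFun (D.P.root c₁)) φ ∧
        0 < pairing ((Module.finBasis ℤ D.M).equivFun (D.P.root c₂)) φ := by
  let b := Module.finBasis ℤ D.M
  have h' : D.P.pairing c₂ c₁ = 0 := D.P.pairing_eq_zero_iff.1 h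
  refine ⟨fun q => (D.P.coroot' c₁ + D.P.coroot' c₂) (b q), ?_⟩
  have key : ∀ m, pairing (b.equivFun m) (fun q => (D.P.coroot' c₁ + D.P.coroot' c₂) (b q)) =
      (D.P.coroot' c₁ + D.P.coroot' c₂) m := fun m => by
    conv_rhs => rw [← b.sum_equivFun m, map_sum]
    exact Finset.sum_congr rfl fun i _ => by rw [map_zsmul, smul_eq_mul]
  rw [key, key, LinearMap.add_apply, LinearMap.add_apply, RootPairing.root_coroot'_eq_pairing,
    RootPairing.root_coroot'_eq_pairing, RootPairing.root_coroot'_eq_pairing,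
    RootPairing.root_coroot'_eq_pairing, RootPairing.pairing_same, RootPairing.pairing_same, h, h']
  norm_num

/-- **Root groups of orthogonal components commute.** -/
theorem commute_of_separated (S : Set D.idx) (hS : ∀ a ∈ S, ∀ b ∉ S, D.P.pairing a b = 0) {c₁ c₂ : D.idx}
    (h₁ : c₁ ∈ S) (h₂ : c₂ ∉ S) {B : Type u} [CommRing B] [Algebra k B]
    (x y : VecGrp.pt k B ⟶ Red.Ga (Spec (CommRingCat.of k))) :
    (x ≫ D.u c₁) * (y ≫ D.u c₂) = (y ≫ D.u c₂) * (x ≫ D.u c₁) := by
  have h := hS c₁ h₁ c₂ h₂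
  have h' : D.P.pairing c₂ c₁ = 0 := D.P.pairing_eq_zero_iff.1 h
  obtain ⟨φ, hφ₁, hφ₂⟩ := exists_pos_of_orth D c₁ c₂ h
  refine commute_roots D c₁ c₂ φ hφ₁ hφ₂ (fun c i j hi hj e => ?_) x y
  by_cases hc : c ∈ S
  · have h3 := congrArg (D.P.coroot' c₂) e
    rw [map_add, map_nsmul, map_nsmul, RootPairing.root_coroot'_eq_pairing, RootPairing.root_coroot'_eq_pairing,
      RootPairing.root_coroot'_eq_pairing, RootPairing.pairing_same, h, hS c hc c₂ h₂] at h3
    simp [hj] at h3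
  · have h3 := congrArg (D.P.coroot' c₁) e
    rw [map_add, map_nsmul, map_nsmul, RootPairing.root_coroot'_eq_pairing, RootPairing.root_coroot'_eq_pairing,
      RootPairing.root_coroot'_eq_pairing, RootPairing.pairing_same, h',
      D.P.pairing_eq_zero_iff.1 (hS c₁ h₁ c hc)] at h3
    simp [hi] at h3

end Groth.Agent.AttrBorel21
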