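import Groth.Agent.Lib.AttrBorel21.Diag
import Groth.Agent.Lib.AttrBorel21.GalPts
import Groth.Agent.Lib.AttrBorel21.Orth

/-!
# Homomorphisms of split tori are given by maps of character groups
-/

set_option autoImplicit false
set_option linter.style.haveILetI false
set_option backward.isDefEq.respectTransparency.types false
universe u

open CategoryTheory Limits MonoidalCategory CartesianMonoidalCategory MonObj AlgebraicGeometry

noncomputable section

namespace Groth.Agent.AttrBorel21

open InvRing21 DiagGL TorPts21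

attribute [local instance] InvRing21.gamAlg BorelFix21.ptsTop

variable {k : Type u} [Field k]

/-- A unit of infinite enough order in an infinite field. -/
theorem exists_pow_ne_one (K : Type u) [Field K] [Infinite K] {N : ℕ} (hN : N ≠ 0) : ∃ c : Kˣ, c ^ N ≠ 1 := by
  classical
  obtain ⟨c, hc⟩ := Infinite.exists_notMem_finset ((Polynomial.X ^ N - 1 : Polynomial K).roots.toFinset ∪ {0})
  rw [Finset.mem_union, Multiset.mem_toFinset, Finset.mem_singleton, not_or] at hc
  refine ⟨Units.mk0 c hc.2, fun h => hc.1 ?_⟩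
  rw [Polynomial.mem_roots (by simpa using (Polynomial.monic_X_pow_sub_C (1 : K) hN).ne_zero)]
  have h' := congrArg Units.val h
  rw [Units.val_pow_eq_pow_val, Units.val_mk0, Units.val_one] at h'
  simp [h']

/-- A cocharacter of a split torus at a unit of the coefficient field. -/
theorem exists_chi_cochar (K : Type u) [CommRing K] [Algebra k K] {T : Over (Spec (CommRingCat.of k))} [GrpObj T]
    {d : ℕ} (C : Chars (Fin d → ℤ) T) (z : Fin d → ℤ) (s : Kˣ) :
    ∃ τ : VecGrp.pt k K ⟶ T, ∀ m, chi C τ (Multiplicative.ofAdd m) = ((s ^ pairing m z : Kˣ) : K) := by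
  obtain ⟨x, hx⟩ := exists_chi C ((Units.coeHom K).comp (MonoidHom.mk'
    (fun m : Multiplicative (Fin d → ℤ) => s ^ pairing m.toAdd z) fun m m' => by
      simp only [pairing, toAdd_mul, Pi.add_apply, add_mul, Finset.sum_add_distrib, zpow_add]))
  exact ⟨x, fun m => hx _⟩

/-- Characters of a split torus are separated by points in an infinite field. -/
theorem eq_of_chi_eq (K : Type u) [Field K] [Infinite K] [Algebra k K] {T : Over (Spec (CommRingCat.of k))}
    [GrpObj T] {d : ℕ} (C : Chars (Fin d → ℤ) T) {a b : Fin d → ℤ}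
    (h : ∀ τ : VecGrp.pt k K ⟶ T, chi C τ (Multiplicative.ofAdd a) = chi C τ (Multiplicative.ofAdd b)) : a = b := by
  by_contra hne
  obtain ⟨z, hz⟩ := exists_sep ({a - b} : Finset (Fin d → ℤ))
  have hp := hz _ (Finset.mem_singleton_self _) (sub_ne_zero.2 hne)
  obtain ⟨c, hc⟩ := exists_pow_ne_one K (Int.natAbs_ne_zero.2 hp)
  obtain ⟨τ, hτ⟩ := exists_chi_cochar K C z c
  refine hc (pow_natAbs_eq_one.2 ?_)
  have h1 := h τ
  rw [hτ, hτ] at h1
  rw [show pairing (a - b) z = pairing a z - pairing b z by simp [pairing, sub_mul, Finset.sum_sub_distrib],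
    zpow_sub, Units.ext h1, mul_inv_cancel]

/-- **A homomorphism of split tori is given by a map of the character groups.** -/
theorem exists_lattice_map {T T' : Over (Spec (CommRingCat.of k))} [GrpObj T] [GrpObj T'] {d d' : ℕ}
    (C : Chars (Fin d → ℤ) T) (C' : Chars (Fin d' → ℤ) T') (φ : T ⟶ T') [IsMonHom φ] :
    ∃ F : (Fin d' → ℤ) →+ (Fin d → ℤ), ∀ (X : Over (Spec (CommRingCat.of k))) (x : X ⟶ T) (m : Fin d' → ℤ),
      C'.ch (x ≫ φ) (Multiplicative.ofAdd m) = C.ch x (Multiplicative.ofAdd (F m)) := by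
  classical
  have key : ∀ m : Fin d' → ℤ, ∃ b, ∀ (X : Over (Spec (CommRingCat.of k))) (x : X ⟶ T),
      C'.ch (x ≫ φ) (Multiplicative.ofAdd m) = C.ch x (Multiplicative.ofAdd b) := by
    intro m
    let c : Γ(T'.left, ⊤) := C'.ch (𝟙 T') (Multiplicative.ofAdd m)
    have hu : IsUnit (!![c] : Matrix (Fin 1) (Fin 1) Γ(T'.left, ⊤)) := by
      rw [Matrix.isUnit_iff_isUnit_det, Matrix.det_fin_one_of]
      exact (Group.isUnit _).map _
    obtain ⟨s, hs⟩ := exists_mat_eq (T := T') (R := k) hu
    have hms : ∀ {X : Over (Spec (CommRingCat.of k))} (y : X ⟶ T'),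
        mat (y ≫ s) 0 0 = C'.ch y (Multiplicative.ofAdd m) := fun y => by
      rw [mat_comp, hs, Matrix.map_apply]
      show y.left.appTop (C'.ch (𝟙 T') _) = _
      rw [← C'.nat, Category.comp_id]
    haveI : IsMonHom s :=
      { one_hom := mat_injective (by
          ext i j
          rw [Subsingleton.elim i 0, Subsingleton.elim j 0, hms, MonObj.one_eq_one, C'.one, MonObj.one_eq_one,
            mat_one, Matrix.one_apply_eq])
        mul_hom := mat_injective (by
          ext i j
          rw [Subsingleton.elim i 0, Subsingleton.elim j 0, hms, MonObj.mul_eq_mul, C'.mul, MonObj.mul_eq_mul,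
            MonObj.comp_mul, mat_mul, Matrix.mul_apply, Fin.sum_univ_one, tensorHom_fst, tensorHom_snd, hms, hms]) }
    obtain ⟨S, P, ⟨hP, hsum⟩, hform⟩ := exists_idem C (φ ≫ s)
    obtain ⟨b, hb⟩ : ∃ b : S, P b 0 0 ≠ 0 := by
      by_contra! h
      have h1 := congrFun (congrFun hsum 0) 0
      rw [Matrix.sum_apply, Finset.sum_eq_zero fun b _ => h b, Matrix.one_apply_eq] at h1
      exact zero_ne_one h1
    have hb1 : P b 0 0 = 1 := by
      have h1 := congrFun (congrFun (hP b b) 0) 0
      rw [if_pos rfl, Matrix.mul_apply, Fin.sum_univ_one] at h1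
      exact mul_right_cancel₀ hb (h1.trans (_root_.one_mul _).symm)
    refine ⟨b, fun X x => ?_⟩
    have h0 : ∀ c : S, c ≠ b → P c 0 0 = 0 := fun c hc => by
      have h1 := congrFun (congrFun (hP c b) 0) 0
      rw [if_neg hc, Matrix.mul_apply, Fin.sum_univ_one, hb1, _root_.mul_one] at h1
      exact h1
    rw [← hms, Category.assoc, hform, Matrix.sum_apply, Finset.sum_eq_single b]
    · simp [hb1]
    · intro c _ hc
      simp [h0 c hc]
    · simp
  choose F hF using key
  refine ⟨AddMonoidHom.mk' F fun m m' => ?_, fun X x m => hF m X x⟩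
  refine eq_of_chi_eq (AlgebraicClosure k) C fun τ => ?_
  show ptHom _ (C.ch τ _) = ptHom _ (C.ch τ _)
  rw [← hF, ofAdd_add, map_mul, ofAdd_add, map_mul, hF, hF, map_mul, map_mul]

end Groth.Agent.AttrBorel21
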