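import Groth.Agent.Lib.InvRing21.Points
import Mathlib.FieldTheory.IsAlgClosed.Basic

/-!
# Smooth affine schemes over a field through their points in an algebraically closed field
-/

set_option autoImplicit false
set_option linter.style.haveILetI false
set_option backward.isDefEq.respectTransparency.types false
universe u

open CategoryTheory MonoidalCategory CartesianMonoidalCategory MonObj AlgebraicGeometry

noncomputable section

namespace Groth.Agent.AttrBorel21

attribute [local instance] InvRing21.gamAlg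

variable {k : Type u} [Field k] (K : Type u) [Field K] [Algebra k K] [IsAlgClosed K]

theorem exists_algHom_ne_zero {A : Type u} [CommRing A] [IsReduced A] [Algebra k A] [Algebra.FiniteType k A]
    {a : A} (ha : a ≠ 0) : ∃ χ : A →ₐ[k] K, χ a ≠ 0 := by
  haveI : IsJacobsonRing A := isJacobsonRing_of_finiteType (A := k)
  have hbot : (⊥ : Ideal A).jacobson = ⊥ := by
    rw [← Ideal.radical_eq_jacobson]
    exact nilradical_eq_zero A
  have hnot : a ∉ (⊥ : Ideal A).jacobson := by rw [hbot]; simpa using ha
  simp only [Ideal.jacobson, Submodule.mem_sInf, not_forall] at hnot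
  obtain ⟨m, ⟨-, hm⟩, ham⟩ := hnot
  haveI := hm
  letI := Ideal.Quotient.field m
  haveI : Algebra.FiniteType k (A ⧸ m) :=
    Algebra.FiniteType.of_surjective (Ideal.Quotient.mkₐ k m) Ideal.Quotient.mk_surjective
  haveI : Module.Finite k (A ⧸ m) := finite_of_finite_type_of_isJacobsonRing k (A ⧸ m)
  haveI : Algebra.IsAlgebraic k (A ⧸ m) := Algebra.IsAlgebraic.of_finite k _
  let j : A ⧸ m →ₐ[k] K := IsAlgClosed.lift
  exact ⟨j.comp (Ideal.Quotient.mkₐ k m), fun h => ham (Ideal.Quotient.eq_zero_iff_mem.1
    (j.toRingHom.injective (h.trans (map_zero _).symm)))⟩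

variable {K}

/-- Functions are determined by their values at the points in an algebraically closed field. -/
theorem ext_val_K {X : Over (Spec (CommRingCat.of k))} [IsAffine X.left] [Smooth X.hom] {F F' : Γ(X.left, ⊤)}
    (h : ∀ x : VecGrp.pt k K ⟶ X, InvRing21.val x F = InvRing21.val x F') : F = F' := by
  haveI := OrbitTop19.isReduced_of_smooth X.hom
  haveI := InvRing21.finiteType_gam X
  by_contra hne
  obtain ⟨χ, hχ⟩ := exists_algHom_ne_zero (k := k) K (sub_ne_zero.2 hne)
  refine hχ ?_
  have := h (VecGrp.ptMap χ ≫ InvRing21.uPt X)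
  rw [InvRing21.val_ptMap, InvRing21.val_uPt, AlgHom.comp_id] at this
  rw [map_sub, this, sub_self]

/-- A morphism from a smooth affine scheme whose geometric points factor through a closed subscheme factors. -/
theorem exists_lift_of_Kpts {G H X : Over (Spec (CommRingCat.of k))} [IsAffine G.left] [IsAffine X.left]
    [Smooth X.hom] (iH : H ⟶ G) [IsClosedImmersion iH.left] (f : X ⟶ G)
    (h : ∀ x : VecGrp.pt k K ⟶ X, ∃ y : VecGrp.pt k K ⟶ H, y ≫ iH = x ≫ f) : ∃ f' : X ⟶ H, f' ≫ iH = f := by
  haveI : IsAffine H.left := (IsClosedImmersion.isAffine_surjective_of_isAffine iH.left).1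
  let L := InvRing21.appAlg iH
  have hsurj : Function.Surjective L := (IsClosedImmersion.isAffine_surjective_of_isAffine iH.left).2
  have hker : ∀ a ∈ RingHom.ker L, InvRing21.appAlg f a = 0 := fun a ha => ext_val_K (K := K) fun x => by
    obtain ⟨y, hy⟩ := h x
    show InvRing21.val x (f.left.appTop a) = InvRing21.val x 0
    rw [InvRing21.appTop_val, ← hy, ← InvRing21.appTop_val,
      show iH.left.appTop a = 0 from ha, map_zero, map_zero]
  let ψ : Γ(H.left, ⊤) →ₐ[k] Γ(X.left, ⊤) := (Ideal.Quotient.liftₐ (RingHom.ker L) (InvRing21.appAlg f) hker).comp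
    (Ideal.quotientKerAlgEquivOfSurjective hsurj).symm.toAlgHom
  have hψ : ψ.comp L = InvRing21.appAlg f := AlgHom.ext fun a => by
    show (Ideal.Quotient.liftₐ (RingHom.ker L) (InvRing21.appAlg f) hker)
      ((Ideal.quotientKerAlgEquivOfSurjective hsurj).symm (L a)) = _
    rw [show L a = Ideal.quotientKerAlgEquivOfSurjective hsurj (Ideal.Quotient.mk _ a) from rfl,
      AlgEquiv.symm_apply_apply]
    rfl
  haveI : IsIso (InvRing21.uPt X).left := inferInstanceAs (IsIso X.left.isoSpec.inv)
  haveI : IsIso ((Over.forget _).map (InvRing21.uPt X)) := ‹_›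
  haveI : IsIso (InvRing21.uPt X) := isIso_of_reflects_iso _ (Over.forget _)
  refine ⟨inv (InvRing21.uPt X) ≫ VecGrp.ptMap ψ ≫ InvRing21.uPt H, (cancel_epi (InvRing21.uPt X)).1 ?_⟩
  rw [Category.assoc, IsIso.hom_inv_id_assoc, Category.assoc, ← InvRing21.ptMap_appAlg,
    ← InvRing21.ptMap_appAlg f, ← Category.assoc, InvRing21.ptMap_comp, hψ]

end Groth.Agent.AttrBorel21
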