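import Groth.Agent.Lib.AttrBorel21.GalPts
import Groth.Agent.Lib.TorPts21.Nilpotent
import Groth.Agent.Lib.TorPts21.MaxExist
import Groth.Agent.Lib.TorPts21.MaximalTorusClosed
import Groth.Agent.Lib.AttrBorel21.IsogLattice
import Groth.Agent.Lib.GaPts.Basic
import Groth.Agent.Lib.MTRigid29.TrivGlobal
import Groth.Agent.S8392

/-!
# Groups of multiplicative type commuting with a maximal torus lie in it
-/

set_option autoImplicit false
set_option linter.style.haveILetI false
set_option linter.unusedSectionVars false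
set_option backward.isDefEq.respectTransparency.types false
universe u

open CategoryTheory Limits MonoidalCategory CartesianMonoidalCategory MonObj AlgebraicGeometry

noncomputable section

namespace Groth.Agent.AttrBorel21

open InvRing21 DiagGL TorPts21 MatGrp21

attribute [local instance] InvRing21.gamAlg BorelFix21.ptsTop

variable {k : Type u} [Field k]

/-- A map of group objects compatible with products of points is a homomorphism. -/
theorem isMonHom_of_forall_mul {X Y : Over (Spec (CommRingCat.of k))} [GrpObj X] [GrpObj Y] (f : X ⟶ Y)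
    (h : ∀ (T : Over (Spec (CommRingCat.of k))) (x y : T ⟶ X), (x * y) ≫ f = (x ≫ f) * (y ≫ f)) : IsMonHom f where
  one_hom := by
    have h1 := h (𝟙_ _) 1 1
    rw [_root_.one_mul (1 : 𝟙_ _ ⟶ X)] at h1
    rw [MonObj.one_eq_one, MonObj.one_eq_one]
    exact mul_eq_left.1 h1.symm
  mul_hom := by
    rw [MonObj.mul_eq_mul, MonObj.mul_eq_mul, h, MonObj.comp_mul]
    simp

/-- A unitriangular homomorphism from a group of multiplicative type is trivial. -/
theorem eq_one_of_unitriangular {n : ℕ} {H : Over (Spec (CommRingCat.of k))} [GrpObj H]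
    (hH : SGA3x.IsMultTypeFT H) (f : H ⟶ GLs k n) [IsMonHom f]
    (hlow : ∀ i j : Fin n, (j : ℕ) < i → mat f i j = 0) (hdiag : ∀ i, mat f i i = 1) : f = 1 := by
  have key : ∀ d : ℕ, ∀ i j : Fin n, (i : ℕ) < j → (j : ℕ) - i = d → mat f i j = 0 := by
    intro d
    induction d using Nat.strong_induction_on with
    | _ d ih =>
      intro i j hij hd
      let u : H ⟶ Red.Ga (Spec (CommRingCat.of k)) := GaPts.ptOfFn (mat f i j)
      have hu : ∀ (T : Over (Spec (CommRingCat.of k))) (x : T ⟶ H),
          Red.gaFn (x ≫ u) = mat (x ≫ f) i j := fun T x => by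
        rw [GaPts.gaFn_comp, GaPts.gaFn_ptOfFn, mat_comp]
        rfl
      haveI : IsMonHom u := isMonHom_of_forall_mul u fun T x y => GaPts.gaFn_injective (by
        dsimp only
        rw [GaPts.gaFn_mul, hu, hu, hu, MonObj.mul_comp x y f, mat_mul, Matrix.mul_apply]
        have hz : ∀ (z : T ⟶ H) (p q : Fin n), mat (z ≫ f) p q = z.left.appTop (mat f p q) := fun z p q => by
          rw [mat_comp]; rfl
        have hne : i ≠ j := fun e => by simp [e] at hij
        rw [Finset.sum_eq_add (s := Finset.univ) i j hne]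
        · rw [hz x i i, hz y j j, hdiag, hdiag, map_one, map_one, _root_.one_mul, _root_.mul_one, add_comm]
        · intro l _ hl
          rcases lt_trichotomy (l : ℕ) i with h1 | h1 | h1
          · rw [hz x i l, hlow i l h1, map_zero, zero_mul]
          · exact absurd (Fin.ext h1) hl.1
          · rcases lt_trichotomy (l : ℕ) j with h2 | h2 | h2
            · rw [hz x i l, ih ((l : ℕ) - i) (by omega) i l h1 rfl, map_zero, zero_mul]
            · exact absurd (Fin.ext h2) hl.2
            · rw [hz y l j, hlow l j h2, map_zero, mul_zero]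
        · simp
        · simp)
      have h1 : u = 1 := Groth.Agent.S8392.result _ H hH u
      have h2 := congrArg (fun q : H ⟶ Red.Ga (Spec (CommRingCat.of k)) => Red.gaFn q) h1
      simpa [u, GaPts.gaFn_ptOfFn, GaPts.gaFn_one] using h2
  refine mat_injective ?_
  rw [mat_one]
  ext i j
  rcases lt_trichotomy (i : ℕ) j with h | h | h
  · rw [key _ i j h rfl, Matrix.one_apply_ne (fun e => by simp [e] at h)]
  · rw [Fin.ext h, hdiag, Matrix.one_apply_eq]
  · rw [hlow i j h, Matrix.one_apply_ne (fun e => by simp [e] at h)]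

/-- An upper triangular matrix conjugate to a diagonal one has the same diagonal entries, as sets. -/
theorem exists_diag_eq_of_conj {R : Type*} [CommRing R] [IsDomain R] {n : ℕ} (M H : Matrix (Fin n) (Fin n) R)
    (v : Fin n → R) (hM : M.BlockTriangular id) (hH : IsUnit H) (h : M * H = H * Matrix.diagonal v) :
    (∀ i, ∃ j, M i i = v j) ∧ ∀ j, ∃ i, M i i = v j := by
  obtain ⟨U, rfl⟩ := hH
  have hp : (∏ i, (Polynomial.X - Polynomial.C (M i i))) = ∏ j, (Polynomial.X - Polynomial.C (v j)) := by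
    rw [← Matrix.charpoly_of_upperTriangular _ hM, ← Matrix.charpoly_diagonal,
      show M = (U : Matrix (Fin n) (Fin n) R) * Matrix.diagonal v * (↑U⁻¹) by
        rw [← h, Units.mul_inv_cancel_right]]
    rw [Matrix.coe_units_inv]
    exact Matrix.charpoly_units_conj U _
  constructor
  · intro i
    have h0 := congrArg (Polynomial.eval (M i i)) hp
    rw [Polynomial.eval_prod, Polynomial.eval_prod,
      Finset.prod_eq_zero (Finset.mem_univ i) (by simp), eq_comm, Finset.prod_eq_zero_iff] at h0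
    obtain ⟨j, -, hj⟩ := h0
    exact ⟨j, by simpa [sub_eq_zero] using hj⟩
  · intro j
    have h0 := congrArg (Polynomial.eval (v j)) hp
    rw [Polynomial.eval_prod, Polynomial.eval_prod,
      Finset.prod_eq_zero (s := Finset.univ) (f := fun l => Polynomial.eval (v j) (Polynomial.X - Polynomial.C (v l)))
        (Finset.mem_univ j) (by simp), Finset.prod_eq_zero_iff] at h0
    obtain ⟨i, -, hi⟩ := h0
    exact ⟨i, (sub_eq_zero.1 (by simpa using hi)).symm⟩

variable {G T : Over (Spec (CommRingCat.of k))} [GrpObj G] [GrpObj T] {d : ℕ}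

/-- The weights of an embedded split torus generate the character group. -/
theorem closure_weights_eq_top {n : ℕ} (C : Chars (Fin d → ℤ) T) (s : T ⟶ GLs k n) [IsMonHom s] [Mono s]
    (a : Fin n → Fin d → ℤ) (h : Matrix (Fin n) (Fin n) k) (hh : IsUnit h)
    (hs : ∀ (X : Over (Spec (CommRingCat.of k))) (x : X ⟶ T), mat (x ≫ s) * h.map (alg X) =
      h.map (alg X) * Matrix.diagonal fun j => C.ch x (Multiplicative.ofAdd (a j))) :
    AddSubgroup.closure (Set.range a) = ⊤ := by
  classical
  let L := AddSubgroup.closure (Set.range a)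
  let Q : Type := (Fin d → ℤ) ⧸ L
  let χ : Multiplicative (Fin d → ℤ) →* MonoidAlgebra k (Multiplicative Q) :=
    (MonoidAlgebra.of k (Multiplicative Q)).comp (AddMonoidHom.toMultiplicative (QuotientAddGroup.mk' L))
  obtain ⟨x, hx⟩ := exists_chi (T := T) C χ
  have hch : ∀ m, C.ch x m = C.ch (1 : VecGrp.pt k (MonoidAlgebra k (Multiplicative Q)) ⟶ T) m →
      χ m = 1 := fun m hm => by
    rw [← hx, chi, MonoidHom.comp_apply]
    show ptHom _ (C.ch x m) = 1
    rw [hm, C.one, map_one]
  have hone : x = 1 := by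
    rw [← cancel_mono s]
    refine mat_injective ((isUnit_map (T := VecGrp.pt k (MonoidAlgebra k (Multiplicative Q))) hh).mul_right_cancel ?_)
    rw [hs, hs]
    congr 2
    funext j
    rw [C.one]
    refine InvRing21.ptHom_injective _ ((hx _).trans ?_)
    have hz : ((QuotientAddGroup.mk' L) (a j)) = 0 :=
      (QuotientAddGroup.eq_zero_iff _).2 (AddSubgroup.subset_closure ⟨j, rfl⟩)
    show MonoidAlgebra.of k (Multiplicative Q) (Multiplicative.ofAdd ((QuotientAddGroup.mk' L) (a j))) = _
    rw [hz, ofAdd_zero, map_one, map_one]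
  refine eq_top_iff.2 fun v _ => ?_
  have hv := hch (Multiplicative.ofAdd v) (by rw [hone])
  have : Multiplicative.ofAdd ((QuotientAddGroup.mk' L) v) = (1 : Multiplicative Q) :=
    MonoidAlgebra.of_injective (hv.trans (map_one _).symm)
  exact (QuotientAddGroup.eq_zero_iff v).1 (Multiplicative.ofAdd.injective this)

variable [IsAlgClosed k] [IsAffine G.left] [Smooth G.hom] [ConnectedSpace G.left]

set_option maxHeartbeats 4000000 in
/-- A homomorphism from a group of multiplicative type commuting with a maximal torus factors through it. -/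
theorem exists_lift_maxTorus_of_multType {iT : T ⟶ G} (hT : Red.IsMaximalTorus iT)
    {H : Over (Spec (CommRingCat.of k))} [GrpObj H] (hH : SGA3x.IsMultTypeFT H) (f : H ⟶ G) [IsMonHom f]
    (hf : ∀ (X : Over (Spec (CommRingCat.of k))) (x : X ⟶ H) (t : X ⟶ T),
      (x ≫ f) * (t ≫ iT) = (t ≫ iT) * (x ≫ f)) :
    ∃ h : H ⟶ T, h ≫ iT = f := by
  classical
  haveI := hT.1
  haveI := hT.2.1
  have hTt := hT.2.2.1
  obtain ⟨C, _, c, hc, -, -⟩ :=
    MTRigid29.exists_centralizer (MTRigid29.isMT_of_ft (isMultTypeFT_of_isTorus hTt)) inferInstance inferInstance iT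
  obtain ⟨hcm, hcc, hcs, hca⟩ := centralizer_props hTt hc
  haveI := hcm
  haveI := hcc
  haveI := hcs
  haveI := hca
  haveI : Mono c := Over.mono_of_mono_left c
  obtain ⟨-, hCconn, hCnil⟩ := cartan_props hT hc
  haveI := hCconn
  have hTa : ∀ {X : Over (Spec (CommRingCat.of k))} (x y : X ⟶ T), Commute x y := fun x y =>
    MTRigid29.commute_of_isMultTypeFT (isMultTypeFT_of_isTorus hTt) x y
  obtain ⟨t, ht, htm⟩ := exists_lift_centralizer hc hTa
  haveI := htm
  have hM := isMaxTorus_of_isMaximalTorus hT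
  haveI : Mono t := mono_of_mono_fac ht
  -- the centraliser is solvable
  have hsol : Red.IsSolvableGrp C := by
    refine isSolvableGrp_of_central_maxTorus (iT := t) ⟨htm, inferInstance, hTt, fun T' _ j _ _ g hT' hg => ?_⟩ ?_
    · refine hM.2.2.2 T' (j ≫ c) g hT' ?_
      rw [← Category.assoc, hg, ht]
    · intro X x y
      refine (cancel_mono c).1 ?_
      rw [MonObj.mul_comp, MonObj.mul_comp, Category.assoc, ht]
      exact centralizer_comm hc x y
  obtain ⟨n, r, hr, hrc, hu⟩ := exists_upper_embedding c hsol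
  haveI := hr
  haveI := hrc
  haveI : Mono r := Over.mono_of_mono_left r
  haveI : IsReduced C.left := OrbitTop19.isReduced_of_smooth C.hom
  let M : Matrix (Fin n) (Fin n) Γ(C.left, ⊤) := mat (c ≫ r)
  have hval : ∀ (x : VecGrp.pt k k ⟶ C) (i j : Fin n),
      InvRing21.val x (M i j) = ((mtx (c ≫ r) x : GL (Fin n) k) : Matrix (Fin n) (Fin n) k) i j := fun x i j => by
    rw [mtx_apply, coe_mtxFn, mtxMat, Matrix.map_apply, mat_comp]
    rfl
  have hlow : ∀ i j : Fin n, (j : ℕ) < i → M i j = 0 := fun i j hij => InvRing21.ext_val fun x => by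
    rw [hval, map_zero]
    exact hu ⟨x, rfl⟩ i j (by simpa using hij)
  have hlow' : ∀ (X : Over (Spec (CommRingCat.of k))) (x : X ⟶ C) (i j : Fin n), (j : ℕ) < i →
      mat (x ≫ c ≫ r) i j = 0 := fun X x i j hij => by
    rw [mat_comp, Matrix.map_apply]
    show x.left.appTop (M i j) = 0
    rw [hlow i j hij, map_zero]
  have hblock : ∀ (X : Over (Spec (CommRingCat.of k))) (x : X ⟶ C), (mat (x ≫ c ≫ r)).BlockTriangular id :=
    fun X x i j hij => hlow' X x i j hij
  have hmulDiag : ∀ (X : Over (Spec (CommRingCat.of k))) (x y : X ⟶ C) (i : Fin n),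
      mat ((x * y) ≫ c ≫ r) i i = mat (x ≫ c ≫ r) i i * mat (y ≫ c ≫ r) i i := fun X x y i => by
    rw [MonObj.mul_comp, mat_mul, Matrix.mul_apply]
    refine (Finset.sum_eq_single i (fun l _ hl => ?_) (fun h => absurd (Finset.mem_univ i) h))
    rcases lt_or_gt_of_ne hl with h | h
    · rw [hlow' X x i l h, zero_mul]
    · rw [hlow' X y l i h, mul_zero]
  have hunit : ∀ i, IsUnit (M i i) := fun i => by
    have h1 : IsUnit M.det := (Matrix.isUnit_iff_isUnit_det _).1 (mat_isUnit _)
    rw [Matrix.det_of_upperTriangular (fun p q hpq => hlow p q hpq)] at h1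
    exact IsUnit.prod_univ_iff.1 h1 i
  -- weights on the torus
  obtain ⟨d, ⟨Ch⟩⟩ := exists_chars hTt
  obtain ⟨S, P, hP, hform⟩ := exists_idem Ch (iT ≫ r)
  obtain ⟨h, a', hh, hdiag⟩ := exists_eigenbasis hP
  let a : Fin n → Fin d → ℤ := fun j => (a' j : Fin d → ℤ)
  have hconj : ∀ (X : Over (Spec (CommRingCat.of k))) (x : X ⟶ T), mat (x ≫ iT ≫ r) * h.map (alg X) =
      h.map (alg X) * Matrix.diagonal fun j => Ch.ch x (Multiplicative.ofAdd (a j)) := fun X x => by
    rw [hform, Finset.sum_mul]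
    simp only [smul_mul_assoc, ← Matrix.map_mul, hdiag]
    ext p q
    rw [Matrix.mul_diagonal]
    simp only [Matrix.sum_apply, Matrix.smul_apply, Matrix.map_apply, Matrix.mul_diagonal, smul_eq_mul]
    rw [Finset.sum_eq_single (a' q)]
    · simp [a, mul_comm]
    · intro b _ hb
      simp [hb]
    · simp
  have hgen : AddSubgroup.closure (Set.range a) = ⊤ := closure_weights_eq_top Ch (iT ≫ r) a h hh hconj
  -- the diagonal entries on the torus are the weights
  obtain ⟨hTa', hTs, hTc, -⟩ := props_of_isTorus hTt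
  haveI := hTa'
  haveI := hTs
  haveI := hTc
  haveI : IrreducibleSpace T.left := AbRigid.irreducibleSpace_of_isAlgClosed T
  haveI : IsReduced T.left := OrbitTop19.isReduced_of_smooth T.hom
  haveI : IsIntegral T.left := isIntegral_of_irreducibleSpace_of_isReduced T.left
  let D : Fin n → Γ(T.left, ⊤) := fun i => mat (t ≫ c ≫ r) i i
  obtain ⟨hinjw, hsurjw⟩ : (∀ i, ∃ j, D i = Ch.ch (𝟙 T) (Multiplicative.ofAdd (a j))) ∧
      ∀ j, ∃ i, D i = Ch.ch (𝟙 T) (Multiplicative.ofAdd (a j)) := by
    refine exists_diag_eq_of_conj (mat (t ≫ c ≫ r)) (h.map (alg T)) _ (hblock T t) (isUnit_map hh) ?_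
    have h0 := hconj T (𝟙 T)
    rwa [Category.id_comp, ← ht, Category.assoc] at h0
  choose π hπ using hinjw
  let b : Fin n → Fin d → ℤ := fun i => a (π i)
  have hb : ∀ (X : Over (Spec (CommRingCat.of k))) (x : X ⟶ T) (i : Fin n),
      mat (x ≫ t ≫ c ≫ r) i i = Ch.ch x (Multiplicative.ofAdd (b i)) := fun X x i => by
    rw [mat_comp, Matrix.map_apply]
    show x.left.appTop (D i) = _
    rw [hπ, ← Ch.nat, Category.comp_id]
  let Φ : Multiplicative (Fin n → ℤ) →* Multiplicative (Fin d → ℤ) :=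
    AddMonoidHom.toMultiplicative ((Fintype.linearCombination ℤ b).toAddMonoidHom)
  have hΦ : Function.Surjective Φ := by
    intro v
    have h1 : AddSubgroup.closure (Set.range a) ≤ (Fintype.linearCombination ℤ b).toAddMonoidHom.range := by
      rw [AddSubgroup.closure_le]
      rintro _ ⟨j, rfl⟩
      obtain ⟨i, hi⟩ := hsurjw j
      refine ⟨Pi.single i 1, ?_⟩
      show Fintype.linearCombination ℤ b (Pi.single i 1) = a j
      rw [Fintype.linearCombination_apply_single, one_smul]
      refine eq_of_chi_eq k Ch fun τ => congrArg (ptHom k) ?_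
      have hτ : ∀ v, Ch.ch τ v = τ.left.appTop (Ch.ch (𝟙 T) v) := fun v => by rw [← Ch.nat, Category.comp_id]
      rw [hτ, hτ, ← hi, hπ]
    obtain ⟨m, hm⟩ := h1 (hgen ▸ (AddSubgroup.mem_top v.toAdd))
    exact ⟨Multiplicative.ofAdd m, congrArg Multiplicative.ofAdd hm⟩
  -- the diagonal character of the centraliser
  let ψ : Multiplicative (Fin n → ℤ) →* Γ(C.left, ⊤)ˣ :=
    MonoidHom.mk' (fun m => ∏ i, (hunit i).unit ^ m.toAdd i) fun m m' => by
      simp only [toAdd_mul, Pi.add_apply, zpow_add, Finset.prod_mul_distrib]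
  haveI hcr : IsClosedImmersion (c ≫ r).left := inferInstanceAs (IsClosedImmersion (c.left ≫ r.left))
  have hker : ∀ m, Φ m = 1 → ψ m = 1 := fun m hm => Units.ext (InvRing21.ext_val fun x => by
    obtain ⟨Dc⟩ : Nonempty (Decomp (mtx (c ≫ r)).range) :=
      nonempty_decomp hu (isClosed_range_mtx _) (isPreirreducible_range_mtx' _)
    have hDT := decomp_eq_of_central r c hu Dc hM t ht fun z y => centralizer_comm hc z y
    obtain ⟨s, hs, hsx⟩ := Dc.exists_mem _ ⟨x, rfl⟩
    rw [hDT] at hs
    obtain ⟨y, rfl⟩ := hs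
    have hy : mtx (iT ≫ r) y = mtx (c ≫ r) (y ≫ t) := by
      rw [mtx_comp, mtx_comp, Category.assoc, ht]
    rw [hy, ← map_inv, ← map_mul] at hsx
    have hd1 : ∀ i, InvRing21.val x (M i i) = InvRing21.val (y ≫ t) (M i i) := fun i => by
      have h1 := (mem_lay_one_iff.1 hsx).2 i
      rw [hval, hval]
      have h2 := MatGrp21.diag_mul (hu ⟨y ≫ t, rfl⟩) (hu ⟨(y ≫ t)⁻¹ * x, rfl⟩) i
      rw [← map_mul, mul_inv_cancel_left, h1, _root_.mul_one] at h2
      exact h2
    have key : ∀ (z : VecGrp.pt k k ⟶ C), InvRing21.val z ((ψ m : Γ(C.left, ⊤)ˣ) : Γ(C.left, ⊤)) =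
        ((∏ i, (Units.map (InvRing21.val z).toMonoidHom (hunit i).unit) ^ m.toAdd i : kˣ) : k) := fun z => by
      have : Units.map (InvRing21.val z).toMonoidHom (ψ m) =
          ∏ i, (Units.map (InvRing21.val z).toMonoidHom (hunit i).unit) ^ m.toAdd i := by
        simp only [ψ, MonoidHom.mk'_apply, map_prod, map_zpow]
      exact congrArg Units.val this
    rw [key, Units.val_one, map_one, ← Units.val_one]
    refine congrArg Units.val ?_
    rw [Finset.prod_congr rfl fun i _ => show Units.map (InvRing21.val x).toMonoidHom (hunit i).unit ^ m.toAdd i =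
      ((chi Ch y).toHomUnits (Multiplicative.ofAdd (b i))) ^ m.toAdd i from by
        congr 1
        refine Units.ext ((hd1 i).trans ?_)
        show ptHom k (y.left.appTop (t.left.appTop (M i i))) = ptHom k (Ch.ch y _)
        rw [← hb, mat_comp, Matrix.map_apply, mat_comp, Matrix.map_apply]]
    simp only [← map_zpow, ← map_prod]
    have : (∏ i, Multiplicative.ofAdd (b i) ^ m.toAdd i) = Φ m := by
      refine Multiplicative.toAdd.injective ?_
      simp [Φ, Fintype.linearCombination_apply]
    rw [this, hm, map_one])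
  -- the lift
  obtain ⟨z, hz⟩ := (hc.2.2 H f).2 fun X' x s => hf X' x s
  let η₀ : Multiplicative (Fin d → ℤ) →* Γ(C.left, ⊤)ˣ := Φ.liftOfSurjective hΦ ⟨ψ, fun m hm => hker m hm⟩
  obtain ⟨e, he⟩ := Ch.surj (T := H)
    ((Units.coeHom _).comp ((Units.map z.left.appTop.hom.toMonoidHom).comp η₀))
  refine ⟨e, ?_⟩
  have heb : ∀ i, Ch.ch e (Multiplicative.ofAdd (b i)) = mat (z ≫ c ≫ r) i i := fun i => by
    rw [he, mat_comp, Matrix.map_apply]
    show z.left.appTop ((η₀ (Multiplicative.ofAdd (b i)) : Γ(C.left, ⊤)ˣ) : Γ(C.left, ⊤)) = z.left.appTop (M i i)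
    congr 1
    have h1 : Φ (Multiplicative.ofAdd (Pi.single i 1)) = Multiplicative.ofAdd (b i) := by
      refine congrArg Multiplicative.ofAdd ?_
      show Fintype.linearCombination ℤ b (Pi.single i 1) = b i
      rw [Fintype.linearCombination_apply_single, one_smul]
    rw [← h1, MonoidHom.liftOfRightInverse_comp_apply]
    show ((∏ l, (hunit l).unit ^ (Pi.single i (1 : ℤ) : Fin n → ℤ) l : Γ(C.left, ⊤)ˣ) : Γ(C.left, ⊤)) = _
    rw [Finset.prod_eq_single i (fun l _ hl => by rw [Pi.single_eq_of_ne hl, zpow_zero])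
      (fun h => absurd (Finset.mem_univ i) h), Pi.single_eq_same, zpow_one, IsUnit.unit_spec]
  let w : H ⟶ C := z * (e ≫ t)⁻¹
  haveI hzm : IsMonHom z := by
    haveI : IsMonHom (z ≫ c) := hz ▸ ‹IsMonHom f›
    exact BorelFix21.isMonHom_of_comp c z inferInstance
  have hem : ∀ (X : Over (Spec (CommRingCat.of k))) (x y : X ⟶ H), (x * y) ≫ e = (x ≫ e) * (y ≫ e) :=
    fun X x y => Ch.inj fun m => by
      obtain ⟨m', rfl⟩ := hΦ m
      let F : (X ⟶ H) → Γ(C.left, ⊤) →+* Γ(X.left, ⊤) := fun q => (q ≫ z).left.appTop.hom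
      have hch : ∀ q : X ⟶ H, Ch.ch (q ≫ e) (Φ m') =
          ((∏ i, Units.map (F q).toMonoidHom (hunit i).unit ^ m'.toAdd i : Γ(X.left, ⊤)ˣ) : Γ(X.left, ⊤)) :=
        fun q => by
          have h1 : Units.map (F q).toMonoidHom (ψ m') =
              ∏ i, Units.map (F q).toMonoidHom (hunit i).unit ^ m'.toAdd i := by
            simp only [ψ, MonoidHom.mk'_apply, map_prod, map_zpow]
          rw [← h1, Ch.nat, he]
          simp only [MonoidHom.comp_apply, η₀, MonoidHom.liftOfRightInverse_comp_apply]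
          show q.left.appTop (z.left.appTop _) = (q ≫ z).left.appTop _
          rw [Over.comp_left, Scheme.Hom.comp_appTop]
          rfl
      rw [Ch.mul, hch, hch, hch, ← Units.val_mul, ← Finset.prod_mul_distrib]
      refine congrArg Units.val (Finset.prod_congr rfl fun i _ => ?_)
      rw [← mul_zpow]
      refine congrArg (· ^ m'.toAdd i) (Units.ext ?_)
      have h2 := hmulDiag X (x ≫ z) (y ≫ z) i
      rw [← MonObj.mul_comp, mat_comp ((x * y) ≫ z), mat_comp (x ≫ z), mat_comp (y ≫ z)] at h2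
      exact h2
  haveI hemh : IsMonHom e := isMonHom_of_forall_mul e hem
  haveI : IsMonHom w := isMonHom_of_forall_mul w fun X x y => by
    simp only [w, MonObj.comp_mul, GrpObj.comp_inv, MonObj.mul_comp, mul_inv_rev, ← Category.assoc]
    have hcomm : ∀ (p : X ⟶ H) (q : X ⟶ T), (p ≫ z) * (q ≫ t) = (q ≫ t) * (p ≫ z) := fun p q =>
      (cancel_mono c).1 (by
        simp only [MonObj.mul_comp, Category.assoc, ht, hz]
        exact hf X p q)
    have h1 : Commute (x ≫ e ≫ t) (y ≫ e ≫ t) := by
      show _ * _ = _ * _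
      rw [← Category.assoc, ← Category.assoc, ← MonObj.mul_comp (x ≫ e) (y ≫ e) t,
        ← MonObj.mul_comp (y ≫ e) (x ≫ e) t, (hTa (x ≫ e) (y ≫ e)).eq]
    have h2 : Commute (y ≫ z) (x ≫ e ≫ t) := by
      show _ * _ = _ * _
      rw [← Category.assoc]
      exact hcomm y (x ≫ e)
    simp only [Category.assoc] at h1 h2 ⊢
    rw [_root_.mul_assoc (x ≫ z) (x ≫ e ≫ t)⁻¹, ← _root_.mul_assoc (x ≫ e ≫ t)⁻¹, ← h2.inv_right.eq,
      _root_.mul_assoc (y ≫ z) (x ≫ e ≫ t)⁻¹, h1.inv_inv.eq]
    exact _root_.mul_assoc _ _ _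
  have hw1 : ∀ i, mat (w ≫ c ≫ r) i i = 1 := fun i => by
    have h2 := hmulDiag H w (e ≫ t) i
    rw [show w * (e ≫ t) = z from inv_mul_cancel_right z (e ≫ t), ← heb, Category.assoc, hb] at h2
    obtain ⟨u, hu'⟩ := (Group.isUnit (Multiplicative.ofAdd (b i))).map (Ch.ch e)
    rw [← hu'] at h2
    exact (Units.mul_left_inj u).1 (h2.symm.trans (_root_.one_mul _).symm)
  have hwone : w ≫ c ≫ r = 1 :=
    eq_one_of_unitriangular hH (w ≫ c ≫ r) (fun i j hij => hlow' H w i j hij) hw1
  have : w = 1 := by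
    rw [← cancel_mono (c ≫ r), hwone, MonObj.one_comp]
  rw [← hz, mul_inv_eq_one.1 this, Category.assoc, ht]

end Groth.Agent.AttrBorel21
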