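import Groth.Agent.Lib.AttrBorel21.Geom
import Groth.Agent.Lib.AttrBorel21.Diag
import Groth.Agent.Lib.MTRigid29.MonoClosedGlobal
import Groth.Agent.Lib.TorPts21.ReductiveCartanField
import Groth.Agent.Lib.TorPts21.BaseChangeTorus

/-!
# Borel subgroups containing a split maximal torus are defined over the base field
-/

set_option autoImplicit false
set_option linter.style.haveILetI false
set_option backward.isDefEq.respectTransparency.types false
universe u

open CategoryTheory Limits MonoidalCategory CartesianMonoidalCategory MonObj AlgebraicGeometry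

noncomputable section

namespace Groth.Agent.AttrBorel21

open InvRing21 DiagGL TorPts21 BigCell21 BorelLam21

attribute [local instance] InvRing21.gamAlg BorelFix21.ptsTop

variable {k : Type u} [Field k] {d : ℕ} {G T : Over (Spec (CommRingCat.of k))} [GrpObj G] [GrpObj T]

/-- A diagonal matrix representation. -/
theorem exists_diagRep [IsAffine G.left] [Smooth G.hom] (C : Chars (Fin d → ℤ) T) (iT : T ⟶ G) [IsMonHom iT] :
    ∃ (n : ℕ) (r : G ⟶ GLs k n) (_ : IsMonHom r) (_ : IsClosedImmersion r.left) (a : Fin n → Fin d → ℤ),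
      ∀ (X : Over (Spec (CommRingCat.of k))) (x : X ⟶ T),
        mat ((x ≫ iT) ≫ r) = Matrix.diagonal fun j => C.ch x (Multiplicative.ofAdd (a j)) := by
  obtain ⟨n, r, hr, hrc⟩ := GrassAct21.exists_embedding_GL G
  haveI := hr
  haveI := hrc
  exact ⟨n, exists_diag C iT r⟩

variable {n : ℕ} {C : Chars (Fin d → ℤ) T} {iT : T ⟶ G} [IsMonHom iT] {r : G ⟶ GLs k n} [IsMonHom r]
  [IsClosedImmersion r.left] {a : Fin n → Fin d → ℤ}

/-- A test on quotients shows that functions of positive degree vanish. -/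
theorem blk_neg_of_test [IsAffine G.left] [IsIntegral G.left] [LocallyOfFiniteType G.hom]
    (hdiag : ∀ (X : Over (Spec (CommRingCat.of k))) (x : X ⟶ T),
      mat ((x ≫ iT) ≫ r) = Matrix.diagonal fun j => C.ch x (Multiplicative.ofAdd (a j))) (b : Fin d → ℤ)
    (h : ∀ (X : Over (Spec (CommRingCat.of k))) (x : X ⟶ G), Blk (wt a b) (mat (x ≫ r)) →
      Blk (wt a (-b)) (mat (x ≫ r))) :
    ∀ (X : Over (Spec (CommRingCat.of k))) (x : X ⟶ G), Blk (wt a (-b)) (mat (x ≫ r)) := by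
  set I := negIdeal (gen r) (deg (wt a b)) with hI
  let A : Type u := Γ(G.left, ⊤)
  let p : VecGrp.pt k (A ⧸ I) ⟶ G := VecGrp.ptMap (Ideal.Quotient.mkₐ k I) ≫ uPt G
  have hval : ∀ i j, pmat r p i j = Ideal.Quotient.mk I (mat r i j) := fun i j => by
    rw [pmat_apply, val_ptMap, val_uPt, AlgHom.comp_id]
    rfl
  have hinj : Function.Injective (ptHom (k := k) (A ⧸ I)) :=
    (Scheme.ΓSpecIso (CommRingCat.of (A ⧸ I))).commRingCatIsoToRingEquiv.injective
  have hp : Blk (wt a b) (mat (p ≫ r)) := fun i j hij => hinj (by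
    rw [map_zero]
    refine (hval i j).trans (Ideal.Quotient.eq_zero_iff_mem.2 ?_)
    exact Ideal.subset_span ⟨⟨some (i, j), sub_neg.2 hij⟩, rfl⟩)
  have h0 := blk_neg_of_pos r hdiag b fun i j hij => by
    rw [← Ideal.Quotient.eq_zero_iff_mem, ← hval]
    rw [pmat, Matrix.map_apply, h _ p hp i j (by rw [wt_neg]; exact neg_lt_neg hij), map_zero]
  intro X x i j hij
  rw [mat_comp, Matrix.map_apply, h0 i j (by rw [wt_neg] at hij; exact neg_lt_neg_iff.1 hij), map_zero]

section Field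

variable {K : Type u} [Field K] [IsAlgClosed K] [Algebra k K] [IsAffine G.left] [Smooth G.hom]
  (hdiag : ∀ (X : Over (Spec (CommRingCat.of k))) (x : X ⟶ T),
    mat ((x ≫ iT) ≫ r) = Matrix.diagonal fun j => C.ch x (Multiplicative.ofAdd (a j)))
  {rK : bcK K G ⟶ GLs K n} [IsMonHom rK]
  (hrK : ∀ (X : Over (Spec (CommRingCat.of K))) (x : X ⟶ bcK K G), mat (x ≫ rK) = mat (fl _ G x ≫ r))

omit [IsMonHom iT] [GrpObj T] [IsMonHom r] [IsClosedImmersion r.left] [Smooth G.hom] in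
include hrK in
/-- A smooth closed subgroup is cut out by the entries as soon as this holds for geometric points. -/
theorem fac_iff_blk {w : Fin n → ℤ} {B B' : Over (Spec (CommRingCat.of k))} {iB : B ⟶ G} {iB' : B' ⟶ G}
    [IsClosedImmersion iB.left] [Smooth B.hom] [IsClosedImmersion iB'.left] [Smooth B'.hom]
    (hB' : ∀ (X : Over (Spec (CommRingCat.of k))) (x : X ⟶ G), (∃ y, y ≫ iB' = x) ↔ Blk w (mat (x ≫ r)))
    (hpts : ∀ x, (∃ y, y ≫ bcMap K iB = x) ↔ x ∈ upPts rK w) :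
    ∀ (X : Over (Spec (CommRingCat.of k))) (x : X ⟶ G), (∃ y, y ≫ iB = x) ↔ Blk w (mat (x ≫ r)) := by
  haveI : IsAffine B.left := isAffine_of_isAffineHom iB.left
  haveI : IsAffine B'.left := isAffine_of_isAffineHom iB'.left
  obtain ⟨f, hf⟩ := exists_lift_of_Kpts (K := K) iB' iB fun x =>
    (hB' _ _).2 ((blk_iff_mem_upPts hrK w _).2 ((hpts _).1 ⟨toK x, (toK_comp x iB).symm⟩))
  obtain ⟨g, hg⟩ := exists_lift_of_Kpts (K := K) iB iB' fun x => by
    obtain ⟨y, hy⟩ := (hpts _).2 ((blk_iff_mem_upPts hrK w _).1 ((hB' _ _).1 ⟨x, rfl⟩))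
    obtain ⟨v, rfl⟩ := exists_toK y
    exact ⟨v, toK_injective (by rw [toK_comp, hy])⟩
  intro X x
  rw [← hB']
  exact ⟨fun ⟨y, hy⟩ => ⟨y ≫ f, by rw [Category.assoc, hf, hy]⟩, fun ⟨y, hy⟩ => ⟨y ≫ g, by rw [Category.assoc, hg, hy]⟩⟩

include hdiag hrK in
/-- The contracted subgroup with the geometric points of a Borel subgroup. -/
theorem exists_borel_attr (b : Fin d → ℤ) {B' : Over (Spec (CommRingCat.of K))} [GrpObj B']
    {iB' : B' ⟶ bcK K G} (hB' : Red.IsBorelOver K iB') (hpts : ∀ x, (∃ y, y ≫ iB' = x) ↔ x ∈ upPts rK (wt a b)) :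
    ∃ (B : Over (Spec (CommRingCat.of k))) (_ : GrpObj B) (iB : B ⟶ G) (t : T ⟶ B) (e : bcK K B ≅ B'),
      IsMonHom iB ∧ IsClosedImmersion iB.left ∧ Smooth B.hom ∧ t ≫ iB = iT ∧
      Red.IsBorelOver K (bcMap K iB) ∧ e.hom ≫ iB' = bcMap K iB ∧
      ∀ (X : Over (Spec (CommRingCat.of k))) (x : X ⟶ G), (∃ y, y ≫ iB = x) ↔ Blk (wt a b) (mat (x ≫ r)) := by
  obtain ⟨B, _, iB, hBm, hBc, hBs, hBa, hB⟩ := exists_attr r hdiag b
  haveI := hBm
  haveI := hBc
  haveI := hBs
  haveI := hBa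
  obtain ⟨t, ht⟩ := (hB T iT).2 (by
    have h := blk_torus r hdiag b (𝟙 T)
    rwa [Category.id_comp] at h)
  obtain ⟨e, he, hbor⟩ := exists_iso_borel hrK hB hB' hpts
  exact ⟨B, inferInstance, iB, t, e, hBm, hBc, hBs, ht, hbor, he, hB⟩

end Field

/-- Borel subgroups of a geometric fibre containing the split torus come from the base field. -/
theorem exists_borel_defined (C : Chars (Fin d → ℤ) T) [IsAffine G.left] [Smooth G.hom] {K : Type u} [Field K] [IsAlgClosed K]
    (q : Spec (CommRingCat.of K) ⟶ Spec (CommRingCat.of k))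
    (hG : Red.IsReductiveOver K (Red.bc q G)) (hT : AGF.IsMaxTorus ((Over.pullback q).map iT))
    {B' : Over (Spec (CommRingCat.of K))} [GrpObj B'] {iB' : B' ⟶ Red.bc q G} (hB' : Red.IsBorelOver K iB')
    (t' : Red.bc q T ⟶ B') (ht' : t' ≫ iB' = (Over.pullback q).map iT) :
    ∃ (B : Over (Spec (CommRingCat.of k))) (_ : GrpObj B) (iB : B ⟶ G) (t : T ⟶ B) (e : Red.bc q B ≅ B'),
      IsMonHom iB ∧ IsClosedImmersion iB.left ∧ Smooth B.hom ∧ t ≫ iB = iT ∧
      Red.IsBorelOver K ((Over.pullback q).map iB) ∧ e.hom ≫ iB' = (Over.pullback q).map iB := by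
  obtain ⟨φ, rfl⟩ := Spec.map_surjective q
  letI : Algebra k K := φ.hom.toAlgebra
  obtain ⟨n, r, hr, hrc, a, hdiag⟩ := exists_diagRep C iT
  haveI := hr
  haveI := hrc
  obtain ⟨rK, hm, hc, hrK⟩ := exists_bcRep K r
  haveI := hm
  haveI := hc
  obtain ⟨b, hb, -, -⟩ := exists_cochar C hdiag hrK hG hT hB' t' ht'
  obtain ⟨B, _, iB, t, e, h1, h2, h3, h4, h5, h6, -⟩ := exists_borel_attr hdiag hrK b hB' hb
  exact ⟨B, inferInstance, iB, t, e, h1, h2, h3, h4, h5, h6⟩

end Groth.Agent.AttrBorel21
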