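import Groth.Agent.Lib.AttrBorel21.RegPts
import Groth.Agent.Lib.AttrBorel21.Geom
import Groth.Agent.Lib.GrpTrans20.Subschemes
import Groth.Agent.Lib.GeomRed18.Smooth
import Groth.Agent.Lib.RelCyc15.PerfectPull
import Groth.Agent.Lib.FinBorel21.Frob
import Groth.Agent.Lib.TorPts21.FieldDescent
import Groth.Agent.Lib.TorPts21.BaseChangeTorus

/-!
# Maximal tori exist over separably closed fields
-/

set_option autoImplicit false
set_option linter.style.haveILetI false
set_option backward.isDefEq.respectTransparency.types false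
universe u

open CategoryTheory Limits MonoidalCategory CartesianMonoidalCategory MonObj AlgebraicGeometry

noncomputable section

namespace Groth.Agent.AttrBorel21

open InvRing21 DiagGL TorPts21

attribute [local instance] InvRing21.gamAlg BorelFix21.ptsTop Curv2.resAlgebra

variable {k : Type u} [Field k] [IsSepClosed k]

/-- An algebraic extension of a separably closed field is purely inseparable. -/
theorem isPurelyInseparable_of_sepClosed (K : Type u) [Field K] [Algebra k K] [Algebra.IsAlgebraic k K] :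
    IsPurelyInseparable k K := by
  refine isPurelyInseparable_iff.2 fun x => ⟨Algebra.IsIntegral.isIntegral x, fun hsep => ?_⟩
  exact minpoly.mem_range_of_degree_eq_one _ _ (IsSepClosed.degree_eq_one_of_irreducible _
    (minpoly.irreducible (Algebra.IsIntegral.isIntegral x)) hsep)

set_option maxHeartbeats 1600000 in
/-- A nonempty open set of the base change to an algebraic extension contains a rational point. -/
theorem exists_kpt_mem {G : Over (Spec (CommRingCat.of k))} [Smooth G.hom] (K : Type u) [Field K] [Algebra k K]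
    [Algebra.IsAlgebraic k K] (O : (bcK K G).left.Opens) (hO : (O : Set (bcK K G).left).Nonempty) :
    ∃ g : 𝟙_ (Over (Spec (CommRingCat.of k))) ⟶ G,
      ∀ z : ↥(bcK K G).left, pullback.fst G.hom (DiagGL.ext' (k := k) K) z = g.left (IsLocalRing.closedPoint k) →
        z ∈ O := by
  let σ : Spec (CommRingCat.of K) ⟶ Spec (CommRingCat.of k) := DiagGL.ext' (k := k) K
  haveI : IsPurelyInseparable k K := isPurelyInseparable_of_sepClosed K
  haveI : UniversallyInjective σ := RelCyc15.universallyInjective_spec k K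
  haveI : Surjective σ := RelCyc15.surjective_spec k K
  haveI : IsIntegralHom σ := (IsIntegralHom.SpecMap_iff (φ := CommRingCat.ofHom (algebraMap k K))).2
    (algebraMap_isIntegral_iff.2 inferInstance)
  let π : (bcK K G).left ⟶ G.left := pullback.fst G.hom σ
  haveI : UniversallyInjective π := MorphismProperty.pullback_fst _ _ inferInstance
  haveI : Surjective π := inferInstanceAs (Surjective (pullback.fst G.hom σ))
  haveI : IsIntegralHom π := inferInstanceAs (IsIntegralHom (pullback.fst G.hom σ))
  have hinj : Function.Injective π := π.injective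
  -- the image is open
  have himg : IsOpen (π '' (O : Set (bcK K G).left)) := by
    rw [← isClosed_compl_iff, ← Set.image_compl_eq ⟨hinj, π.surjective⟩]
    exact π.isClosedMap _ O.2.isClosed_compl
  let O₀ : G.left.Opens := ⟨π '' O, himg⟩
  obtain ⟨z₀, hz₀⟩ := hO
  letI : G.left.Over (Spec (CommRingCat.of k)) := ⟨G.hom⟩
  haveI : Smooth (G.left ↘ Spec (CommRingCat.of k)) := ‹Smooth G.hom›
  haveI : Smooth (O₀.ι ≫ (G.left ↘ Spec (CommRingCat.of k))) := inferInstance
  obtain ⟨y, hyO, -, hfin, hsep⟩ := GeomRed.exists_separable_point (k := k) O₀ (x := π z₀) ⟨z₀, hz₀, rfl⟩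
  let τ : G.left.residueField y →ₐ[k] k := IsSepClosed.lift
  have key : (Spec.map (CommRingCat.ofHom τ.toRingHom) ≫ G.left.fromSpecResidueField y) ≫ G.hom = 𝟙 _ := by
    have k0 : Spec.map (CommRingCat.ofHom (Curv2.resMap k G.left y)) = G.left.fromSpecResidueField y ≫ G.hom :=
      GeomIrr.spec_resMap k G.left y
    have k1 : τ.toRingHom.comp (Curv2.resMap k G.left y) = RingHom.id k := τ.comp_algebraMap
    rw [Category.assoc, ← k0, ← Spec.map_comp, ← CommRingCat.ofHom_comp, k1]
    exact Spec.map_id _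
  let g : 𝟙_ (Over (Spec (CommRingCat.of k))) ⟶ G :=
    Over.homMk (Spec.map (CommRingCat.ofHom τ.toRingHom) ≫ G.left.fromSpecResidueField y) key
  refine ⟨g, fun z hz => ?_⟩
  have hgy : g.left (IsLocalRing.closedPoint k) = y := by
    show G.left.fromSpecResidueField y (Spec.map (CommRingCat.ofHom τ.toRingHom) (IsLocalRing.closedPoint k)) = y
    erw [Scheme.fromSpecResidueField_apply]
  obtain ⟨z₁, hz₁, e⟩ := hyO
  rwa [hinj ((hz.trans hgy).trans e.symm)]

set_option maxHeartbeats 3200000 in
/-- A reductive group over a separably closed field has a nonempty open set each of whose rational points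
has a maximal torus as its centraliser. -/
theorem exists_open_maximalTorus_centralizer {G : Over (Spec (CommRingCat.of k))} [GrpObj G] (hG : Red.IsReductive G) :
    ∃ U : G.left.Opens, (U : Set G.left).Nonempty ∧
      ∀ g : 𝟙_ (Over (Spec (CommRingCat.of k))) ⟶ G, g.left (IsLocalRing.closedPoint k) ∈ U →
      ∃ (T : Over (Spec (CommRingCat.of k))) (_ : GrpObj T) (iT : T ⟶ G),
        Red.IsMaximalTorus iT ∧ Red.IsCentralizerOf g iT := by
  obtain ⟨hGa, hGs, hGc⟩ := props_of_isReductive hG
  haveI := hGa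
  haveI := hGs
  haveI := hGc
  let s : ↥(Spec (CommRingCat.of k)) := IsLocalRing.closedPoint k
  obtain ⟨alg₀, halg, hgeq⟩ := FinBorel21.exists_geomAlg s
  letI := alg₀
  haveI := halg
  let K : Type u := AlgebraicClosure ((Spec (CommRingCat.of k)).residueField s)
  let φ : Spec (CommRingCat.of K) ⟶ Spec (CommRingCat.of k) := DiagGL.ext' (k := k) K
  have hR : Red.IsReductiveOver K (bcK K G) :=
    (show ∀ q, q = Red.geomPt s → Red.IsReductiveOver K (Red.bc q G) from fun q h => by
      subst h; exact hG.2.2 s) _ hgeq.symm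
  haveI := hR.1
  haveI := hR.2.1
  haveI := hR.2.2.1
  obtain ⟨S, _, iS, hS⟩ := TorPts21.exists_maxTorus (bcK K G)
  obtain ⟨O, hO, hreg⟩ := exists_regular_open hR hS
  haveI : IsPurelyInseparable k K := isPurelyInseparable_of_sepClosed K
  haveI : UniversallyInjective φ := RelCyc15.universallyInjective_spec k K
  haveI : Surjective φ := RelCyc15.surjective_spec k K
  haveI : IsIntegralHom φ := (IsIntegralHom.SpecMap_iff (φ := CommRingCat.ofHom (algebraMap k K))).2
    (algebraMap_isIntegral_iff.2 inferInstance)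
  let π : (bcK K G).left ⟶ G.left := pullback.fst G.hom φ
  haveI : UniversallyInjective π := MorphismProperty.pullback_fst _ _ inferInstance
  haveI : Surjective π := inferInstanceAs (Surjective (pullback.fst G.hom φ))
  haveI : IsIntegralHom π := inferInstanceAs (IsIntegralHom (pullback.fst G.hom φ))
  have himg : IsOpen (π '' (O : Set (bcK K G).left)) := by
    rw [← isClosed_compl_iff, ← Set.image_compl_eq ⟨π.injective, π.surjective⟩]
    exact π.isClosedMap _ O.2.isClosed_compl
  refine ⟨⟨π '' O, himg⟩, hO.image _, fun g hg₀ => ?_⟩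
  have hg : ∀ z : ↥(bcK K G).left, π z = g.left (IsLocalRing.closedPoint k) → z ∈ O := fun z hz => by
    obtain ⟨z₁, hz₁, e⟩ := hg₀
    rwa [π.injective (hz.trans e.symm)]
  obtain ⟨C, _, c, hcm, hci, hcu⟩ := GrpTrans20.exists_centralizer g
  haveI := hcm
  haveI := hci
  haveI : Mono c := Over.mono_of_mono_left c
  have hc : Red.IsCentralizerOf g c := ⟨hcm, inferInstance, hcu⟩
  obtain ⟨-, -, hcK⟩ := TorPts21.isCentralizerOf_bc φ hc
  -- the rational point of the base change
  let ε : 𝟙_ (Over (Spec (CommRingCat.of K))) ⟶ (Over.pullback φ).obj (𝟙_ (Over (Spec (CommRingCat.of k)))) :=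
    Over.homMk (pullback.lift φ (𝟙 _) (by rw [Category.id_comp]; exact Category.comp_id φ)) (pullback.lift_snd _ _ _)
  let x := ε ≫ (Over.pullback φ).map g
  have hxO : img' x ∈ O := hg _ (by
    show pullback.fst G.hom φ (x.left (IsLocalRing.closedPoint K)) = _
    have h1 : x.left ≫ pullback.fst G.hom φ = φ ≫ g.left := by
      show (ε.left ≫ ((Over.pullback φ).map g).left) ≫ pullback.fst G.hom φ = _
      rw [Category.assoc, show ((Over.pullback φ).map g).left ≫ pullback.fst G.hom φ = _ from pullback.lift_fst _ _ _,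
        ← Category.assoc]
      exact congrArg (· ≫ g.left) (pullback.lift_fst _ _ _)
    exact (congrArg (fun q : Spec (CommRingCat.of K) ⟶ G.left => q (IsLocalRing.closedPoint K)) h1).trans
      (congrArg g.left (Subsingleton.elim (α := PrimeSpectrum k) _ _)))
  obtain ⟨i', hi', huniv⟩ := hreg x hxO
  haveI := hi'.1
  haveI := hi'.2.1
  haveI : Mono ((Over.pullback φ).map c) := inferInstance
  have hterm : ∀ {X : Over (Spec (CommRingCat.of K))}
      (h : X ⟶ (Over.pullback φ).obj (𝟙_ (Over (Spec (CommRingCat.of k))))), h = toUnit X ≫ ε := fun {X} h => by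
    refine Over.OverMorphism.ext (pullback.hom_ext ?_ ((Over.w h).trans (Over.w (toUnit X ≫ ε)).symm))
    have e : ∀ h : X ⟶ (Over.pullback φ).obj (𝟙_ (Over (Spec (CommRingCat.of k)))),
        h.left ≫ pullback.fst (𝟙 (Spec (CommRingCat.of k))) φ = X.hom ≫ φ := fun h => by
      calc h.left ≫ pullback.fst (𝟙 (Spec (CommRingCat.of k))) φ
          = h.left ≫ pullback.fst (𝟙 (Spec (CommRingCat.of k))) φ ≫ 𝟙 _ := congrArg (h.left ≫ ·) (Category.comp_id _).symm
        _ = h.left ≫ pullback.snd (𝟙 (Spec (CommRingCat.of k))) φ ≫ φ := congrArg (h.left ≫ ·) pullback.condition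
        _ = (h.left ≫ pullback.snd (𝟙 (Spec (CommRingCat.of k))) φ) ≫ φ := (Category.assoc _ _ _).symm
        _ = X.hom ≫ φ := congrArg (· ≫ φ) (Over.w h)
    exact (e h).trans (e _).symm
  have hiff : ∀ (X : Over (Spec (CommRingCat.of K))) (f : X ⟶ bcK K G),
      (∃ z, z ≫ (Over.pullback φ).map c = f) ↔ ∃ z : X ⟶ S, z ≫ i' = f := fun X f => by
    rw [hcK X f, huniv X f]
    constructor
    · intro h
      have := h X (𝟙 X) (toUnit X ≫ ε)
      rwa [Category.id_comp, Category.assoc] at this
    · intro h X' w t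
      rw [hterm t, Category.assoc, ← comp_toUnit w, Category.assoc, ← MonObj.comp_mul, ← MonObj.comp_mul]
      exact congrArg (w ≫ ·) h
  obtain ⟨f₂, hf₂⟩ := (hiff S i').2 ⟨𝟙 S, Category.id_comp _⟩
  obtain ⟨f₁, hf₁⟩ := (hiff _ ((Over.pullback φ).map c)).1 ⟨𝟙 _, Category.id_comp _⟩
  let e : S ≅ (Over.pullback φ).obj C :=
    ⟨f₂, f₁, (cancel_mono i').1 (by rw [Category.assoc, hf₁, hf₂, Category.id_comp]),
      (cancel_mono ((Over.pullback φ).map c)).1 (by rw [Category.assoc, hf₂, hf₁, Category.id_comp])⟩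
  haveI : IsMonHom e.hom := by
    haveI : IsMonHom (f₂ ≫ (Over.pullback φ).map c) := hf₂ ▸ hi'.1
    exact BorelFix21.isMonHom_of_comp ((Over.pullback φ).map c) f₂ inferInstance
  let eG : Grp.mk ((Over.pullback φ).obj C) ≅ Grp.mk S := (Grp.mkIso' e).symm
  obtain ⟨d, ⟨Cd⟩⟩ := exists_chars hS.2.2.1
  have hCt : Red.IsTorus C := TorPts21.isTorus_of_bc φ (TorPts21.isTorus_of_chars (Cd.transport eG))
  refine ⟨C, inferInstance, c, ⟨hcm, inferInstance, hCt, fun s' => ?_⟩, hc⟩
  obtain rfl : s = s' := Subsingleton.elim _ _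
  refine (show ∀ q, q = φ → ∀ (T' : Over (Spec (CommRingCat.of K))) [GrpObj T'] (j : T' ⟶ Red.bc q G) [IsMonHom j]
      [Mono j] (f : Red.bc q C ⟶ T'), Red.IsTorus T' → f ≫ j = (Over.pullback q).map c → IsIso f from
    fun q h => by
      subst h
      intro T' _ j _ _ f hT' hf
      haveI : IsIso e.hom := ⟨⟨e.inv, e.hom_inv_id, e.inv_hom_id⟩⟩
      haveI : IsIso (e.hom ≫ f) := hi'.2.2.2 T' j (e.hom ≫ f) hT' (by rw [Category.assoc, hf]; exact hf₂)
      exact IsIso.of_isIso_comp_left e.hom f) _ hgeq

/-- A nonempty open set of a smooth scheme over a separably closed field contains a rational point. -/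
theorem exists_kpt_open {G : Over (Spec (CommRingCat.of k))} [Smooth G.hom] (U : G.left.Opens)
    (hU : (U : Set G.left).Nonempty) :
    ∃ g : 𝟙_ (Over (Spec (CommRingCat.of k))) ⟶ G, g.left (IsLocalRing.closedPoint k) ∈ U := by
  let π : (bcK k G).left ⟶ G.left := pullback.fst G.hom (DiagGL.ext' (k := k) k)
  haveI : Surjective (DiagGL.ext' (k := k) k) := RelCyc15.surjective_spec k k
  haveI : Surjective π := inferInstanceAs (Surjective (pullback.fst G.hom _))
  obtain ⟨g, hg⟩ := exists_kpt_mem k (π ⁻¹ᵁ U) (hU.preimage π.surjective)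
  obtain ⟨z, hz⟩ := π.surjective (g.left (IsLocalRing.closedPoint k))
  exact ⟨g, hz ▸ hg z hz⟩

/-- A reductive group over a separably closed field has a maximal torus. -/
theorem exists_isMaximalTorus_sepClosed {G : Over (Spec (CommRingCat.of k))} [GrpObj G] (hG : Red.IsReductive G) :
    ∃ (T : Over (Spec (CommRingCat.of k))) (_ : GrpObj T) (iT : T ⟶ G), Red.IsMaximalTorus iT := by
  obtain ⟨-, hGs, -⟩ := props_of_isReductive hG
  haveI := hGs
  obtain ⟨U, hU, h⟩ := exists_open_maximalTorus_centralizer hG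
  obtain ⟨g, hg⟩ := exists_kpt_open U hU
  obtain ⟨T, i, iT, hT, -⟩ := h g hg
  exact ⟨T, i, iT, hT⟩

end Groth.Agent.AttrBorel21
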