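import Groth.Agent.Lib.AttrBorel21.CentGenMain
import Groth.Agent.Lib.TorPts21.BorelNormalizer
import Groth.Agent.Lib.GrpTrans20.Subschemes
import Groth.Agent.Lib.TorusCentr19.Norm
import Groth.Agent.S3036

/-!
# The normaliser of the centraliser of a torus
-/

set_option autoImplicit false
set_option linter.style.haveILetI false
set_option linter.unusedSectionVars false
set_option backward.isDefEq.respectTransparency.types false
set_option maxSynthPendingDepth 3
universe u

open CategoryTheory Limits MonoidalCategory CartesianMonoidalCategory MonObj AlgebraicGeometry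

noncomputable section

namespace Groth.Agent.AttrBorel21

open TorPts21 MTRigid29 DiagGL

attribute [local instance] InvRing21.gamAlg BorelFix21.ptsTop

theorem normalizesSub_mul {S : Scheme.{u}} {G H X : Over S} [GrpObj G] {i : H ⟶ G} {a b : X ⟶ G}
    (ha : NormalizesSub i a) (hb : NormalizesSub i b) : NormalizesSub i (a * b) := fun X' x h => by
  rw [MonObj.comp_mul]
  constructor
  · obtain ⟨h', hh'⟩ := (hb X' x h).1
    obtain ⟨h'', hh''⟩ := (ha X' x h').1
    exact ⟨h'', by rw [← hh'', ← hh']; group⟩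
  · obtain ⟨h', hh'⟩ := (ha X' x h).2
    obtain ⟨h'', hh''⟩ := (hb X' x h').2
    exact ⟨h'', by rw [← hh'', ← hh']; group⟩

theorem normalizesSub_inv {S : Scheme.{u}} {G H X : Over S} [GrpObj G] {i : H ⟶ G} {a : X ⟶ G}
    (ha : NormalizesSub i a) : NormalizesSub i a⁻¹ := fun X' x h => by
  rw [GrpObj.comp_inv, inv_inv]
  exact ⟨(ha X' x h).2, (ha X' x h).1⟩

theorem normalizesSub_restrict {S : Scheme.{u}} {G H X Y : Over S} [GrpObj G] {i : H ⟶ G} {a : X ⟶ G}
    (ha : NormalizesSub i a) (t : Y ⟶ X) : NormalizesSub i (t ≫ a) := fun X' x h => by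
  rw [← Category.assoc]; exact ha X' (x ≫ t) h

/-- What normalises a subgroup normalises its centraliser. -/
theorem normalizesSub_centralizer {S : Scheme.{u}} {G T C X : Over S} [GrpObj G] [GrpObj T] [GrpObj C] {i : T ⟶ G}
    {c : C ⟶ G} (hC : Red.IsCentralizerOf i c) {g : X ⟶ G} (hg : NormalizesSub i g) : NormalizesSub c g := by
  intro X' x h
  have key : ∀ {X'' : Over S} (s : X'' ⟶ X') (t : X'' ⟶ T), (s ≫ h ≫ c) * (t ≫ i) = (t ≫ i) * (s ≫ h ≫ c) :=
    fun s t => (hC.2.2 _ (h ≫ c)).1 ⟨h, rfl⟩ _ s t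
  constructor
  · obtain ⟨w, hw⟩ := (hC.2.2 _ ((x ≫ g) * (h ≫ c) * (x ≫ g)⁻¹)).2 fun X'' s t => by
      obtain ⟨t', ht'⟩ := (hg X'' (s ≫ x) t).2
      have h1 : Commute (s ≫ h ≫ c) (t' ≫ i) := key s t'
      have h2 := (h1.map (MulAut.conj ((s ≫ x) ≫ g)).toMonoidHom).eq
      simp only [MulEquiv.coe_toMonoidHom, MulAut.conj_apply] at h2
      rw [show ((s ≫ x) ≫ g) * (t' ≫ i) * ((s ≫ x) ≫ g)⁻¹ = t ≫ i by rw [← ht']; group] at h2
      simpa only [MonObj.comp_mul, GrpObj.comp_inv, Category.assoc] using h2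
    exact ⟨w, hw.symm⟩
  · obtain ⟨w, hw⟩ := (hC.2.2 _ ((x ≫ g)⁻¹ * (h ≫ c) * (x ≫ g))).2 fun X'' s t => by
      obtain ⟨t', ht'⟩ := (hg X'' (s ≫ x) t).1
      have h1 : Commute (s ≫ h ≫ c) (t' ≫ i) := key s t'
      have h2 := (h1.map (MulAut.conj ((s ≫ x) ≫ g)⁻¹).toMonoidHom).eq
      simp only [MulEquiv.coe_toMonoidHom, MulAut.conj_apply, inv_inv] at h2
      rw [show ((s ≫ x) ≫ g)⁻¹ * (t' ≫ i) * ((s ≫ x) ≫ g) = t ≫ i by rw [← ht']; group] at h2
      simpa only [MonObj.comp_mul, GrpObj.comp_inv, Category.assoc] using h2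
    exact ⟨w, hw.symm⟩

variable {k : Type u} [Field k] [IsAlgClosed k]

set_option maxHeartbeats 1000000 in
/-- An infinitesimal deformation of the identity normalising the centraliser of a torus centralises the torus. -/
theorem conj_eq_of_deform {G T C : Over (Spec (CommRingCat.of k))} [GrpObj G] [GrpObj T] [GrpObj C] [Smooth G.hom]
    {i : T ⟶ G} [IsMonHom i] (hT : Red.IsTorus T) {c : C ⟶ G} (hC : Red.IsCentralizerOf i c)
    (D : Type u) [CommRing D] (J : Ideal D) (hJ : J ^ 2 = ⊥) (b : Spec (CommRingCat.of D) ⟶ Spec (CommRingCat.of k))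
    (h : Over.mk b ⟶ G) (hh : NormalizesSub c h)
    (h1 : (Over.homMk (Spec.map (CommRingCat.ofHom (Ideal.Quotient.mk J))) :
      Over.mk (Spec.map (CommRingCat.ofHom (Ideal.Quotient.mk J)) ≫ b) ⟶ Over.mk b) ≫ h = 1) :
    NormalizesSub i h := by
  obtain ⟨hcm, hcc, hcs⟩ := centralizer_props_gen hT hC
  haveI := hcm
  haveI := hC.2.1
  haveI := hcs
  obtain ⟨d, ⟨Ch⟩⟩ := exists_chars hT
  obtain ⟨iC, hiC, hiCm⟩ := TorPts21.exists_lift_centralizer hC (fun x y => commute_of_chars Ch x y)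
  haveI := hiCm
  have hcen : ∀ {X : Over (Spec (CommRingCat.of k))} (z : X ⟶ C) (t : X ⟶ T), z * (t ≫ iC) = (t ≫ iC) * z :=
    fun z t => (cancel_mono c).1 (by
      rw [MonObj.mul_comp, MonObj.mul_comp, Category.assoc, hiC]
      exact TorPts21.centralizer_comm hC z t)
  let str : ∀ (Y : Over (Spec (CommRingCat.of D))), (Over.map b).obj Y ⟶ Over.mk b := fun Y => Over.homMk Y.hom
  -- the conjugate homomorphism
  let W : (Over.map b).obj (Red.bc b T) ⟶ G :=
    (str _ ≫ h) * (fl b T (𝟙 (Red.bc b T)) ≫ i) * (str _ ≫ h)⁻¹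
  obtain ⟨z, hz⟩ : ∃ z, z ≫ c = W := by
    obtain ⟨z, hz⟩ := (hh _ (str _) (fl b T (𝟙 (Red.bc b T)) ≫ iC)).1
    exact ⟨z, by rw [← hz, Category.assoc, hiC]⟩
  obtain ⟨v, hv⟩ := fl_surjective b C (T := Red.bc b T) z
  have hvf : ∀ {Y : Over (Spec (CommRingCat.of D))} (y : Y ⟶ Red.bc b T),
      fl b C (y ≫ v) ≫ c = (str Y ≫ h) * (fl b T y ≫ i) * (str Y ≫ h)⁻¹ := fun {Y} y => by
    have e1 : (Over.map b).map y ≫ str (Red.bc b T) = str Y := Over.OverMorphism.ext (Over.w y)
    have e2 : (Over.map b).map y ≫ fl b T (𝟙 (Red.bc b T)) = fl b T y := by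
      rw [← fl_comp, Category.comp_id]
    rw [fl_comp, hv, Category.assoc, hz]
    simp only [W, MonObj.comp_mul, GrpObj.comp_inv, ← Category.assoc, e1, e2]
  haveI : IsMonHom v := TorsorSch25.isMonHom_of_points _ fun Y y y' => fl_injective b C ((cancel_mono c).1 (by
    rw [hvf, fl_mul b T, fl_mul b C, MonObj.mul_comp, MonObj.mul_comp, hvf, hvf]
    group))
  haveI : IsMonHom ((Over.pullback b).map iC) := TorsorSch25.isMonHom_of_points _ fun Y y y' => fl_injective b C (by
    rw [DiagGL.fl_comp_map, fl_mul, fl_mul, DiagGL.fl_comp_map, DiagGL.fl_comp_map, MonObj.mul_comp])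
  obtain ⟨A, _, _, j, hj, ⟨e⟩⟩ :=
    MTRigid29.exists_model_affine (MTRigid29.isMT_bc (MTRigid29.isMT_of_ft (TorPts21.isMultTypeFT_of_isTorus hT)) b)
  obtain ⟨g', -, hg'⟩ := MTRigid29.exists_conj_nilpotent e hj ⟨2, hJ⟩ (MorphismProperty.pullback_snd C.hom b hcs)
    ((Over.pullback b).map iC) v 1 fun Y p y => by
      refine fl_injective b C ((cancel_mono c).1 ?_)
      rw [MonObj.comp_one, _root_.one_mul, inv_one, _root_.mul_one, hvf, DiagGL.fl_comp_map, Category.assoc, hiC]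
      have hp : str Y ≫ h = 1 := by
        have e1 : (Over.homMk p.left (by
            show p.left ≫ Spec.map (CommRingCat.ofHom (Ideal.Quotient.mk J)) ≫ b = Y.hom ≫ b
            rw [← Category.assoc]; exact congrArg (· ≫ b) (Over.w p)) :
            (Over.map b).obj Y ⟶ Over.mk (Spec.map (CommRingCat.ofHom (Ideal.Quotient.mk J)) ≫ b)) ≫
            (Over.homMk (Spec.map (CommRingCat.ofHom (Ideal.Quotient.mk J))) :
              Over.mk (Spec.map (CommRingCat.ofHom (Ideal.Quotient.mk J)) ≫ b) ⟶ Over.mk b) = str Y :=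
          Over.OverMorphism.ext (Over.w p)
        rw [← e1, Category.assoc, h1, MonObj.comp_one]
      rw [hp, _root_.one_mul, inv_one, _root_.mul_one]
  -- hence the conjugate is the torus itself
  have hconj : ∀ {Y : Over (Spec (CommRingCat.of D))} (y : Y ⟶ Red.bc b T),
      (str Y ≫ h) * (fl b T y ≫ i) * (str Y ≫ h)⁻¹ = fl b T y ≫ i := fun {Y} y => by
    rw [← hvf, hg' Y y, fl_mul, fl_mul, DiagGL.fl_comp_map, fl_inv b C, hcen, mul_inv_cancel_right, Category.assoc, hiC]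
  have hfix : ∀ (X' : Over (Spec (CommRingCat.of k))) (x : X' ⟶ Over.mk b) (t : X' ⟶ T),
      (x ≫ h) * (t ≫ i) * (x ≫ h)⁻¹ = t ≫ i := by
    intro X' x t
    let Y : Over (Spec (CommRingCat.of D)) := Over.mk x.left
    let φ : X' ≅ (Over.map b).obj Y := Over.isoMk (Iso.refl _) ((Category.id_comp _).trans (Over.w x))
    obtain ⟨y, hy⟩ := fl_surjective b T (φ.inv ≫ t)
    have hx : φ.hom ≫ str Y = x := Over.OverMorphism.ext (Category.id_comp _)
    have := congrArg (φ.hom ≫ ·) (hconj y)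
    simp only [hy, MonObj.comp_mul, GrpObj.comp_inv, ← Category.assoc, hx, Iso.hom_inv_id, Category.id_comp] at this
    exact this
  intro X' x t
  refine ⟨⟨t, hfix X' x t⟩, ⟨t, ?_⟩⟩
  conv_lhs => rw [← hfix X' x t]
  group

set_option maxHeartbeats 1000000 in
/-- If the rational points normalising the centraliser of a torus normalise the torus, then all points do. -/
theorem normalizesSub_torus_of_centralizer {G T C : Over (Spec (CommRingCat.of k))} [GrpObj G] [GrpObj T] [GrpObj C]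
    [Smooth G.hom] [QuasiCompact G.hom] {i : T ⟶ G} [IsMonHom i] [Mono i] (hT : Red.IsTorus T) {c : C ⟶ G}
    (hC : Red.IsCentralizerOf i c)
    (hpt : ∀ x : VecGrp.pt k k ⟶ G, NormalizesSub c x → NormalizesSub i x)
    {X : Over (Spec (CommRingCat.of k))} (g : X ⟶ G) (hg : NormalizesSub c g) : NormalizesSub i g := by
  haveI : IsSeparated G.hom := AbRigid.isSeparated_of_grpObj G
  obtain ⟨hTa, hTs, -, -⟩ := TorPts21.props_of_isTorus hT
  haveI := hTa
  haveI := hTs
  haveI : QuasiCompact T.hom := inferInstance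
  haveI : QuasiCompact (i.left ≫ G.hom) := by rw [Over.w i]; infer_instance
  haveI : QuasiCompact i.left := QuasiCompact.of_comp i.left G.hom
  haveI : IsClosedImmersion i.left := Groth.Agent.S3036.result k T G i
  obtain ⟨hcm, hcc, hcs⟩ := centralizer_props_gen hT hC
  haveI := hcm
  haveI := hcc
  have hmt := TorPts21.isMultTypeFT_of_isTorus hT
  obtain ⟨NT, _, nT, hNT, hNTc, -⟩ := TorusCentr19.exists_normalizer' hmt ‹Smooth G.hom› i
  haveI := hNTc
  obtain ⟨NC, _, nC, hNCc, hNC⟩ := GrpTrans20.exists_normalizer c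
  haveI := hNCc
  haveI : Mono nC := hNC.2.1
  haveI : Mono nT := hNT.2.1
  haveI : LocallyOfFiniteType NC.hom := by rw [← Over.w nC]; infer_instance
  have hnC : NormalizesSub c nC := fun X' x h => (hNC.2.2 _ nC).1 ⟨𝟙 _, Category.id_comp _⟩ X' x h
  have hnT : NormalizesSub i nT := fun X' x h => (hNT.2.2 _ nT).1 ⟨𝟙 _, Category.id_comp _⟩ X' x h
  obtain ⟨m, hm⟩ := (hNC.2.2 _ nT).2 (normalizesSub_centralizer hC hnT)
  haveI : IsClosedImmersion (m.left ≫ nC.left) := by rw [← Over.comp_left, hm]; infer_instance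
  haveI : IsClosedImmersion m.left := IsClosedImmersion.of_comp m.left nC.left
  -- it suffices to treat the normaliser itself
  suffices hlift : ∀ (U : NC.left.Opens), IsAffineOpen U → ∃ l : U.toScheme ⟶ NT.left, l ≫ m.left = U.ι by
    obtain ⟨x, rfl⟩ := (hNC.2.2 _ g).2 hg
    refine normalizesSub_restrict ?_ x
    haveI : Surjective m.left := ⟨fun p => by
      obtain ⟨U, hU, hpU, -⟩ := exists_isAffineOpen_mem_and_subset (X := NC.left) (x := p) (U := ⊤) trivial
      obtain ⟨l, hl⟩ := hlift U hU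
      exact ⟨l ⟨p, hpU⟩, by rw [← Scheme.Hom.comp_apply, hl]; rfl⟩⟩
    have hl : ∀ p : NC.left, ∃ (U : NC.left.Opens), p ∈ U ∧ ∃ l : U.toScheme ⟶ NT.left, l ≫ m.left = U.ι := fun p => by
      obtain ⟨U, hU, hpU, -⟩ := exists_isAffineOpen_mem_and_subset (X := NC.left) (x := p) (U := ⊤) trivial
      exact ⟨U, hpU, hlift U hU⟩
    choose U hpU l hlU using hl
    let 𝒰 : NC.left.OpenCover := Scheme.openCoverOfIsOpenCover NC.left U
      (TopologicalSpace.IsOpenCover.mk (top_le_iff.1 fun p _ => TopologicalSpace.Opens.mem_iSup.2 ⟨p, hpU p⟩))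
    let s : NC.left ⟶ NT.left := 𝒰.glueMorphisms l fun a b => by
      rw [← cancel_mono m.left, Category.assoc, Category.assoc]
      erw [hlU a, hlU b]
      exact pullback.condition
    have hs : s ≫ m.left = 𝟙 _ := 𝒰.hom_ext _ _ fun a => by
      rw [← Category.assoc, Scheme.Cover.ι_glueMorphisms, Category.comp_id]; exact hlU a
    have hsm : (Over.homMk s (by rw [← Over.w m, ← Category.assoc, hs, Category.id_comp]) : NC ⟶ NT) ≫ m = 𝟙 NC :=
      Over.OverMorphism.ext hs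
    have := normalizesSub_restrict hnT (Over.homMk s (by rw [← Over.w m, ← Category.assoc, hs, Category.id_comp]) : NC ⟶ NT)
    rwa [← hm, ← Category.assoc, hsm, Category.id_comp] at this
  intro U hU
  haveI : IsAffine U.toScheme := hU
  let U' : Over (Spec (CommRingCat.of k)) := Over.mk (U.ι ≫ NC.hom)
  let ιU : U' ⟶ NC := Over.homMk U.ι rfl
  haveI : IsAffine U'.left := hU
  haveI : LocallyOfFiniteType U'.hom := inferInstanceAs (LocallyOfFiniteType (U.ι ≫ NC.hom))
  let P : Over (Spec (CommRingCat.of k)) := Over.mk (pullback.fst U.ι m.left ≫ U'.hom)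
  let pU : P ⟶ U' := Over.homMk (pullback.fst U.ι m.left) rfl
  let pT : P ⟶ NT := Over.homMk (pullback.snd U.ι m.left) (by
    show _ ≫ NT.hom = pullback.fst U.ι m.left ≫ U.ι ≫ NC.hom
    rw [← Over.w m, ← pullback.condition_assoc])
  haveI : IsClosedImmersion pU.left := inferInstanceAs (IsClosedImmersion (pullback.fst U.ι m.left))
  have hsq' : pU ≫ ιU = pT ≫ m := Over.OverMorphism.ext pullback.condition
  have hmkP : ∀ {Y : Over (Spec (CommRingCat.of k))} (u : Y ⟶ U') (t : Y ⟶ NT), u ≫ ιU = t ≫ m →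
      ∃ w : Y ⟶ P, w ≫ pU = u := fun {Y} u t hut =>
    ⟨Over.homMk (pullback.lift u.left t.left (congrArg CommaMorphism.left hut)) (by
      show pullback.lift _ _ _ ≫ pullback.fst U.ι m.left ≫ U'.hom = _
      rw [pullback.lift_fst_assoc, Over.w u]), Over.OverMorphism.ext (pullback.lift_fst _ _ _)⟩
  obtain ⟨f, hf⟩ := exists_lift_of_points_of_squareZero pU (𝟙 U') (fun x => by
    obtain ⟨t, ht⟩ := (hNT.2.2 _ (x ≫ ιU ≫ nC)).2 (hpt _ (by
      rw [← Category.assoc]; exact normalizesSub_restrict hnC _))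
    obtain ⟨w, hw⟩ := hmkP x t ((cancel_mono nC).1 (by rw [Category.assoc, Category.assoc, hm, ht]))
    exact ⟨w, by rw [hw, Category.comp_id]⟩) fun D _ J hJ b g ⟨z, hz⟩ => by
    let r : Over.mk (Spec.map (CommRingCat.ofHom (Ideal.Quotient.mk J)) ≫ b) ⟶ Over.mk b :=
      Over.homMk (Spec.map (CommRingCat.ofHom (Ideal.Quotient.mk J)))
    let zP : Over.mk (Spec.map (CommRingCat.ofHom (Ideal.Quotient.mk J)) ≫ b) ⟶ P := Over.homMk z (by
      show z ≫ pU.left ≫ U'.hom = Spec.map _ ≫ b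
      rw [← Category.assoc, hz]
      simp only [Over.id_left, Category.comp_id, Category.assoc]
      exact congrArg (Spec.map _ ≫ ·) (Over.w g))
    have hzP : zP ≫ pU = r ≫ g := Over.OverMorphism.ext (hz.trans (by rw [Over.id_left, Category.comp_id]; rfl))
    let g₀ := (zP ≫ pT) ≫ nT
    have hg₀ : g₀ = r ≫ g ≫ ιU ≫ nC := by
      simp only [g₀, ← hm, Category.assoc, ← reassoc_of% hsq', reassoc_of% hzP]
    obtain ⟨g₁, hg₁, hg₁'⟩ := TorusCentr19.exists_lift_of_conj' hmt hmt ‹Smooth G.hom› i i D J hJ b g₀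
      (fun X' x => ⟨fun a => ((normalizesSub_restrict hnT (zP ≫ pT)) X' x a).1,
        fun a => ((normalizesSub_restrict hnT (zP ≫ pT)) X' x a).2⟩)
    have hn₁ : NormalizesSub i g₁ := fun X' x a => ⟨(hg₁' X' x).1 a, (hg₁' X' x).2 a⟩
    have hred : r ≫ g₁ = g₀ := Over.OverMorphism.ext hg₁
    have hh : NormalizesSub i ((g ≫ ιU ≫ nC) * g₁⁻¹) :=
      conj_eq_of_deform hT hC D J hJ b _ (normalizesSub_mul (by
        rw [← Category.assoc]; exact normalizesSub_restrict hnC _)
        (normalizesSub_inv (normalizesSub_centralizer hC hn₁))) (by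
        rw [MonObj.comp_mul, GrpObj.comp_inv, hred, ← hg₀, mul_inv_cancel])
    obtain ⟨t, ht⟩ := (hNT.2.2 _ (g ≫ ιU ≫ nC)).2 (by
      have := normalizesSub_mul hh hn₁
      rwa [inv_mul_cancel_right] at this)
    obtain ⟨w, hw⟩ := hmkP g t ((cancel_mono nC).1 (by rw [Category.assoc, Category.assoc, hm, ht]))
    exact ⟨w, by rw [hw, Category.comp_id]⟩
  refine ⟨f.left ≫ pT.left, ?_⟩
  have := congrArg CommaMorphism.left hsq'
  simp only [Over.comp_left] at this
  rw [Category.assoc, ← this, ← Category.assoc, ← Over.comp_left, hf]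
  exact Category.id_comp _

set_option maxHeartbeats 1000000 in
/-- A rational point normalising the centraliser of a maximal torus normalises the torus. -/
theorem normalizesSub_maxTorus_pt {G T C : Over (Spec (CommRingCat.of k))} [GrpObj G] [GrpObj T] [GrpObj C]
    [LocallyOfFiniteType G.hom] {i : T ⟶ G} (hT : AGF.IsMaxTorus i) {c : C ⟶ G}
    (hC : Red.IsCentralizerOf i c) (x : VecGrp.pt k k ⟶ G) (hx : NormalizesSub c x) : NormalizesSub i x := by
  haveI := hT.1
  haveI := hT.2.1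
  haveI := hC.1
  haveI := hC.2.1
  obtain ⟨a, rfl⟩ := TorPts21.exists_gpt x
  obtain ⟨d, ⟨Ch⟩⟩ := exists_chars hT.2.2.1
  obtain ⟨iC, hiC, -⟩ := TorPts21.exists_lift_centralizer hC (fun x y => commute_of_chars Ch x y)
  have hpt : ∀ (X : Over (Spec (CommRingCat.of k))) (e : X ⟶ VecGrp.pt k k), e ≫ TorPts21.gpt a = toUnit X ≫ a :=
    fun X e => by rw [TorPts21.gpt, ← Category.assoc, comp_toUnit]
  have hc' : ∀ (X : Over (Spec (CommRingCat.of k))) (u : X ⟶ T),
      ∃ w : X ⟶ C, w ≫ c = u ≫ AGF.conjBy a i := fun X u => by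
    obtain ⟨w, hw⟩ := (hx X (InvRing21.toPt X) (u ≫ iC)).1
    refine ⟨w, ?_⟩
    rw [← hw, comp_conjBy, hpt, Category.assoc, hiC]
  haveI := TorPts21.isMonHom_conjBy a i
  haveI := TorPts21.mono_conjBy a i
  obtain ⟨R, _, m, f₁, f₂, hm, hmono, hR, hf₁, hf₂⟩ := exists_torus_ge_of_commute hT.2.2.1 hT.2.2.1
    (AGF.conjBy a i) i fun X u t => by
      obtain ⟨w, hw⟩ := hc' X u
      rw [← hw]
      exact TorPts21.centralizer_comm hC w t
  haveI := hm
  haveI := hmono
  haveI : IsIso f₁ := (TorPts21.isMaxTorus_conjBy hT a).2.2.2 R m f₁ hR hf₁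
  haveI : IsIso f₂ := hT.2.2.2 R m f₂ hR hf₂
  intro X' e h
  have hconj : ∀ u : X' ⟶ T, (e ≫ TorPts21.gpt a) * (u ≫ i) * (e ≫ TorPts21.gpt a)⁻¹ = (u ≫ f₁ ≫ inv f₂) ≫ i := by
    intro u
    rw [hpt, ← comp_conjBy, ← hf₁, Category.assoc, Category.assoc,
      show inv f₂ ≫ i = m from (IsIso.inv_comp_eq f₂).2 hf₂.symm]
  refine ⟨⟨_, hconj h⟩, h ≫ f₂ ≫ inv f₁, ?_⟩
  have := hconj (h ≫ f₂ ≫ inv f₁)
  simp only [Category.assoc, IsIso.inv_hom_id_assoc, IsIso.hom_inv_id_assoc] at this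
  rw [← this]
  simp only [Category.assoc]
  group

end Groth.Agent.AttrBorel21
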