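import Groth.Agent.Lib.AttrBorel21.PlaneAux
import Groth.Agent.Lib.TorPts21.BorelCover
import Groth.Agent.Lib.BorelLam21.Data

/-!
# No two proportional weights occur in a unipotent plane transversal to a Borel subgroup
-/

set_option autoImplicit false
set_option linter.style.haveILetI false
set_option backward.isDefEq.respectTransparency.types false
universe u

open CategoryTheory Limits MonoidalCategory CartesianMonoidalCategory MonObj AlgebraicGeometry

noncomputable section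

namespace Groth.Agent.AttrBorel21

open MatGrp21 InvRing21 DiagGL TorPts21 BigCell21 BorelLam21
open scoped Matrix

attribute [local instance] InvRing21.gamAlg BorelFix21.ptsTop

variable {k : Type u} [Field k] [IsAlgClosed k] {n d : ℕ}
  {G B T : Over (Spec (CommRingCat.of k))} [GrpObj G] [GrpObj B] [GrpObj T] [IsAffine G.left]

/-- Functions are polynomial along a polynomial family of matrices of determinant one. -/
theorem exists_poly_val (r : G ⟶ GLs k n) [IsClosedImmersion r.left] {σ : Type}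
    (M : Matrix (Fin n) (Fin n) (MvPolynomial σ k)) (hdet : M.det = 1) (F : Γ(G.left, ⊤)) :
    ∃ f : MvPolynomial σ k, ∀ (v : σ → k) (x : VecGrp.pt k k ⟶ G),
      (mtxFn r x : Matrix (Fin n) (Fin n) k) = M.map (MvPolynomial.eval v) → val x F = MvPolynomial.eval v f := by
  haveI : IsAffine (GLs k n).left := inferInstanceAs (IsAffine (Spec _))
  obtain ⟨g, rfl⟩ : ∃ g : CoordGrp.GLn n k,
      r.left.appTop ((Scheme.ΓSpecIso (CommRingCat.of (CoordGrp.GLn n k))).inv g) = F := by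
    obtain ⟨g', hg'⟩ := (IsClosedImmersion.isAffine_surjective_of_isAffine r.left).2 F
    exact ⟨(Scheme.ΓSpecIso (CommRingCat.of (CoordGrp.GLn n k))).hom g', by
      rw [show (Scheme.ΓSpecIso (CommRingCat.of (CoordGrp.GLn n k))).inv
        ((Scheme.ΓSpecIso (CommRingCat.of (CoordGrp.GLn n k))).hom g') = g' from
          ConcreteCategory.congr_hom (Scheme.ΓSpecIso _).hom_inv_id g', hg']⟩
  refine ⟨CoordGrp.GLn.pt n k M (1 : MvPolynomial σ k) (by rw [hdet, _root_.mul_one]) g, fun v x hx => ?_⟩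
  rw [val_eq_evalGL]
  have he : evalGL (mtxFn r x) = (MvPolynomial.aeval v).comp (CoordGrp.GLn.pt n k M (1 : MvPolynomial σ k)
      (by rw [hdet, _root_.mul_one])) := by
    refine CoordGrp.GLn.algHom_ext (fun i j => ?_) ?_
    · rw [AlgHom.comp_apply, CoordGrp.GLn.pt_X, evalGL, CoordGrp.GLn.pt_X, hx]
      exact (congrFun (congrFun (rfl : (M.map (MvPolynomial.eval v)) = _) i) j)
    · rw [AlgHom.comp_apply, CoordGrp.GLn.pt_Dinv, evalGL, CoordGrp.GLn.pt_Dinv, map_one, hx,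
        show (M.map (MvPolynomial.eval v)).det = MvPolynomial.eval v M.det from
          ((MvPolynomial.eval v).map_det M).symm, hdet, map_one, inv_one]
  rw [he]
  rfl

/-- A weight supporting the eigen line of a Borel subgroup. -/
theorem eq_of_ptChr_mul_eq {C : Chars (Fin d → ℤ) T} {g h : Fin d → ℤ} {z : k} (hz : z ≠ 0)
    (he : ∀ τ : VecGrp.pt k k ⟶ T,
      ptChr C τ (Multiplicative.ofAdd g) * z = ptChr C τ (Multiplicative.ofAdd h) * z) : g = h :=
  eq_of_forall_ptChr C fun τ => mul_right_cancel₀ hz (he τ)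

variable [Smooth G.hom] [ConnectedSpace G.left]

set_option maxHeartbeats 4000000 in
/-- **No plane of proportional weights is transversal to a Borel subgroup.** -/
theorem false_of_plane {iB : B ⟶ G} (hB : Red.IsBorelOver k iB) {iT : T ⟶ G} (hT : AGF.IsMaxTorus iT)
    (t : T ⟶ B) (ht : t ≫ iB = iT) (C : Chars (Fin d → ℤ) T) (r : G ⟶ GLs k n) [IsMonHom r]
    [IsClosedImmersion r.left] (a : Fin n → Fin d → ℤ)
    (hdiag : ∀ τ : VecGrp.pt k k ⟶ T, (mtxFn r (τ ≫ iT) : Matrix (Fin n) (Fin n) k) =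
      Matrix.diagonal fun j => ptChr C τ (Multiplicative.ofAdd (a j)))
    (b : Fin d → ℤ) (hBb : ∀ x, (∃ y, y ≫ iB = x) ↔ x ∈ upPts r (wt a b))
    (α : Fin d → ℤ) (hα : pairing α b < 0) (c₂ : ℕ) (hc₂ : c₂ ≠ 0)
    (M : Matrix (Fin n) (Fin n) (MvPolynomial (Fin 2) k)) (hdet : M.det = 1)
    (hM0 : M.map (MvPolynomial.eval ![0, 0]) = 1)
    (hrange : ∀ x y : k, ∃ g : VecGrp.pt k k ⟶ G,
      (mtxFn r g : Matrix (Fin n) (Fin n) k) = M.map (MvPolynomial.eval ![x, y]))
    (hmono : ∀ i j s, MvPolynomial.coeff s (M i j) ≠ 0 → ((s 0 : ℤ) + c₂ * (s 1 : ℤ)) • α = a i - a j)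
    (hinj : ∀ x y : k, IsUp (wt a b) (M.map (MvPolynomial.eval ![x, y])) → x = 0 ∧ y = 0) : False := by
  classical
  obtain ⟨hm, hcl, hs, hn, hsol, -⟩ := id hB
  haveI := hm
  haveI := hcl
  haveI := hs
  haveI := hn
  haveI := hT.1
  haveI := hT.2.1
  have hαne : α ≠ 0 := fun h => by simp [h, pairing] at hα
  choose π hπ using hrange
  have hπinj : ∀ (x y : k) (g : VecGrp.pt k k ⟶ G),
      (mtxFn r g : Matrix (Fin n) (Fin n) k) = M.map (MvPolynomial.eval ![x, y]) → g = π x y := fun x y g hg =>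
    mtxFn_injective r (Units.ext (hg.trans (hπ x y).symm))
  have hπ0 : π 0 0 = 1 := (hπinj 0 0 1 (by rw [← mtx_apply, map_one, hM0]; rfl)).symm
  -- the line representation
  obtain ⟨X, act, o, m, c, l, hX, hprop, ⟨R, hR, hρ⟩, hsemi, hne, hsep, -⟩ := exists_borel_charts hB hT
  haveI := hprop
  haveI := hR
  have hright : ∀ x (y : VecGrp.pt k k ⟶ B), vec c (x * (y ≫ iB)) = l y • vec c x := fun x y => funext fun q =>
    hsemi q x y
  have hvne : ∀ x, vec c x ≠ 0 := fun x h => by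
    obtain ⟨q, hq⟩ := hne x
    exact hq (congrFun h q)
  have hlne : ∀ y, l y ≠ 0 := fun y h => hvne (1 * (y ≫ iB)) (by rw [hright, h, zero_smul])
  obtain ⟨P, ω, hP⟩ := exists_weights C (iT ≫ R)
  let e : (VecGrp.pt k k ⟶ T) → Fin m → k := fun τ j => ptChr C τ (Multiplicative.ofAdd (ω j))
  let w : (VecGrp.pt k k ⟶ G) → Fin m → k := fun x => (P : Matrix (Fin m) (Fin m) k) *ᵥ vec c x
  have hPP : ∀ u : Fin m → k, ((P⁻¹ : GL (Fin m) k) : Matrix (Fin m) (Fin m) k) *ᵥ
      ((P : Matrix (Fin m) (Fin m) k) *ᵥ u) = u := fun u => by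
    rw [Matrix.mulVec_mulVec, Units.inv_mul, Matrix.one_mulVec]
  have hvw : ∀ x, vec c x = ((P⁻¹ : GL (Fin m) k) : Matrix (Fin m) (Fin m) k) *ᵥ w x := fun x => (hPP _).symm
  have hwne : ∀ x, w x ≠ 0 := fun x h => hvne x (by rw [hvw, h, Matrix.mulVec_zero])
  have hwright : ∀ x (y : VecGrp.pt k k ⟶ B), w (x * (y ≫ iB)) = l y • w x := fun x y => by
    simp only [w, hright, Matrix.mulVec_smul]
  have hwτ : ∀ τ x j, w ((τ ≫ iT) * x) j = e τ j * w x j := fun τ x j => by
    have h1 : (P : Matrix (Fin m) (Fin m) k) * (mtx R (τ ≫ iT) : Matrix (Fin m) (Fin m) k) =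
        Matrix.diagonal (e τ) * (P : Matrix (Fin m) (Fin m) k) := by
      rw [← hP τ, ← Units.val_mul, ← Units.val_mul, mtx_comp, inv_mul_cancel_right]
    show ((P : Matrix (Fin m) (Fin m) k) *ᵥ vec c ((τ ≫ iT) * x)) j = _
    rw [hρ, Matrix.mulVec_mulVec, h1, ← Matrix.mulVec_mulVec, Matrix.mulVec_diagonal]
  -- the weight of the base point
  obtain ⟨A₀, hA₀, hlA₀⟩ : ∃ A₀, (∀ j, w 1 j ≠ 0 → ω j = A₀) ∧
      ∀ τ : VecGrp.pt k k ⟶ T, l (τ ≫ t) = ptChr C τ (Multiplicative.ofAdd A₀) := by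
    obtain ⟨j₀, hj₀⟩ := Function.ne_iff.1 (hwne 1)
    have h1 : ∀ (τ : VecGrp.pt k k ⟶ T) j, e τ j * w 1 j = l (τ ≫ t) * w 1 j := fun τ j => by
      rw [← hwτ, _root_.mul_one, show τ ≫ iT = 1 * ((τ ≫ t) ≫ iB) by rw [Category.assoc, ht, _root_.one_mul],
        hwright]
      rfl
    refine ⟨ω j₀, fun j hj => eq_of_forall_ptChr C fun τ => ?_, fun τ => (mul_right_cancel₀ hj₀ (h1 τ j₀)).symm⟩
    exact (mul_right_cancel₀ hj (h1 τ j)).trans (mul_right_cancel₀ hj₀ (h1 τ j₀)).symm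
  -- polynomiality
  choose p hp using fun q => exists_poly_val r M hdet (c q)
  let f : Fin m → MvPolynomial (Fin 2) k := fun j =>
    ∑ q, MvPolynomial.C ((P : Matrix (Fin m) (Fin m) k) j q) * p q
  have hf : ∀ x y j, MvPolynomial.eval ![x, y] (f j) = w (π x y) j := fun x y j => by
    simp only [f, w, map_sum, map_mul, MvPolynomial.eval_C, Matrix.mulVec, dotProduct]
    exact Finset.sum_congr rfl fun q _ => by rw [show vec c (π x y) q = _ from hp q ![x, y] _ (hπ x y)]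
  let sc : (VecGrp.pt k k ⟶ T) → Fin 2 → k := fun τ =>
    ![ptChr C τ (Multiplicative.ofAdd α), ptChr C τ (Multiplicative.ofAdd ((c₂ : ℤ) • α))]
  have hscs : ∀ τ (s : Fin 2 →₀ ℕ), ∏ i, sc τ i ^ s i =
      ptChr C τ (Multiplicative.ofAdd (((s 0 : ℤ) + c₂ * (s 1 : ℤ)) • α)) := fun τ s => by
    rw [Fin.prod_univ_two]
    simp only [sc, Matrix.cons_val_zero, Matrix.cons_val_one, Matrix.cons_val_fin_one, ← map_pow, ← map_mul,
      ← ofAdd_nsmul, ← ofAdd_add]
    congr 2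
    rw [add_smul, natCast_zsmul, natCast_zsmul, ← smul_assoc, mul_comm (c₂ : ℤ) _, ← Nat.cast_mul, natCast_zsmul,
      smul_eq_mul]
  have hequiv : ∀ τ x y, (τ ≫ iT) * π x y = π (sc τ 0 * x) (sc τ 1 * y) * (τ ≫ iT) := fun τ x y => by
    refine mtxFn_injective r (Units.ext ?_)
    rw [← mtx_apply, ← mtx_apply, map_mul, map_mul, Units.val_mul, Units.val_mul, mtx_apply, mtx_apply, mtx_apply,
      hdiag, hπ, hπ]
    ext i j
    rw [Matrix.diagonal_mul, Matrix.mul_diagonal, Matrix.map_apply, Matrix.map_apply,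
      MvPolynomial.eval_eq', MvPolynomial.eval_eq', Finset.mul_sum, Finset.sum_mul]
    refine Finset.sum_congr rfl fun s hs => ?_
    have h2 : ptChr C τ (Multiplicative.ofAdd (a i)) =
        (∏ q, sc τ q ^ s q) * ptChr C τ (Multiplicative.ofAdd (a j)) := by
      rw [hscs, hmono i j s (MvPolynomial.mem_support_iff.1 hs), ← map_mul, ← ofAdd_add, sub_add_cancel]
    rw [h2, Fin.prod_univ_two, Fin.prod_univ_two, Fin.prod_univ_two]
    simp only [Matrix.cons_val_zero, Matrix.cons_val_one, Matrix.cons_val_fin_one, mul_pow]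
    ring
  have hfmono : ∀ j s, MvPolynomial.coeff s (f j) ≠ 0 → ω j = A₀ + ((s 0 : ℤ) + c₂ * (s 1 : ℤ)) • α := by
    intro j s hs
    refine eq_of_ptChr_mul_eq (C := C) hs fun τ => ?_
    have h1 : MvPolynomial.C (ptChr C τ (Multiplicative.ofAdd A₀)) *
        MvPolynomial.aeval (fun i => MvPolynomial.C (sc τ i) * MvPolynomial.X i) (f j) =
        MvPolynomial.C (e τ j) * f j := MvPolynomial.funext fun v => by
      obtain ⟨x, y, rfl⟩ : ∃ x y, v = ![x, y] := ⟨v 0, v 1, by funext i; fin_cases i <;> rfl⟩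
      rw [map_mul, map_mul, MvPolynomial.eval_C, MvPolynomial.eval_C, hf,
        show MvPolynomial.eval ![x, y] (MvPolynomial.aeval (fun i => MvPolynomial.C (sc τ i) * MvPolynomial.X i) (f j))
          = MvPolynomial.eval ![sc τ 0 * x, sc τ 1 * y] (f j) from ?_, hf]
      · rw [← hwτ, hequiv, show τ ≫ iT = (τ ≫ t) ≫ iB from ((Category.assoc τ t iB).trans (congrArg (τ ≫ ·) ht)).symm, hwright, hlA₀]
        rfl
      · show MvPolynomial.aeval ![x, y] (MvPolynomial.aeval _ (f j)) = _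
        rw [← AlgHom.comp_apply, MvPolynomial.comp_aeval]
        show MvPolynomial.eval _ (f j) = _
        congr 2
        funext i
        fin_cases i <;> simp
    have h2 := congrArg (MvPolynomial.coeff s) h1
    rw [MvPolynomial.coeff_C_mul, MvPolynomial.coeff_C_mul, coeff_rescale, hscs, ← _root_.mul_assoc, ← map_mul,
      ← ofAdd_add] at h2
    exact h2.symm
  have hconst : ∀ j, ω j = A₀ → ∀ x y, w (π x y) j = w 1 j := fun j hj x y => by
    have h1 : f j = MvPolynomial.C (MvPolynomial.coeff 0 (f j)) := MvPolynomial.ext _ _ fun s => by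
      rw [MvPolynomial.coeff_C]
      split_ifs with h
      · rw [h]
      · by_contra hs
        have h2 := hfmono j s hs
        rw [hj, left_eq_add, smul_eq_zero] at h2
        have h3 := h2.resolve_right hαne
        have hc : (1 : ℤ) ≤ c₂ := by omega
        refine h (Finsupp.ext fun i => ?_)
        have : (s 1 : ℤ) ≤ c₂ * (s 1 : ℤ) := le_mul_of_one_le_left (by positivity) hc
        fin_cases i <;> simp <;> omega
    rw [← hf, ← hπ0, ← hf, h1, MvPolynomial.eval_C, MvPolynomial.eval_C]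
  -- the extreme part of a nonzero point of the plane is a fixed line of a weight different from `A₀`
  let ρ : ℤ := -pairing α b
  have hρpos : 0 < ρ := by simp only [ρ]; omega
  have hlim : ∀ x y : k, x ≠ 0 ∨ y ≠ 0 → ∃ (g : VecGrp.pt k k ⟶ G) (lam : k) (N : ℤ), lam ≠ 0 ∧ N ≠ 0 ∧
      (∀ j, w g j ≠ 0 → ω j = A₀ + N • α) ∧ ∀ j, ω j = A₀ + N • α → w (π x y) j = lam * w g j := by
    intro x y hxy
    have hN : ∀ j, w (π x y) j ≠ 0 → ∃ N : ℤ, 0 ≤ N ∧ ω j = A₀ + N • α := fun j hj => by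
      rw [← hf, MvPolynomial.eval_eq'] at hj
      obtain ⟨s, hs, -⟩ := Finset.exists_ne_zero_of_sum_ne_zero hj
      exact ⟨_, by positivity, hfmono j s (MvPolynomial.mem_support_iff.1 hs)⟩
    have hex : ∃ j, w (π x y) j ≠ 0 ∧ ω j ≠ A₀ := by
      by_contra! hall
      have h1 : w (π x y) = (1 : k) • w 1 := by
        rw [one_smul]
        funext j
        by_cases hj : ω j = A₀
        · exact hconst j hj x y
        · rw [show w 1 j = 0 from by_contra fun h => hj (hA₀ j h),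
            show w (π x y) j = 0 from by_contra fun h => hj (hall j h)]
      obtain ⟨y', hy'⟩ := hsep 1 (π x y) 1 (by rw [hvw, h1, Matrix.mulVec_smul, ← hvw])
      have h2 := (hBb (π x y)).1 ⟨y', by rw [hy', _root_.one_mul]⟩
      rw [mem_upPts, hπ] at h2
      obtain ⟨rfl, rfl⟩ := hinj x y h2
      simp at hxy
    let n₀ : Fin m → ℤ := fun j => -pairing (ω j) b
    have hn₀ : ∀ (N : ℤ) j, ω j = A₀ + N • α → n₀ j = -pairing A₀ b + N * ρ := fun N j hj => by
      simp only [n₀, ρ, hj, pairing, Pi.add_apply, Pi.smul_apply, smul_eq_mul, add_mul, Finset.sum_add_distrib,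
        mul_neg, Finset.mul_sum, _root_.mul_assoc]
      ring
    obtain ⟨j₁, hj₁, hj₁A⟩ := hex
    obtain ⟨j₀, hj₀, hmax⟩ := (Finset.univ.filter fun j => w (π x y) j ≠ 0).exists_max_image n₀
      ⟨j₁, Finset.mem_filter.2 ⟨Finset.mem_univ _, hj₁⟩⟩
    replace hj₀ := (Finset.mem_filter.1 hj₀).2
    replace hmax : ∀ j, w (π x y) j ≠ 0 → n₀ j ≤ n₀ j₀ := fun j hj =>
      hmax j (Finset.mem_filter.2 ⟨Finset.mem_univ _, hj⟩)
    obtain ⟨N, hN0, hNj⟩ := hN j₀ hj₀
    have hN1 : N ≠ 0 := by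
      rintro rfl
      obtain ⟨N', hN'0, hN'j⟩ := hN j₁ hj₁
      have h1 := hmax j₁ hj₁
      rw [hn₀ 0 j₀ hNj, hn₀ N' j₁ hN'j] at h1
      have : N' ≠ 0 := by rintro rfl; exact hj₁A (by rw [hN'j, zero_smul, add_zero])
      have : 1 * ρ ≤ N' * ρ := mul_le_mul_of_nonneg_right (by omega) hρpos.le
      omega
    obtain ⟨g, lam, hg⟩ := exists_top hX hsemi hne
      (fun q j => ((P⁻¹ : GL (Fin m) k) : Matrix (Fin m) (Fin m) k) q j * w (π x y) j) n₀ (n₀ j₀)
      (fun q j hK => hmax j (right_ne_zero_of_mul hK)) fun s => by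
        obtain ⟨τ, hτ⟩ := exists_cochar_pt C (-b) s⁻¹
        refine ⟨(τ ≫ iT) * π x y, fun q => ?_⟩
        rw [show val ((τ ≫ iT) * π x y) (c q) = vec c ((τ ≫ iT) * π x y) q from rfl, hvw]
        simp only [Matrix.mulVec, dotProduct]
        refine Finset.sum_congr rfl fun j _ => ?_
        rw [hwτ, show e τ j = _ from hτ (ω j), inv_zpow, ← zpow_neg,
          show -pairing (ω j) (-b) = -n₀ j by simp [n₀, pairing, Finset.sum_neg_distrib]]
        ring
    have htop : (fun j => if n₀ j = n₀ j₀ then w (π x y) j else 0) = lam • w g := by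
      have h1 : ((P⁻¹ : GL (Fin m) k) : Matrix (Fin m) (Fin m) k) *ᵥ
          (fun j => if n₀ j = n₀ j₀ then w (π x y) j else 0) = lam • vec c g := funext fun q => by
        simp only [Matrix.mulVec, dotProduct]
        refine Eq.trans (Finset.sum_congr rfl fun j _ => ?_) (hg q)
        split_ifs <;> simp
      have h2 := congrArg (fun u => (P : Matrix (Fin m) (Fin m) k) *ᵥ u) h1
      simpa [Matrix.mulVec_mulVec, Matrix.mulVec_smul, w] using h2
    have hlam : lam ≠ 0 := fun h0 => hj₀ (by simpa [h0] using congrFun htop j₀)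
    refine ⟨g, lam, N, hlam, hN1, fun j hj => ?_, fun j hj => ?_⟩
    · have h := congrFun htop j
      simp only [Pi.smul_apply, smul_eq_mul] at h
      split_ifs at h with hn'
      · obtain ⟨N', -, hN'⟩ := hN j (h ▸ mul_ne_zero hlam hj)
        rw [hn₀ N' j hN', hn₀ N j₀ hNj] at hn'
        rw [hN', mul_right_cancel₀ hρpos.ne' (add_left_cancel hn')]
      · exact absurd h.symm (mul_ne_zero hlam hj)
    · have h := congrFun htop j
      simp only [Pi.smul_apply, smul_eq_mul] at h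
      rwa [if_pos (by rw [hn₀ N j hj, hn₀ N j₀ hNj])] at h
  -- normalising a fixed line
  have hfix : ∀ g A, (∀ j, w g j ≠ 0 → ω j = A) → ∀ τ : VecGrp.pt k k ⟶ T,
      vec c ((τ ≫ iT) * g) = ptChr C τ (Multiplicative.ofAdd A) • vec c g := fun g A hA τ => by
    rw [hvw, hvw g, ← Matrix.mulVec_smul]
    congr 1
    funext j
    rw [Pi.smul_apply, hwτ, smul_eq_mul]
    by_cases hj : w g j = 0
    · rw [hj, mul_zero, mul_zero]
    · show ptChr C τ (Multiplicative.ofAdd (ω j)) * _ = _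
      rw [hA j hj]
  have hnormal : ∀ g A, (∀ j, w g j ≠ 0 → ω j = A) → ∃ (g' : VecGrp.pt k k ⟶ G) (lam : k) (φ : T ≅ T)
      (σ : Equiv.Perm (Fin n)), w g = lam • w g' ∧ (∀ τ, (τ ≫ iT) * g' = g' * ((τ ≫ φ.hom) ≫ iT)) ∧
      (∀ τ i, ptChr C τ (Multiplicative.ofAdd (a (σ i))) = ptChr C (τ ≫ φ.hom) (Multiplicative.ofAdd (a i))) ∧
      ∀ τ, ptChr C τ (Multiplicative.ofAdd A) = ptChr C (τ ≫ φ.hom) (Multiplicative.ofAdd A₀) := by
    intro g A hA
    obtain ⟨g₀, hg₀⟩ := exists_gpt g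
    haveI := isMonHom_conjBy g₀⁻¹ iT
    obtain ⟨hTa, hTs, -, -⟩ := props_of_isTorus hT.2.2.1
    haveI := hTa
    haveI := hTs
    obtain ⟨tg, htg⟩ : ∃ tg : T ⟶ B, tg ≫ iB = AGF.conjBy g₀⁻¹ iT := by
      refine exists_lift_of_pts iB (AGF.conjBy g₀⁻¹ iT) fun τ => ?_
      obtain ⟨y, hy⟩ := hsep g _ _ (hfix g A hA τ)
      refine ⟨y, ?_⟩
      rw [comp_conjBy, GrpObj.comp_inv, inv_inv, show toUnit (VecGrp.pt k k) ≫ g₀ = g from hg₀,
        _root_.mul_assoc, hy, inv_mul_cancel_left]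
    obtain ⟨y, φ, -, hφ, -⟩ := exists_conj_of_solvable iB hsol (isMaxTorus_conjBy hT g₀⁻¹) hT tg htg t ht
    let yb : VecGrp.pt k k ⟶ G := gpt y ≫ iB
    let g' : VecGrp.pt k k ⟶ G := g * yb⁻¹
    have hcomm : ∀ τ, (τ ≫ iT) * g' = g' * ((τ ≫ φ.hom) ≫ iT) := fun τ => by
      rw [Category.assoc, hφ, comp_conjBy, comp_conjBy, GrpObj.comp_inv, inv_inv,
        show toUnit (VecGrp.pt k k) ≫ g₀ = g from hg₀,
        show toUnit (VecGrp.pt k k) ≫ y ≫ iB = yb from (Category.assoc _ _ _).symm]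
      simp only [g']
      group
    have hgg' : w g = l (gpt y) • w g' := by
      rw [← hwright, show g' * (gpt y ≫ iB) = g by simp only [g', yb]; group]
    obtain ⟨j, hj⟩ := Function.ne_iff.1 (hwne g)
    have hdetne : (mtxFn r g' : Matrix (Fin n) (Fin n) k).det ≠ 0 := det_ne_zero _
    rw [Matrix.det_apply] at hdetne
    obtain ⟨σ, -, hσ⟩ := Finset.exists_ne_zero_of_sum_ne_zero hdetne
    refine ⟨g', l (gpt y), φ, σ, hgg', hcomm, fun τ i => ?_, fun τ => ?_⟩
    · have h1 := congrArg (fun q => (mtxFn r q : Matrix (Fin n) (Fin n) k)) (hcomm τ)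
      simp only [← mtx_apply, map_mul, Units.val_mul] at h1
      simp only [mtx_apply, hdiag] at h1
      have h2 := congrFun (congrFun h1 (σ i)) i
      rw [Matrix.diagonal_mul, Matrix.mul_diagonal,
        mul_comm ((mtxFn r g' : Matrix (Fin n) (Fin n) k) (σ i) i)] at h2
      refine mul_right_cancel₀ (fun h0 => hσ ?_) h2
      rw [Finset.prod_eq_zero (f := fun i => (mtxFn r g' : Matrix (Fin n) (Fin n) k) (σ i) i)
        (Finset.mem_univ i) h0, smul_zero]
    · have hj' : w g' j ≠ 0 := fun h0 => hj (by rw [hgg', Pi.smul_apply, h0, smul_zero]; rfl)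
      refine mul_right_cancel₀ hj' ?_
      calc ptChr C τ (Multiplicative.ofAdd A) * w g' j = e τ j * w g' j := by
              show _ = ptChr C τ (Multiplicative.ofAdd (ω j)) * _
              rw [hA j hj]
        _ = w (g' * ((τ ≫ φ.hom) ≫ iT)) j := by rw [← hwτ, hcomm]
        _ = _ := by
          rw [show (τ ≫ φ.hom) ≫ iT = ((τ ≫ φ.hom) ≫ t) ≫ iB by rw [Category.assoc _ t, ht], hwright, hlA₀]
          rfl
  -- the invariant quadratic form
  have hfaith : ∀ τ τ' : VecGrp.pt k k ⟶ T,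
      (∀ i, ptChr C τ (Multiplicative.ofAdd (a i)) = ptChr C τ' (Multiplicative.ofAdd (a i))) → τ = τ' :=
    fun τ τ' h => (cancel_mono iT).1 (mtxFn_injective r (Units.ext (by
      rw [hdiag, hdiag]
      exact congrArg Matrix.diagonal (funext h))))
  have hD : (gram a).det ≠ 0 := fun h0 => by
    obtain ⟨z, hz, hz0⟩ := Matrix.exists_mulVec_eq_zero_iff.2 h0
    have h1 : Matrix.of a *ᵥ z = 0 := by
      rw [← dotProduct_self_eq_zero, Matrix.dotProduct_mulVec, ← Matrix.mulVec_transpose, Matrix.mulVec_mulVec,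
        ← gram, hz0, zero_dotProduct]
    obtain ⟨q, hq⟩ := Function.ne_iff.1 hz
    replace hq : z q ≠ 0 := hq
    have h2 : ∀ s : kˣ, s ^ z q = 1 := fun s => by
      obtain ⟨τ, hτ⟩ := exists_cochar_pt C z s
      have h3 : τ = 1 := hfaith τ 1 fun i => by
        rw [hτ, show pairing (a i) z = 0 from congrFun h1 i, zpow_zero]
        show _ = InvRing21.ptHom (k := k) k (C.ch 1 _)
        rw [C.one, map_one]
        rfl
      have h4 := hτ (Pi.single q 1)
      rw [h3] at h4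
      have h5 : InvRing21.ptHom (k := k) k (C.ch 1 (Multiplicative.ofAdd (Pi.single q (1 : ℤ)))) = 1 := by
        rw [C.one, map_one]
      rw [show pairing (Pi.single q (1 : ℤ)) z = z q by simp [pairing, Pi.single_apply]] at h4
      exact Units.ext (h4.symm.trans h5)
    obtain ⟨s₀, hs₀⟩ := Infinite.exists_notMem_finset
      (insert 0 (Polynomial.nthRoots (z q).natAbs (1 : k)).toFinset)
    simp only [Finset.mem_insert, Multiset.mem_toFinset, not_or] at hs₀
    refine hs₀.2 ((Polynomial.mem_nthRoots (Int.natAbs_pos.2 hq)).2 ?_)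
    have h6 := h2 (Units.mk0 s₀ hs₀.1)
    generalize hu : Units.mk0 s₀ hs₀.1 = u at h6
    have h7 : (u : k) ^ (z q).natAbs = 1 := by
      rcases Int.natAbs_eq (z q) with e' | e'
      · rw [e', zpow_natCast] at h6
        simpa using congrArg Units.val h6
      · rw [e', zpow_neg, zpow_natCast, inv_eq_one] at h6
        simpa using congrArg Units.val h6
    rwa [← hu] at h7
  have hpow : ∀ (τ : VecGrp.pt k k ⟶ T) (u : Fin n → ℤ), ptChr C τ (Multiplicative.ofAdd (u ᵥ* Matrix.of a)) =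
      ∏ i, (((ptChr C τ).toHomUnits (Multiplicative.ofAdd (a i))) ^ u i : kˣ) := fun τ u => by
    rw [show u ᵥ* Matrix.of a = ∑ i, u i • a i by
      funext q
      simp [Matrix.vecMul, dotProduct, Finset.sum_apply], ofAdd_sum]
    simp only [ofAdd_zsmul]
    rw [← MonoidHom.coe_toHomUnits, map_prod]
    simp only [map_zpow]
  have hz : ∀ (τ : VecGrp.pt k k ⟶ T) (N : ℤ) g, ptChr C τ (Multiplicative.ofAdd (N • g)) =
      ((((ptChr C τ).toHomUnits (Multiplicative.ofAdd g)) ^ N : kˣ) : k) := fun τ N g => by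
    rw [← map_zpow, ← ofAdd_zsmul]
    rfl
  have hnrm : ∀ (φ : T ≅ T) (σ : Equiv.Perm (Fin n)) A,
      (∀ τ i, ptChr C τ (Multiplicative.ofAdd (a (σ i))) = ptChr C (τ ≫ φ.hom) (Multiplicative.ofAdd (a i))) →
      (∀ τ, ptChr C τ (Multiplicative.ofAdd A) = ptChr C (τ ≫ φ.hom) (Multiplicative.ofAdd A₀)) →
      nrm a A = nrm a A₀ := by
    intro φ σ A h1 h2
    have hu : ∀ τ i, (ptChr C τ).toHomUnits (Multiplicative.ofAdd (a (σ i))) =
        (ptChr C (τ ≫ φ.hom)).toHomUnits (Multiplicative.ofAdd (a i)) := fun τ i => Units.ext (h1 τ i)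
    have hv : ∀ τ, (ptChr C τ).toHomUnits (Multiplicative.ofAdd A) =
        (ptChr C (τ ≫ φ.hom)).toHomUnits (Multiplicative.ofAdd A₀) := fun τ => Units.ext (h2 τ)
    refine mul_left_cancel₀ hD (le_antisymm (nrm_le_of_perm a σ.symm ?_) (nrm_le_of_perm a σ ?_))
    · refine eq_of_forall_ptChr C fun τ => ?_
      rw [hpow, ← Equiv.prod_comp σ]
      simp only [Equiv.symm_apply_apply, hu]
      rw [← hpow, vecMul_rep, hz, hz]
      exact congrArg (fun v : kˣ => ((v ^ (gram a).det : kˣ) : k)) (hv τ).symm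
    · refine eq_of_forall_ptChr C fun τ' => ?_
      obtain ⟨τ, rfl⟩ : ∃ τ, τ ≫ φ.hom = τ' := ⟨τ' ≫ φ.inv, by simp⟩
      rw [hpow]
      simp only [← hu]
      rw [Equiv.prod_comp σ fun i => (ptChr C τ).toHomUnits (Multiplicative.ofAdd (a i)) ^ rep a A i, ← hpow,
        vecMul_rep, hz, hz]
      exact congrArg (fun v : kˣ => ((v ^ (gram a).det : kˣ) : k)) (hv τ)
  -- the common extreme weight
  obtain ⟨g₁, lam₁, N₁, -, hN₁, hg₁, -⟩ := hlim 1 0 (Or.inl one_ne_zero)
  let Good : Equiv.Perm (Fin n) → (VecGrp.pt k k ⟶ G) → Prop := fun σ g => ∃ φ : T ≅ T,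
    (∀ τ, (τ ≫ iT) * g = g * ((τ ≫ φ.hom) ≫ iT)) ∧
    ∀ τ i, ptChr C τ (Multiplicative.ofAdd (a (σ i))) = ptChr C (τ ≫ φ.hom) (Multiplicative.ofAdd (a i))
  have huniq : ∀ σ g g', Good σ g → Good σ g' → ∃ lam : k, w g = lam • w g' := by
    rintro σ g g' ⟨φ, hφ, hσ⟩ ⟨φ', hφ', hσ'⟩
    have he : ∀ τ : VecGrp.pt k k ⟶ T, τ ≫ φ.hom = τ ≫ φ'.hom := fun τ =>
      hfaith _ _ fun i => (hσ τ i).symm.trans (hσ' τ i)
    let z := g'⁻¹ * g
    have hz : ∀ τ : VecGrp.pt k k ⟶ T, z * (τ ≫ iT) = (τ ≫ iT) * z := fun τ' => by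
      obtain ⟨τ, rfl⟩ : ∃ τ, τ ≫ φ.hom = τ' := ⟨τ' ≫ φ.inv, by simp⟩
      have h1 := hφ τ
      have h2 := hφ' τ
      rw [← he] at h2
      simp only [z]
      rw [_root_.mul_assoc, ← h1, eq_inv_mul_iff_mul_eq.2 h2.symm]
      group
    have hzup : z ∈ upPts r (wt a b) := by
      rw [mem_upPts]
      intro i j hij
      by_contra h0
      have hij' : a i = a j := eq_of_forall_ptChr C fun τ => by
        have h1 := congrArg (fun q => (mtxFn r q : Matrix (Fin n) (Fin n) k)) (hz τ)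
        simp only [← mtx_apply, map_mul, Units.val_mul] at h1
        simp only [mtx_apply, hdiag] at h1
        have h2 := congrFun (congrFun h1 i) j
        rw [Matrix.diagonal_mul, Matrix.mul_diagonal, mul_comm ((mtxFn r z : Matrix (Fin n) (Fin n) k) i j)] at h2
        exact (mul_right_cancel₀ h0 h2).symm
      simp [wt, hij'] at hij
    obtain ⟨y, hy⟩ := (hBb z).2 hzup
    exact ⟨l y, by rw [← hwright, hy, mul_inv_cancel_left]⟩
  let A₁ := A₀ + N₁ • α
  let I : Type := {σ : Equiv.Perm (Fin n) // ∃ g, Good σ g ∧ ∀ j, w g j ≠ 0 → ω j = A₁}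
  choose gσ hgσ hgσA using fun σ : I => σ.2
  obtain ⟨ψ, hψ⟩ := exists_dotProduct_ne_zero (fun σ : I => w (gσ σ)) fun σ => hwne _
  let F : MvPolynomial (Fin 2) k := ∑ j, MvPolynomial.C (if ω j = A₁ then ψ j else 0) * f j
  have hF : ∀ x y, MvPolynomial.eval ![x, y] F = ∑ j, (if ω j = A₁ then ψ j else 0) * w (π x y) j := fun x y => by
    simp only [F, map_sum, map_mul, MvPolynomial.eval_C, hf]
  refine eval_origin_ne_zero F (fun x y hxy => ?_) ?_
  · obtain ⟨g, lam, N, hlam, hN, hg, hgx⟩ := hlim x y hxy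
    obtain ⟨g', lg, φ, σ, hgg', hcomm, hσ, hA⟩ := hnormal g _ hg
    obtain ⟨g₁', lg₁, φ₁, σ₁, -, -, hσ₁, hA₁'⟩ := hnormal g₁ _ hg₁
    obtain rfl : N = N₁ := eq_of_nrm_eq a hD hαne hN hN₁ (hnrm φ σ _ hσ hA) (hnrm φ₁ σ₁ _ hσ₁ hA₁')
    have hlg : lg ≠ 0 := fun h0 => hwne g (by rw [hgg', h0, zero_smul])
    have hg'A : ∀ j, w g' j ≠ 0 → ω j = A₁ := fun j hj => hg j (by
      rw [hgg', Pi.smul_apply, smul_eq_mul]; exact mul_ne_zero hlg hj)
    let s : I := ⟨σ, g', ⟨φ, hcomm, hσ⟩, hg'A⟩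
    obtain ⟨μ₀, hμ₀⟩ := huniq σ g' (gσ s) ⟨φ, hcomm, hσ⟩ (hgσ s)
    have hμne : μ₀ ≠ 0 := fun h0 => hwne g' (by rw [hμ₀, h0, zero_smul])
    rw [hF]
    have h1 : ∑ j, (if ω j = A₁ then ψ j else 0) * w (π x y) j = lam * lg * μ₀ * (ψ ⬝ᵥ w (gσ s)) := by
      rw [dotProduct, Finset.mul_sum]
      refine Finset.sum_congr rfl fun j _ => ?_
      by_cases hj : ω j = A₁
      · rw [if_pos hj, hgx j hj, hgg', hμ₀]
        simp only [Pi.smul_apply, smul_eq_mul]
        ring
      · rw [if_neg hj, zero_mul, show w (gσ s) j = 0 from by_contra fun h => hj (hgσA s j h), mul_zero, mul_zero]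
    rw [h1]
    exact mul_ne_zero (mul_ne_zero (mul_ne_zero hlam hlg) hμne) (hψ s)
  · rw [hF, hπ0]
    refine Finset.sum_eq_zero fun j _ => ?_
    by_cases hj : ω j = A₁
    · have h0 : w 1 j = 0 := by_contra fun h => by
        have h1 := (hA₀ j h).symm.trans hj
        simp only [A₁, left_eq_add, smul_eq_zero] at h1
        exact hαne (h1.resolve_left hN₁)
      rw [h0, mul_zero]
    · rw [if_neg hj, zero_mul]

end Groth.Agent.AttrBorel21
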