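import Groth.Agent.Lib.TorPts21.BorelChart
import Mathlib.FieldTheory.IsAlgClosed.Basic
import Mathlib.Algebra.MvPolynomial.Funext
import Mathlib.LinearAlgebra.Matrix.ToLinearEquiv

/-!
# Elementary facts for the reducedness of root systems
-/

set_option autoImplicit false
universe u

noncomputable section

namespace Groth.Agent.AttrBorel21

open scoped Matrix

/-- A polynomial in two variables does not vanish at the origin only. -/
theorem eval_origin_ne_zero {K : Type u} [Field K] [IsAlgClosed K] (f : MvPolynomial (Fin 2) K)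
    (h : ∀ x y : K, x ≠ 0 ∨ y ≠ 0 → MvPolynomial.eval ![x, y] f ≠ 0) : MvPolynomial.eval ![0, 0] f ≠ 0 := by
  intro h0
  let F : K → Polynomial K := fun c => MvPolynomial.aeval ![Polynomial.X, Polynomial.C c] f
  let H : K → Polynomial K := fun c => MvPolynomial.aeval ![Polynomial.C c, Polynomial.X] f
  have hF : ∀ c x, (F c).eval x = MvPolynomial.eval ![x, c] f := fun c x => by
    show Polynomial.aeval x (F c) = MvPolynomial.aeval ![x, c] f
    rw [← AlgHom.comp_apply, MvPolynomial.comp_aeval]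
    congr 2
    funext i
    fin_cases i <;> simp
  have hH : ∀ c y, (H c).eval y = MvPolynomial.eval ![c, y] f := fun c y => by
    show Polynomial.aeval y (H c) = MvPolynomial.aeval ![c, y] f
    rw [← AlgHom.comp_apply, MvPolynomial.comp_aeval]
    congr 2
    funext i
    fin_cases i <;> simp
  have hconst : ∀ c, c ≠ 0 → MvPolynomial.eval ![1, c] f = MvPolynomial.eval ![0, c] f := fun c hc => by
    have hd : (F c).degree ≤ 0 := le_of_not_gt fun hlt => by
      obtain ⟨x, hx⟩ := IsAlgClosed.exists_root (F c) hlt.ne'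
      exact h x c (Or.inr hc) ((hF c x).symm.trans hx)
    rw [← hF, ← hF, Polynomial.eq_C_of_degree_le_zero hd, Polynomial.eval_C, Polynomial.eval_C]
  have hz : H 1 - H 0 = 0 := Polynomial.eq_zero_of_infinite_isRoot _ <| by
    refine Set.Infinite.mono (fun c (hc : c ∈ ({0}ᶜ : Set K)) => ?_) (Set.Finite.infinite_compl (Set.finite_singleton 0))
    show (H 1 - H 0).eval c = 0
    rw [Polynomial.eval_sub, hH, hH, hconst c hc, sub_self]
  refine h 1 0 (Or.inl one_ne_zero) ?_
  rw [← hH, sub_eq_zero.1 hz, hH, h0]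

/-- Coefficients after rescaling the variables. -/
theorem coeff_rescale {K : Type u} [CommRing K] {σ : Type*} [Fintype σ] (u : σ → K) (f : MvPolynomial σ K)
    (s : σ →₀ ℕ) :
    MvPolynomial.coeff s (MvPolynomial.aeval (fun i => MvPolynomial.C (u i) * MvPolynomial.X i) f) =
      (∏ i, u i ^ s i) * MvPolynomial.coeff s f := by
  classical
  induction f using MvPolynomial.induction_on' with
  | add p q hp hq => rw [map_add, MvPolynomial.coeff_add, MvPolynomial.coeff_add, hp, hq, mul_add]
  | monomial t a =>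
    rw [MvPolynomial.aeval_monomial, Finsupp.prod_fintype _ _ (fun i => pow_zero _)]
    simp only [mul_pow, Finset.prod_mul_distrib]
    rw [← map_prod (MvPolynomial.C (R := K) (σ := σ)) (fun i => u i ^ t i) Finset.univ |>.trans
      (Finset.prod_congr rfl fun i _ => map_pow _ _ _), ← mul_assoc, MvPolynomial.algebraMap_eq, ← map_mul,
      show (∏ i, (MvPolynomial.X i : MvPolynomial σ K) ^ t i) = MvPolynomial.monomial t 1 by
        rw [MvPolynomial.monomial_eq, map_one, one_mul, Finsupp.prod_fintype _ _ (fun i => pow_zero _)],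
      MvPolynomial.C_mul_monomial, MvPolynomial.coeff_monomial, MvPolynomial.coeff_monomial]
    split_ifs with he
    · subst he; ring
    · ring

/-- A linear form not vanishing on finitely many nonzero vectors. -/
theorem exists_dotProduct_ne_zero {K : Type u} [Field K] [Infinite K] {m : ℕ} {I : Type} [Fintype I]
    (u : I → Fin m → K) (hu : ∀ i, u i ≠ 0) : ∃ φ : Fin m → K, ∀ i, φ ⬝ᵥ u i ≠ 0 := by
  classical
  let q : Polynomial K := ∏ i, ∑ j : Fin m, Polynomial.C (u i j) * Polynomial.X ^ (j : ℕ)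
  have hq : q ≠ 0 := Finset.prod_ne_zero_iff.2 fun i _ h => hu i (funext fun j => by
    have := congrArg (fun p => Polynomial.coeff p (j : ℕ)) h
    simpa [Polynomial.finsetSum_coeff, Polynomial.coeff_C_mul, Polynomial.coeff_X_pow, Fin.val_inj] using this)
  obtain ⟨M, hM⟩ : ∃ M : K, q.eval M ≠ 0 := by
    by_contra! h
    exact hq (Polynomial.funext fun r => by rw [h r, Polynomial.eval_zero])
  refine ⟨fun j => M ^ (j : ℕ), fun i => ?_⟩
  rw [show q.eval M = ∏ i, Polynomial.eval M (∑ j : Fin m, Polynomial.C (u i j) * Polynomial.X ^ (j : ℕ)) from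
    Polynomial.eval_prod _ _ _] at hM
  have := Finset.prod_ne_zero_iff.1 hM i (Finset.mem_univ _)
  refine fun h0 => this ?_
  rw [Polynomial.eval_finsetSum, ← h0]
  refine Finset.sum_congr rfl fun j _ => ?_
  rw [Polynomial.eval_mul, Polynomial.eval_C, Polynomial.eval_pow, Polynomial.eval_X, mul_comm]

section Norm

variable {n d : ℕ} (a : Fin n → Fin d → ℤ)

/-- The Gram matrix of a family of weights. -/
def gram : Matrix (Fin d) (Fin d) ℤ := (Matrix.of a)ᵀ * Matrix.of a

/-- The coefficients of a weight on a family of weights. -/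
def rep (x : Fin d → ℤ) : Fin n → ℤ := Matrix.of a *ᵥ ((gram a).adjugate *ᵥ x)

/-- The invariant quadratic form. -/
def nrm (x : Fin d → ℤ) : ℤ := x ⬝ᵥ ((gram a).adjugate *ᵥ x)

theorem vecMul_rep (x : Fin d → ℤ) : rep a x ᵥ* Matrix.of a = (gram a).det • x := by
  rw [rep, ← Matrix.mulVec_transpose, Matrix.mulVec_mulVec, ← gram, Matrix.mulVec_mulVec, Matrix.mul_adjugate,
    Matrix.smul_mulVec, Matrix.one_mulVec]

theorem dot_rep (x : Fin d → ℤ) (e : Fin n → ℤ) :
    e ⬝ᵥ rep a x = (e ᵥ* Matrix.of a) ⬝ᵥ ((gram a).adjugate *ᵥ x) := by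
  rw [rep, Matrix.dotProduct_mulVec]

theorem rep_dot_rep (x : Fin d → ℤ) : rep a x ⬝ᵥ rep a x = (gram a).det * nrm a x := by
  rw [dot_rep, vecMul_rep, smul_dotProduct, smul_eq_mul, nrm]

theorem det_mul_nrm_le {x : Fin d → ℤ} {e : Fin n → ℤ} (h : e ᵥ* Matrix.of a = (gram a).det • x) :
    (gram a).det * nrm a x ≤ e ⬝ᵥ e := by
  have h1 : e ⬝ᵥ rep a x = (gram a).det * nrm a x := by
    rw [dot_rep, h, smul_dotProduct, smul_eq_mul, nrm]
  have h2 : (0 : ℤ) ≤ ∑ i, (e i - rep a x i) * (e i - rep a x i) :=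
    Finset.sum_nonneg fun i _ => mul_self_nonneg _
  have h3 : ∑ i, (e i - rep a x i) * (e i - rep a x i) = e ⬝ᵥ e - 2 * (e ⬝ᵥ rep a x) + rep a x ⬝ᵥ rep a x := by
    simp only [dotProduct, Finset.mul_sum, ← Finset.sum_sub_distrib, ← Finset.sum_add_distrib]
    exact Finset.sum_congr rfl fun i _ => by ring
  rw [h3, h1, rep_dot_rep] at h2
  linarith

theorem nrm_ne_zero (hD : (gram a).det ≠ 0) {x : Fin d → ℤ} (hx : x ≠ 0) : nrm a x ≠ 0 := fun h => by
  have h1 : rep a x ⬝ᵥ rep a x = 0 := by rw [rep_dot_rep, h, mul_zero]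
  rw [dotProduct_self_eq_zero] at h1
  have h2 := vecMul_rep a x
  rw [h1, Matrix.zero_vecMul] at h2
  exact hx ((smul_eq_zero.1 h2.symm).resolve_left hD)

/-- A line meets a sphere in at most two points. -/
theorem eq_of_nrm_eq (hD : (gram a).det ≠ 0) {x α : Fin d → ℤ} (hα : α ≠ 0) {N N' : ℤ} (hN : N ≠ 0) (hN' : N' ≠ 0)
    (h : nrm a (x + N • α) = nrm a x) (h' : nrm a (x + N' • α) = nrm a x) : N = N' := by
  let L : ℤ := x ⬝ᵥ ((gram a).adjugate *ᵥ α) + α ⬝ᵥ ((gram a).adjugate *ᵥ x)
  have key : ∀ M : ℤ, nrm a (x + M • α) = nrm a x + M * L + M * M * nrm a α := fun M => by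
    simp only [nrm, L, Matrix.mulVec_add, Matrix.mulVec_smul, add_dotProduct, dotProduct_add, smul_dotProduct,
      dotProduct_smul, smul_eq_mul]
    ring
  rw [key] at h h'
  have e : L + N * nrm a α = 0 := (mul_eq_zero.1 (by linarith : N * (L + N * nrm a α) = 0)).resolve_left hN
  have e' : L + N' * nrm a α = 0 := (mul_eq_zero.1 (by linarith : N' * (L + N' * nrm a α) = 0)).resolve_left hN'
  exact mul_right_cancel₀ (nrm_ne_zero a hD hα) (by linarith : N * nrm a α = N' * nrm a α)

/-- A weight of the same orbit has the same norm. -/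
theorem nrm_le_of_perm (π : Equiv.Perm (Fin n)) {x y : Fin d → ℤ}
    (h : (fun i => rep a y (π i)) ᵥ* Matrix.of a = (gram a).det • x) :
    (gram a).det * nrm a x ≤ (gram a).det * nrm a y := by
  refine (det_mul_nrm_le a h).trans_eq ?_
  rw [← rep_dot_rep]
  exact Equiv.sum_comp π fun i => rep a y i * rep a y i

end Norm

end Groth.Agent.AttrBorel21
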