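import Groth.Agent.Lib.AttrBorel21.Orth
import Groth.Agent.Lib.AttrBorel21.GalPts
import Groth.Agent.Lib.TorPts21.ConjDom
import Groth.Agent.Lib.TorPts21.ReductiveCartan
import Groth.Agent.Lib.TorPts21.MaxExist
import Mathlib.LinearAlgebra.Vandermonde

/-!
# An open set of regular points of a reductive group over an algebraically closed field
-/

set_option autoImplicit false
set_option linter.style.haveILetI false
set_option backward.isDefEq.respectTransparency.types false
universe u

open CategoryTheory Limits MonoidalCategory CartesianMonoidalCategory MonObj AlgebraicGeometry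

noncomputable section

namespace Groth.Agent.AttrBorel21

open InvRing21 DiagGL TorPts21

attribute [local instance] InvRing21.gamAlg BorelFix21.ptsTop

/-- The diagonal entries of the powers of a diagonalisable matrix with few eigenvalues are dependent. -/
theorem det_powers_eq_zero {K : Type u} [Field K] {n m : ℕ} (H H' : Matrix (Fin n) (Fin n) K) (hH : H' * H = 1)
    (v : Fin n → K) (e : Fin m → Fin n) [DecidableEq K] (hcard : (Finset.univ.image v).card < m) :
    (Matrix.of fun i l : Fin m => ((H * Matrix.diagonal v * H') ^ (i : ℕ)) (e l) (e l)).det = 0 := by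
  classical
  let P : Polynomial K := ∏ a ∈ Finset.univ.image v, (Polynomial.X - Polynomial.C a)
  have hP : P.Monic := Polynomial.monic_prod_of_monic _ _ fun a _ => Polynomial.monic_X_sub_C a
  have hdeg : P.natDegree = (Finset.univ.image v).card := by
    simp [P]
  have hroot : ∀ j, P.eval (v j) = 0 := fun j => by
    rw [Polynomial.eval_prod]
    exact Finset.prod_eq_zero (Finset.mem_image_of_mem v (Finset.mem_univ j)) (by simp)
  have hpow : ∀ i : ℕ, (H * Matrix.diagonal v * H') ^ i = H * Matrix.diagonal (v ^ i) * H' := by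
    intro i
    induction i with
    | zero => rw [pow_zero, pow_zero, Matrix.diagonal_one', _root_.mul_one, mul_eq_one_comm.1 hH]
    | succ i ih =>
      rw [pow_succ, ih, pow_succ]
      calc H * Matrix.diagonal (v ^ i) * H' * (H * Matrix.diagonal v * H')
          = H * (Matrix.diagonal (v ^ i) * (H' * H) * Matrix.diagonal v) * H' := by simp only [Matrix.mul_assoc]
        _ = _ := by rw [hH, _root_.mul_one, Matrix.diagonal_mul_diagonal]; rfl
  refine Matrix.exists_vecMul_eq_zero_iff.1 ⟨fun i : Fin m => P.coeff i, fun h => ?_, funext fun l => ?_⟩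
  · have := congrFun h ⟨P.natDegree, hdeg ▸ hcard⟩
    rw [Pi.zero_apply] at this
    exact one_ne_zero (hP.coeff_natDegree.symm.trans this)
  · show ∑ i : Fin m, P.coeff i * ((H * Matrix.diagonal v * H') ^ (i : ℕ)) (e l) (e l) = 0
    have he : ∀ i : ℕ, ((H * Matrix.diagonal v * H') ^ i) (e l) (e l) = ∑ j, H (e l) j * H' j (e l) * v j ^ i :=
      fun i => by
        rw [hpow, Matrix.mul_apply]
        refine Finset.sum_congr rfl fun j _ => ?_
        rw [Matrix.mul_diagonal, Pi.pow_apply]
        ring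
    simp only [he, Finset.mul_sum]
    rw [Finset.sum_comm]
    refine Finset.sum_eq_zero fun j _ => ?_
    have h2 : ∑ i : Fin m, P.coeff i * v j ^ (i : ℕ) = P.eval (v j) := by
      rw [Polynomial.eval_eq_sum_range' (n := m) (hdeg ▸ hcard), Finset.sum_range]
    calc ∑ i : Fin m, P.coeff i * (H (e l) j * H' j (e l) * v j ^ (i : ℕ))
        = H (e l) j * H' j (e l) * ∑ i : Fin m, P.coeff i * v j ^ (i : ℕ) := by
          rw [Finset.mul_sum]; exact Finset.sum_congr rfl fun i _ => by ring
      _ = 0 := by rw [h2, hroot, mul_zero]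

variable {K : Type u} [Field K] [IsAlgClosed K] {G T : Over (Spec (CommRingCat.of K))} [GrpObj G] [GrpObj T]

omit [IsAlgClosed K] [GrpObj G] in
/-- A point lies in a basic open exactly if the function does not vanish there. -/
theorem img_mem_basicOpen (z : VecGrp.pt K K ⟶ G) (F : Γ(G.left, ⊤)) :
    img z ∈ G.left.basicOpen F ↔ val z F ≠ 0 := by
  have h : img z ∈ G.left.basicOpen F ↔
      IsLocalRing.closedPoint K ∈ (VecGrp.pt K K).left.basicOpen (z.left.appTop F) := by
    rw [← Scheme.preimage_basicOpen_top]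
    rfl
  rw [h]
  constructor
  · intro hm h0
    rw [show z.left.appTop F = 0 from InvRing21.ptHom_injective K (h0.trans (map_zero _).symm),
      Scheme.basicOpen_zero] at hm
    exact hm
  · intro h0
    have hu : IsUnit (z.left.appTop F) := by
      obtain ⟨w, hw⟩ := (Ne.isUnit h0).map (Scheme.ΓSpecIso (CommRingCat.of K)).inv.hom
      refine ⟨w, hw.trans ?_⟩
      exact ConcreteCategory.congr_hom (Scheme.ΓSpecIso (CommRingCat.of K)).hom_inv_id (z.left.appTop F)
    rw [Scheme.basicOpen_of_isUnit _ hu]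
    trivial

set_option maxHeartbeats 1600000 in
/-- A reductive group over an algebraically closed field has a nonempty open set each of whose rational points
has a maximal torus as its centraliser. -/
theorem exists_regular_open (hR : Red.IsReductiveOver K G) {iT : T ⟶ G} (hT : AGF.IsMaxTorus iT) :
    ∃ O : G.left.Opens, (O : Set G.left).Nonempty ∧ ∀ x : 𝟙_ (Over (Spec (CommRingCat.of K))) ⟶ G, img' x ∈ O →
      ∃ i' : T ⟶ G, AGF.IsMaxTorus i' ∧ ∀ (X : Over (Spec (CommRingCat.of K))) (f : X ⟶ G),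
        (∃ z : X ⟶ T, z ≫ i' = f) ↔ f * (toUnit X ≫ x) = (toUnit X ≫ x) * f := by
  classical
  obtain ⟨hGa, hGs, hGc, -⟩ := id hR
  haveI := hGa
  haveI := hGs
  haveI := hGc
  haveI := hT.1
  haveI := hT.2.1
  obtain ⟨d, ⟨C⟩⟩ := exists_chars hT.2.2.1
  obtain ⟨n, r, hr, hrc, a, hdiag⟩ := exists_diagRep C iT
  haveI := hr
  haveI := hrc
  haveI : Mono r := Over.mono_of_mono_left r
  -- the distinct weights
  let W : Finset (Fin d → ℤ) := Finset.univ.image a
  let m : ℕ := W.card
  have he : ∀ l : Fin m, ∃ i : Fin n, a i = (W.equivFin.symm l : Fin d → ℤ) := fun l => by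
    obtain ⟨i, -, hi⟩ := Finset.mem_image.1 (W.equivFin.symm l).2
    exact ⟨i, hi⟩
  choose e he using he
  have hpt : ∀ (z : VecGrp.pt K K ⟶ T), pmat r (z ≫ iT) =
      Matrix.diagonal fun i => chi C z (Multiplicative.ofAdd (a i)) := fun z => by
    rw [pmat, hdiag, Matrix.diagonal_map (map_zero _)]
    rfl
  -- the minor
  let F : Γ(G.left, ⊤) := (Matrix.of fun i l : Fin m => ((mat r) ^ (i : ℕ)) (e l) (e l)).det
  have hF : ∀ z : VecGrp.pt K K ⟶ G,
      val z F = (Matrix.of fun i l : Fin m => ((pmat r z) ^ (i : ℕ)) (e l) (e l)).det := fun z => by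
    rw [show pmat r z = (mat r).map (val z) from Matrix.ext fun i j => by rw [pmat_apply]; rfl]
    refine ((val z).map_det _).trans (congrArg Matrix.det (Matrix.ext fun i l => ?_))
    exact congrFun (congrFun (map_pow (val z).mapMatrix (mat r) (i : ℕ)) (e l)) (e l)
  -- a point of the torus with separated weights
  obtain ⟨z₀, hz₀⟩ := exists_sep (W ×ˢ W |>.image fun p => p.1 - p.2)
  let N : ℕ := ∏ p ∈ (W ×ˢ W).filter (fun p => p.1 ≠ p.2), (pairing (p.1 - p.2) z₀).natAbs
  have hN : N ≠ 0 := Finset.prod_ne_zero_iff.2 fun p hp => by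
    rw [Finset.mem_filter] at hp
    exact Int.natAbs_ne_zero.2 (hz₀ _ (Finset.mem_image_of_mem _ hp.1) (sub_ne_zero.2 hp.2))
  obtain ⟨c, hc⟩ : ∃ c : Kˣ, c ^ N ≠ 1 := by
    obtain ⟨c, hc⟩ := Infinite.exists_notMem_finset
      ((Polynomial.X ^ N - 1 : Polynomial K).roots.toFinset ∪ {0})
    rw [Finset.mem_union, Multiset.mem_toFinset, Finset.mem_singleton, not_or] at hc
    refine ⟨Units.mk0 c hc.2, fun h => hc.1 ?_⟩
    rw [Polynomial.mem_roots (by simpa using (Polynomial.monic_X_pow_sub_C (1 : K) hN).ne_zero)]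
    have h' := congrArg Units.val h
    rw [Units.val_pow_eq_pow_val, Units.val_mk0, Units.val_one] at h'
    simp [h']
  obtain ⟨τ, hτ⟩ := exists_chi C (monom fun j => c ^ z₀ j)
  have hsep : ∀ g ∈ W, ∀ g' ∈ W, chi C τ (Multiplicative.ofAdd g) = chi C τ (Multiplicative.ofAdd g') → g = g' := by
    intro g hg g' hg' h
    by_contra hne
    rw [hτ, hτ] at h
    have hmon : ∀ g : Fin d → ℤ, monom (fun j => c ^ z₀ j) (Multiplicative.ofAdd g) =
        ((c ^ pairing g z₀ : Kˣ) : K) := fun g => by
      show ((∏ j, (c ^ z₀ j) ^ g j : Kˣ) : K) = _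
      have hsum : ∀ S : Finset (Fin d), (∏ j ∈ S, (c ^ z₀ j) ^ g j) = c ^ ∑ j ∈ S, g j * z₀ j := fun S => by
        induction S using Finset.induction_on with
        | empty => simp
        | insert j S hj ih =>
          rw [Finset.prod_insert hj, Finset.sum_insert hj, zpow_add, ih, ← zpow_mul, mul_comm (z₀ j)]
      exact congrArg Units.val (hsum Finset.univ)
    rw [hmon, hmon] at h
    have h1 : c ^ pairing (g - g') z₀ = 1 := by
      rw [show pairing (g - g') z₀ = pairing g z₀ - pairing g' z₀ by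
        simp [pairing, sub_mul, Finset.sum_sub_distrib], zpow_sub, Units.ext h, mul_inv_cancel]
    have hdvd : (pairing (g - g') z₀).natAbs ∣ N :=
      Finset.dvd_prod_of_mem (fun p : (Fin d → ℤ) × (Fin d → ℤ) => (pairing (p.1 - p.2) z₀).natAbs)
        (Finset.mem_filter.2 ⟨Finset.mem_product.2 ⟨hg, hg'⟩, hne⟩ : (g, g') ∈ _)
    obtain ⟨q, hq⟩ := hdvd
    refine hc ?_
    rw [hq, pow_mul, pow_natAbs_eq_one.2 h1, one_pow]
  have hτF : val (τ ≫ iT) F ≠ 0 := by
    rw [hF, hpt]
    have : (Matrix.of fun i l : Fin m => ((Matrix.diagonal fun i => chi C τ (Multiplicative.ofAdd (a i))) ^ (i : ℕ))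
        (e l) (e l)) = (Matrix.vandermonde fun l => chi C τ (Multiplicative.ofAdd (a (e l)))).transpose :=
      Matrix.ext fun i l => by
        rw [Matrix.of_apply, Matrix.diagonal_pow, Matrix.diagonal_apply_eq]
        rfl
    rw [this, Matrix.det_transpose, Matrix.det_vandermonde_ne_zero_iff]
    intro l l' h
    simp only [he] at h
    exact W.equivFin.symm.injective (Subtype.ext (hsep _ (W.equivFin.symm l).2 _ (W.equivFin.symm l').2 h))
  -- the centraliser of the torus and the open set
  obtain ⟨Z, _, c', hc', -, -⟩ :=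
    MTRigid29.exists_centralizer (MTRigid29.isMT_of_ft (isMultTypeFT_of_isTorus hT.2.2.1)) hGs inferInstance iT
  obtain ⟨f₀, hf₀⟩ := exists_lift_cartan_reductive hR hT hc'
  obtain ⟨C₀, _, j, U, -, -, -, -, -, hU, hUx⟩ := exists_open_conj hT hc'
  haveI : IrreducibleSpace G.left := AbRigid.irreducibleSpace_of_isAlgClosed G
  refine ⟨U ⊓ G.left.basicOpen F, ?_, fun x hx => ?_⟩
  · exact (nonempty_preirreducible_inter U.2 (G.left.basicOpen F).2 hU
      ⟨_, (img_mem_basicOpen _ _).2 hτF⟩)
  obtain ⟨g, y, hxy⟩ := hUx x hx.1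
  obtain ⟨y', hy'⟩ : ∃ y' : 𝟙_ _ ⟶ T, y' ≫ iT = y ≫ j ≫ c' :=
    ⟨y ≫ j ≫ f₀, by rw [Category.assoc, Category.assoc, hf₀]⟩
  rw [← hy'] at hxy
  -- the point in the torus has separated weights
  have hy : ∀ i l, chi C (gpt y') (Multiplicative.ofAdd (a i)) = chi C (gpt y') (Multiplicative.ofAdd (a l)) →
      a i = a l := by
    let v : Fin n → K := fun i => chi C (gpt y') (Multiplicative.ofAdd (a i))
    have hcard : ¬ (Finset.univ.image v).card < m := fun hlt => by
      have hx2 : img (gpt x) ∈ G.left.basicOpen F := (img_gpt x).symm ▸ hx.2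
      rw [img_mem_basicOpen, hF] at hx2
      refine hx2 ?_
      have hH : pmat r (gpt g)⁻¹ * pmat r (gpt g) = 1 := by rw [← pmat_mul, inv_mul_cancel, pmat_one]
      have hgx : gpt x = gpt g * (gpt y' ≫ iT) * (gpt g)⁻¹ := by
        rw [← hxy, gpt, gpt, gpt, MonObj.comp_mul, MonObj.comp_mul, GrpObj.comp_inv, Category.assoc]
      rw [hgx, pmat_mul, pmat_mul, hpt]
      exact det_powers_eq_zero _ _ hH v e hlt
    intro i l h
    by_contra hne
    refine hcard ?_
    have himg : Finset.univ.image v = W.image fun b => chi C (gpt y') (Multiplicative.ofAdd b) := by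
      rw [Finset.image_image]; rfl
    rw [himg]
    refine lt_of_le_of_ne Finset.card_image_le fun heq => hne ?_
    exact Finset.card_image_iff.1 heq (Finset.mem_image_of_mem a (Finset.mem_univ i))
      (Finset.mem_image_of_mem a (Finset.mem_univ l)) h
  haveI := isMonHom_conjBy g iT
  refine ⟨AGF.conjBy g iT, TorPts21.isMaxTorus_conjBy hT g, fun X f => ?_⟩
  have hx' : toUnit X ≫ x = (toUnit X ≫ g) * ((toUnit X ≫ y') ≫ iT) * (toUnit X ≫ g)⁻¹ := by
    rw [← hxy, MonObj.comp_mul, MonObj.comp_mul, GrpObj.comp_inv, Category.assoc]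
  constructor
  · rintro ⟨z, rfl⟩
    rw [hx', ← comp_conjBy, ← MonObj.mul_comp, ← MonObj.mul_comp]
    exact congrArg (· ≫ AGF.conjBy g iT) (commute_of_chars C z _).eq
  · intro hf
    set f' := (toUnit X ≫ g)⁻¹ * f * (toUnit X ≫ g) with hf'
    have hcomm : f' * ((toUnit X ≫ y') ≫ iT) = ((toUnit X ≫ y') ≫ iT) * f' := by
      rw [hx'] at hf
      calc f' * ((toUnit X ≫ y') ≫ iT)
          = (toUnit X ≫ g)⁻¹ * (f * ((toUnit X ≫ g) * ((toUnit X ≫ y') ≫ iT) * (toUnit X ≫ g)⁻¹)) *
              (toUnit X ≫ g) := by rw [hf']; group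
        _ = _ := by rw [hf, hf']; group
    -- the entries between different weights vanish
    let ψ : X ⟶ VecGrp.pt K K := InvRing21.toPt X
    let ρ : K →+* Γ(X.left, ⊤) := ψ.left.appTop.hom.comp (Scheme.ΓSpecIso (CommRingCat.of K)).inv.hom
    have hval : ∀ b, C.ch (toUnit X ≫ y') (Multiplicative.ofAdd b) =
        ρ (chi C (gpt y') (Multiplicative.ofAdd b)) := fun b => by
      rw [show toUnit X ≫ y' = ψ ≫ gpt y' by rw [gpt, ← Category.assoc, comp_toUnit], C.nat]
      exact congrArg ψ.left.appTop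
        (ConcreteCategory.congr_hom (Scheme.ΓSpecIso (CommRingCat.of K)).hom_inv_id _).symm
    have hblk : ∀ i l, a i ≠ a l → mat (f' ≫ r) i l = 0 := fun i l hne => by
      have h1 := congrArg (fun w => mat (w ≫ r)) hcomm
      simp only [MonObj.mul_comp, mat_mul, hdiag] at h1
      have h2 := congrFun (congrFun h1 i) l
      rw [Matrix.mul_diagonal, Matrix.diagonal_mul, hval, hval, mul_comm (ρ _) (mat (f' ≫ r) i l),
        ← sub_eq_zero, ← mul_sub, ← map_sub] at h2
      exact ((Ne.isUnit (sub_ne_zero.2 fun h => hne (hy _ _ h).symm)).map ρ).mul_left_eq_zero.1 h2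
    obtain ⟨z, hz⟩ := (hc'.2.2 X f').2 fun X' w t => by
      refine (cancel_mono r).1 (mat_injective ?_)
      rw [MonObj.mul_comp, MonObj.mul_comp, mat_mul, mat_mul, hdiag]
      ext i l
      rw [Matrix.mul_diagonal, Matrix.diagonal_mul]
      by_cases hil : a i = a l
      · rw [hil, mul_comm]
      · rw [show mat ((w ≫ f') ≫ r) i l = 0 by
          rw [Category.assoc, mat_comp, Matrix.map_apply, hblk i l hil, map_zero], zero_mul, mul_zero]
    refine ⟨z ≫ f₀, ?_⟩
    rw [comp_conjBy, Category.assoc, hf₀, hz, hf']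
    group

end Groth.Agent.AttrBorel21
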