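import Groth.Agent.Lib.AttrBorel21.Opposite
import Groth.Agent.Lib.GaPts.Basic

/-!
# Root groups and contracted subgroups
-/

set_option autoImplicit false
set_option linter.style.haveILetI false
set_option backward.isDefEq.respectTransparency.types false
universe u

open CategoryTheory Limits MonoidalCategory CartesianMonoidalCategory MonObj AlgebraicGeometry
open scoped LaurentPolynomial Polynomial

noncomputable section

namespace Groth.Agent.AttrBorel21

open InvRing21 DiagGL TorPts21 BigCell21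

attribute [local instance] InvRing21.gamAlg

variable {k : Type u} [Field k] {n d : ℕ}

theorem coeff_aeval_single (m e : ℤ) (h : ∀ l : ℕ, (l : ℤ) * m ≠ e) (q : k[X]) :
    (Polynomial.aeval (AddMonoidAlgebra.single m (Polynomial.X : k[X]) : k[X][T;T⁻¹]) q).coeff e = 0 := by
  induction q using Polynomial.induction_on' with
  | add p q hp hq => rw [map_add, AddMonoidAlgebra.coeff_add, Finsupp.add_apply, hp, hq, add_zero]
  | monomial l c =>
    rw [Polynomial.aeval_monomial, AddMonoidAlgebra.single_pow,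
      IsScalarTower.algebraMap_apply k k[X] k[X][T;T⁻¹]]
    show (AddMonoidAlgebra.single (0 : ℤ) (algebraMap k k[X] c) *
      AddMonoidAlgebra.single (l • m) (Polynomial.X ^ l) : k[X][T;T⁻¹]).coeff e = 0
    rw [AddMonoidAlgebra.single_mul_single, zero_add, AddMonoidAlgebra.coeff_single, Finsupp.single_eq_of_ne]
    rw [nsmul_eq_mul]
    exact (h l).symm

variable {G T : Over (Spec (CommRingCat.of k))} [GrpObj G] [GrpObj T] {r : G ⟶ GLs k n} [IsMonHom r]
  {C : Chars (Fin d → ℤ) T} {iT : T ⟶ G} [IsMonHom iT] {a : Fin n → Fin d → ℤ}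
  (hdiag : ∀ (X : Over (Spec (CommRingCat.of k))) (x : X ⟶ T),
    mat ((x ≫ iT) ≫ r) = Matrix.diagonal fun j => C.ch x (Multiplicative.ofAdd (a j)))
  {u : Red.Ga (Spec (CommRingCat.of k)) ⟶ G} (α : Fin d → ℤ)
  (hu : ∀ (X : Over (Spec (CommRingCat.of k))) (t : X ⟶ T) (x : X ⟶ Red.Ga (Spec (CommRingCat.of k))),
    ∃ y, y ≫ u = (t ≫ iT) * (x ≫ u) * (t ≫ iT)⁻¹ ∧
      Red.gaFn y = C.ch t (Multiplicative.ofAdd α) * Red.gaFn x)

include hdiag hu in
/-- A root group is contracted according to the sign of the pairing. -/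
theorem blk_root (b : Fin d → ℤ) (i j : Fin n) (h : ∀ l : ℕ, (l : ℤ) * pairing α b ≠ wt a b i - wt a b j) :
    mat (u ≫ r) i j = 0 := by
  let P : Type u := k[X]
  let X₀ : Over (Spec (CommRingCat.of k)) := VecGrp.pt k P
  let x₀ : X₀ ⟶ Red.Ga (Spec (CommRingCat.of k)) :=
    GaPts.ptOfFn ((Scheme.ΓSpecIso (CommRingCat.of P)).inv (Polynomial.X : k[X]))
  obtain ⟨τ, hτ⟩ := exists_lam C b P
  let incl : P →ₐ[k] P[T;T⁻¹] := IsScalarTower.toAlgHom k P P[T;T⁻¹]
  let ψ : P →ₐ[k] P[T;T⁻¹] := Polynomial.aeval (AddMonoidAlgebra.single (pairing α b) (Polynomial.X : k[X]))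
  have hincl : ∀ F : P, incl F = AddMonoidAlgebra.single 0 F := fun F => by simp [incl]
  have happ : ∀ {B : Type u} [CommRing B] [Algebra k B] (θ : P →ₐ[k] B),
      InvRing21.ptHom B (Red.gaFn (VecGrp.ptMap θ ≫ x₀)) = θ (Polynomial.X : k[X]) := fun {B} _ _ θ => by
    rw [GaPts.gaFn_comp, GaPts.gaFn_ptOfFn, VecGrp.ptMap_left]
    show ((Scheme.ΓSpecIso (CommRingCat.of P)).inv ≫ (Spec.map (CommRingCat.ofHom θ.toRingHom)).appTop ≫
      (Scheme.ΓSpecIso (CommRingCat.of B)).hom) _ = _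
    rw [Scheme.ΓSpecIso_naturality, Iso.inv_hom_id_assoc]
    rfl
  obtain ⟨y, hy, hy'⟩ := hu _ τ (VecGrp.ptMap incl ≫ x₀)
  have hyψ : y = VecGrp.ptMap ψ ≫ x₀ := GaPts.gaFn_injective
    ((Scheme.ΓSpecIso (CommRingCat.of P[T;T⁻¹])).commRingCatIsoToRingEquiv.injective (by
      show InvRing21.ptHom P[T;T⁻¹] (Red.gaFn y) = InvRing21.ptHom P[T;T⁻¹] (Red.gaFn (VecGrp.ptMap ψ ≫ x₀))
      rw [hy', map_mul, (hτ α).1, happ, happ, hincl, AddMonoidAlgebra.single_mul_single, add_zero, _root_.one_mul]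
      exact (Polynomial.aeval_X _).symm))
  have hpm : ∀ {B : Type u} [CommRing B] [Algebra k B] (θ : P →ₐ[k] B),
      pmat r ((VecGrp.ptMap θ ≫ x₀) ≫ u) i j = θ (pmat r (x₀ ≫ u) i j) := fun θ => by
    rw [pmat_apply, pmat_apply, Category.assoc, val_ptMap]
    rfl
  have h1 : pmat r (y ≫ u) i j = AddMonoidAlgebra.single (wt a b i - wt a b j) (pmat r (x₀ ≫ u) i j) := by
    rw [hy, pmat_mul, pmat_mul]
    have hpos : pmat r (τ ≫ iT) = Matrix.diagonal fun j => AddMonoidAlgebra.single (wt a b j) 1 := by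
      rw [pmat, hdiag, Matrix.diagonal_map (map_zero _)]
      congr 1
      funext l
      exact (hτ (a l)).1
    have hneg : pmat r (τ ≫ iT)⁻¹ = Matrix.diagonal fun j => AddMonoidAlgebra.single (-wt a b j) 1 := by
      rw [pmat, show (τ ≫ iT)⁻¹ = τ⁻¹ ≫ iT from (GrpObj.inv_comp _ _).symm, hdiag, Matrix.diagonal_map (map_zero _)]
      congr 1
      funext l
      exact (hτ (a l)).2
    rw [hpos, hneg, Matrix.mul_diagonal, Matrix.diagonal_mul, hpm, hincl, AddMonoidAlgebra.single_mul_single,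
      AddMonoidAlgebra.single_mul_single, _root_.one_mul, _root_.mul_one, add_zero, ← sub_eq_add_neg]
  rw [hyψ, hpm] at h1
  have h2 := congrArg (fun F : P[T;T⁻¹] => F.coeff (wt a b i - wt a b j)) h1
  rw [AddMonoidAlgebra.coeff_single, Finsupp.single_eq_same] at h2
  have h0 : pmat r (x₀ ≫ u) i j = 0 := h2.symm.trans (coeff_aeval_single _ _ h _)
  -- every point comes from the universal one
  letI := (alg (Red.Ga (Spec (CommRingCat.of k)))).toAlgebra
  let θ : k[X] →ₐ[k] Γ((Red.Ga (Spec (CommRingCat.of k))).left, ⊤) :=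
    Polynomial.aeval (Red.gaFn (𝟙 (Red.Ga (Spec (CommRingCat.of k)))))
  let z : Red.Ga (Spec (CommRingCat.of k)) ⟶ X₀ := DiagGL.mk (A := P) θ.toRingHom fun c => θ.commutes c
  have hz : z ≫ x₀ = 𝟙 _ := GaPts.gaFn_injective (by
    show Red.gaFn (z ≫ x₀) = _
    rw [GaPts.gaFn_comp, GaPts.gaFn_ptOfFn]
    show ev (DiagGL.mk (A := P) θ.toRingHom fun c => θ.commutes c) (Polynomial.X : k[X]) = _
    rw [ev_mk]
    exact Polynomial.aeval_X _)
  rw [← Category.id_comp u, ← hz, Category.assoc, Category.assoc, ← Category.assoc x₀, mat_comp, Matrix.map_apply]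
  have h3 : mat ((x₀ ≫ u) ≫ r) i j = 0 :=
    (Scheme.ΓSpecIso (CommRingCat.of P)).commRingCatIsoToRingEquiv.injective (h0.trans (map_zero _).symm)
  rw [h3, map_zero]

include hdiag hu in
theorem blk_of_nonneg (b : Fin d → ℤ) (hm : 0 ≤ pairing α b) : Blk (wt a b) (mat (u ≫ r)) := fun i j hij =>
  blk_root hdiag α hu b i j fun l h => by
    have := mul_nonneg (Int.natCast_nonneg l) hm
    omega

include hu in
omit [IsMonHom r] in
/-- A root group with nonzero root is not contained in the torus. -/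
theorem eq_zero_of_factors [Mono u] {τ : Red.Ga (Spec (CommRingCat.of k)) ⟶ T} (hτ : τ ≫ iT = u) : α = 0 := by
  obtain ⟨t, ht⟩ := exists_lam C α k
  let x : VecGrp.pt k k[T;T⁻¹] ⟶ Red.Ga (Spec (CommRingCat.of k)) :=
    GaPts.ptOfFn (1 : Γ((VecGrp.pt k k[T;T⁻¹]).left, ⊤))
  obtain ⟨y, hy, hy'⟩ := hu _ t x
  have hcomm : (t ≫ iT) * (x ≫ u) = (x ≫ u) * (t ≫ iT) := by
    rw [← hτ, ← Category.assoc, ← MonObj.mul_comp, ← MonObj.mul_comp, (commute_of_chars C t (x ≫ τ)).eq]
  rw [hcomm, mul_inv_cancel_right] at hy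
  rw [(cancel_mono u).1 hy, GaPts.gaFn_ptOfFn, _root_.mul_one] at hy'
  have h1 := congrArg (InvRing21.ptHom k[T;T⁻¹]) hy'
  rw [map_one, (ht α).1, AddMonoidAlgebra.one_def] at h1
  have h2 : pairing α α = 0 := by
    by_contra hne
    have := congrArg (fun F : k[T;T⁻¹] => F.coeff 0) h1
    simp only [AddMonoidAlgebra.coeff_single, Finsupp.single_eq_same, Finsupp.single_eq_of_ne (Ne.symm hne)] at this
    exact one_ne_zero this
  funext l
  exact mul_self_eq_zero.1 ((Finset.sum_eq_zero_iff_of_nonneg fun i _ => mul_self_nonneg (α i)).1 h2 l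
    (Finset.mem_univ l))

/-- The characters of `D_S(M)` through the multiplicative group. -/
theorem gmFn_chi {S : Scheme.{u}} {M : Type} [AddCommGroup M] {X : Over S} (x : X ⟶ Red.DS S M) (m : M) :
    Red.gmFn (x ≫ Red.chi S m) = (charsDS S M).ch x (Multiplicative.ofAdd m) := by
  let f : X.left ⟶ Spec (CommRingCat.of (MonoidAlgebra (ULift.{u} ℤ) (Multiplicative M))) :=
    x.left ≫ pullback.fst _ _
  have h1 : (x ≫ Red.chi S m).left ≫ pullback.fst _ _ = f ≫ Spec.map (CommRingCat.ofHom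
      (MonoidAlgebra.mapDomainAlgHom (ULift.{u} ℤ) (ULift.{u} ℤ)
        (AddMonoidHom.toMultiplicative (zmultiplesHom M m))).toRingHom) :=
    (Category.assoc _ _ _).trans ((congrArg (x.left ≫ ·) (pullback.lift_fst _ _ _)).trans (Category.assoc _ _ _).symm)
  show ((x ≫ Red.chi S m).left ≫ pullback.fst _ _).appTop Red.gmCoord = _
  rw [h1]
  refine (GmPts.appTop_comp_apply _ _ _).trans ?_
  show f.appTop ((Spec.map _).appTop ((Scheme.ΓSpecIso _).inv _)) = _
  refine Eq.trans (congrArg f.appTop.hom (ConcreteCategory.congr_hom (Scheme.ΓSpecIso_inv_naturality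
    (CommRingCat.ofHom (MonoidAlgebra.mapDomainAlgHom (ULift.{u} ℤ) (ULift.{u} ℤ)
      (AddMonoidHom.toMultiplicative (zmultiplesHom M m))).toRingHom))
    (MonoidAlgebra.single (Multiplicative.ofAdd (1 : ℤ)) 1)).symm) ?_
  have h2 : (fl _ (Red.diag (ULift.{u} ℤ) M) x).left = f := rfl
  show _ = ((fl _ (Red.diag (ULift.{u} ℤ) M) x).left.appTop)
    ((Scheme.ΓSpecIso (CommRingCat.of (MonoidAlgebra (ULift.{u} ℤ) (Multiplicative M)))).inv
      (MonoidAlgebra.of (ULift.{u} ℤ) (Multiplicative M) (Multiplicative.ofAdd m)))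
  rw [h2]
  refine congrArg (fun z => f.appTop
    ((Scheme.ΓSpecIso (CommRingCat.of (MonoidAlgebra (ULift.{u} ℤ) (Multiplicative M)))).inv z)) ?_
  show MonoidAlgebra.mapDomainAlgHom (ULift.{u} ℤ) (ULift.{u} ℤ)
    (AddMonoidHom.toMultiplicative (zmultiplesHom M m)) (MonoidAlgebra.single (Multiplicative.ofAdd (1 : ℤ)) 1) = _
  simp

end Groth.Agent.AttrBorel21
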