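import Groth.Agent.S8069
import Groth.Agent.Lib.AttrBorel21.SplitData

/-!
# Positive multiples of roots
-/

set_option autoImplicit false
universe u

open CategoryTheory AlgebraicGeometry

noncomputable section

namespace Groth.Agent.AttrBorel21

/-- A root is no proper multiple of a root. -/
theorem root_multiple {k : Type u} [Field k] {G : Over (Spec (CommRingCat.of k))} [GrpObj G] (D : Red.SplitRed G)
    [IsMonHom D.i] (c c' : D.idx) (l : ℕ) (h : (l : ℤ) • (rootGroups D).e c = (rootGroups D).e c') :
    c = c' ∧ l = 1 := by
  have h' : (l : ℤ) • D.P.root c = D.P.root c' := by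
    apply (Module.finBasis ℤ D.M).equivFun.injective
    rw [map_zsmul]
    exact h
  have hdep : ¬ LinearIndependent ℤ ![D.P.root c, D.P.root c'] := fun hli => by
    have := LinearIndependent.pair_iff.1 hli (l : ℤ) (-1) (by rw [h', neg_one_zsmul, add_neg_cancel])
    exact absurd this.2 (by norm_num)
  have hne := RootPairing.ne_zero D.P c
  rcases (S8069.result k G D).eq_or_eq_neg c c' hdep with he | he
  · refine ⟨D.P.root.injective he, ?_⟩
    have h2 : ((l : ℤ) - 1) • D.P.root c = 0 := by rw [sub_smul, h', one_smul, ← he, sub_self]
    have := (smul_eq_zero.1 h2).resolve_right hne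
    omega
  · exfalso
    have h2 : ((l : ℤ) + 1) • D.P.root c = 0 := by rw [add_smul, h', one_smul, he, add_neg_cancel]
    have := (smul_eq_zero.1 h2).resolve_right hne
    omega

end Groth.Agent.AttrBorel21
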