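import Mathlib.RingTheory.Smooth.Basic
import Mathlib.Algebra.Polynomial.Laurent
import Mathlib.RingTheory.Filtration
import Mathlib.RingTheory.Polynomial.Basic

/-!
# The contracted locus of a grading of a formally smooth algebra is formally smooth
-/

set_option autoImplicit false
universe u v

open scoped LaurentPolynomial Polynomial

noncomputable section

namespace Groth.Agent.AttrBorel21

variable {R A : Type u} [CommRing R] [CommRing A] [Algebra R A] (Φ : A →ₐ[R] A[T;T⁻¹]) {ι : Type v}

/-- Homogeneous elements of degree `n`. -/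
def IsHom (n : ℤ) (a : A) : Prop := Φ a = AddMonoidAlgebra.single n a

theorem IsHom.one : IsHom Φ 0 1 := by
  rw [IsHom, map_one, AddMonoidAlgebra.one_def]

theorem IsHom.mul {n m : ℤ} {a b : A} (ha : IsHom Φ n a) (hb : IsHom Φ m b) : IsHom Φ (n + m) (a * b) := by
  rw [IsHom, map_mul, show Φ a = _ from ha, show Φ b = _ from hb, AddMonoidAlgebra.single_mul_single]

variable (x : ι → A) (d : ι → ℤ)

/-- The ideal of the generators of negative degree. -/
def negIdeal : Ideal A := Ideal.span (Set.range fun i : {i // d i < 0} => x i.1)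

variable (hx : ∀ i, IsHom Φ (d i) (x i)) (hgen : Algebra.adjoin R (Set.range x) = ⊤)

include hx hgen in
/-- Induction on products of generators. -/
theorem induction {P : A → Prop} (h0 : P 0) (hadd : ∀ a b, P a → P b → P (a + b))
    (hsmul : ∀ (c : R) a, P a → P (c • a))
    (hhom : ∀ (n : ℤ) a, IsHom Φ n a → (0 < n → a ∈ Ideal.span (Set.range fun i : {i // 0 < d i} => x i.1)) → P a) :
    ∀ a, P a := by
  intro a
  have ha : a ∈ Submodule.span R (Submonoid.closure (Set.range x) : Set A) := by
    rw [← Algebra.adjoin_eq_span, hgen]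
    trivial
  induction ha using Submodule.span_induction with
  | mem b hb =>
    obtain ⟨n, hn, hn'⟩ : ∃ n, IsHom Φ n b ∧
        (0 < n → b ∈ Ideal.span (Set.range fun i : {i // 0 < d i} => x i.1)) := by
      induction hb using Submonoid.closure_induction with
      | mem y hy =>
        obtain ⟨i, rfl⟩ := hy
        exact ⟨d i, hx i, fun h => Ideal.subset_span ⟨⟨i, h⟩, rfl⟩⟩
      | one => exact ⟨0, IsHom.one Φ, fun h => absurd h (lt_irrefl 0)⟩
      | mul y z _ _ ihy ihz =>
        obtain ⟨n, hn, hn'⟩ := ihy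
        obtain ⟨m, hm, hm'⟩ := ihz
        refine ⟨n + m, IsHom.mul Φ hn hm, fun h => ?_⟩
        rcases lt_or_ge 0 n with h' | h'
        · exact Ideal.mul_mem_right _ _ (hn' h')
        · exact Ideal.mul_mem_left _ _ (hm' (by omega))
    exact hhom n b hn hn'
  | zero => exact h0
  | add b c _ _ hb hc => exact hadd b c hb hc
  | smul c b _ hb => exact hsmul c b hb

theorem toLaurent_coeff_of_neg {B : Type*} [CommRing B] (p : B[X]) {n : ℤ} (hn : n < 0) :
    (Polynomial.toLaurent p).coeff n = 0 := by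
  induction p using Polynomial.induction_on' with
  | add p q hp hq => rw [map_add, AddMonoidAlgebra.coeff_add, Finsupp.add_apply, hp, hq, add_zero]
  | monomial m b =>
    rw [Polynomial.toLaurent_C_mul_T, ← LaurentPolynomial.single_eq_C_mul_T, AddMonoidAlgebra.coeff_single,
      Finsupp.single_eq_of_ne (by omega)]

theorem map_toLaurent {B C : Type*} [CommRing B] [CommRing C] (f : B →+* C) (p : B[X]) :
    AddMonoidAlgebra.mapRingHom ℤ f (Polynomial.toLaurent p) = Polynomial.toLaurent (p.map f) := by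
  induction p using Polynomial.induction_on' with
  | add p q hp hq => rw [map_add, map_add, hp, hq, Polynomial.map_add, map_add]
  | monomial m b =>
    rw [Polynomial.map_monomial, Polynomial.toLaurent_C_mul_T, Polynomial.toLaurent_C_mul_T,
      ← LaurentPolynomial.single_eq_C_mul_T, ← LaurentPolynomial.single_eq_C_mul_T,
      AddMonoidAlgebra.mapRingHom_single]

include hx hgen in
/-- **The contracted locus of a grading of a formally smooth algebra is formally smooth.** -/
theorem formallySmooth_quotient [Algebra.FormallySmooth R A] :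
    Algebra.FormallySmooth R (A ⧸ negIdeal x d) := by
  refine Algebra.FormallySmooth.iff_comp_surjective.2 fun B _ _ I hI f => ?_
  let ψ₀ : A →ₐ[R] B ⧸ I := f.comp (Ideal.Quotient.mkₐ R (negIdeal x d))
  let Ψ : A →ₐ[R] (B ⧸ I)[T;T⁻¹] := (AddMonoidAlgebra.mapAlgHom ℤ ψ₀).comp Φ
  let j : (B ⧸ I)[X] →ₐ[R] (B ⧸ I)[T;T⁻¹] := Polynomial.toLaurentAlg.restrictScalars R
  have hΨ : ∀ n a, IsHom Φ n a → Ψ a = AddMonoidAlgebra.single n (ψ₀ a) := fun n a h => by
    show AddMonoidAlgebra.mapAlgHom ℤ ψ₀ (Φ a) = _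
    rw [show Φ a = _ from h, AddMonoidAlgebra.mapAlgHom_single]
  have hneg : ∀ i, d i < 0 → ψ₀ (x i) = 0 := fun i hi => by
    show f (Ideal.Quotient.mk _ (x i)) = 0
    rw [Ideal.Quotient.eq_zero_iff_mem.2 (show x i ∈ negIdeal x d from Ideal.subset_span ⟨⟨i, hi⟩, rfl⟩), map_zero]
  have hrange : ∀ a, Ψ a ∈ j.range := fun a => by
    have : (⊤ : Subalgebra R A) ≤ j.range.comap Ψ := by
      rw [← hgen]
      refine Algebra.adjoin_le ?_
      rintro _ ⟨i, rfl⟩
      show Ψ (x i) ∈ j.range
      rw [hΨ _ _ (hx i)]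
      rcases lt_or_ge (d i) 0 with hi | hi
      · rw [hneg i hi, AddMonoidAlgebra.single_zero]
        exact Subalgebra.zero_mem _
      · refine ⟨Polynomial.monomial (d i).toNat (ψ₀ (x i)), ?_⟩
        show Polynomial.toLaurent _ = _
        rw [Polynomial.toLaurent_C_mul_T, ← LaurentPolynomial.single_eq_C_mul_T, Int.toNat_of_nonneg hi]
    exact this trivial
  have hj : Function.Injective j := Polynomial.toLaurent_injective
  let Ψ' : A →ₐ[R] (B ⧸ I)[X] := (AlgEquiv.ofInjective j hj).symm.toAlgHom.comp (Ψ.codRestrict j.range hrange)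
  have hΨ' : ∀ a, Polynomial.toLaurent (Ψ' a) = Ψ a := fun a =>
    congrArg Subtype.val ((AlgEquiv.ofInjective j hj).apply_symm_apply ⟨Ψ a, hrange a⟩)
  let π : B[X] →ₐ[R] (B ⧸ I)[X] := Polynomial.mapAlgHom (Ideal.Quotient.mkₐ R I)
  have hπ : Function.Surjective π := Polynomial.map_surjective _ (Ideal.Quotient.mkₐ_surjective R I)
  have hker : IsNilpotent (RingHom.ker (π : B[X] →+* (B ⧸ I)[X])) := ⟨2, by
    rw [show (π : B[X] →+* (B ⧸ I)[X]) = Polynomial.mapRingHom (Ideal.Quotient.mk I) from rfl,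
      Polynomial.ker_mapRingHom, Ideal.mk_ker, ← Ideal.map_pow, hI, Ideal.map_bot]
    rfl⟩
  let χ : A →ₐ[R] B[X] := Algebra.FormallySmooth.liftOfSurjective Ψ' π hπ hker
  have hχ : ∀ a, π (χ a) = Ψ' a := Algebra.FormallySmooth.liftOfSurjective_apply Ψ' π hπ hker
  let χL : A →ₐ[R] B[T;T⁻¹] := (Polynomial.toLaurentAlg.restrictScalars R).comp χ
  -- reading the coefficient of the degree
  let σ : A[T;T⁻¹] →ₗ[R] B :=
    (Finsupp.lsum R fun n => (Finsupp.lapply n).comp
      ((AddMonoidAlgebra.coeffLinearEquiv R).toLinearMap.comp χL.toLinearMap)).comp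
      (AddMonoidAlgebra.coeffLinearEquiv R).toLinearMap
  let ψ : A →ₗ[R] B := σ.comp Φ.toLinearMap
  have hψ : ∀ n a, IsHom Φ n a → ψ a = (χL a).coeff n := fun n a h => by
    show σ (Φ a) = _
    rw [show Φ a = _ from h]
    show Finsupp.lsum R _ (Finsupp.single n a) = _
    rw [Finsupp.lsum_single]
    rfl
  have hmod : ∀ a n, Ideal.Quotient.mk I ((χL a).coeff n) = (Ψ a).coeff n := fun a n => by
    rw [← AddMonoidAlgebra.coeff_mapRingHom, ← hΨ' a]
    show (AddMonoidAlgebra.mapRingHom ℤ _ (Polynomial.toLaurent (χ a))).coeff n = _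
    rw [map_toLaurent, ← hχ a]
    rfl
  have hoff : ∀ n a, IsHom Φ n a → ∀ m, m ≠ n → (χL a).coeff m ∈ I := fun n a h m hm => by
    rw [← Ideal.Quotient.eq_zero_iff_mem, hmod, hΨ n a h, AddMonoidAlgebra.coeff_single,
      Finsupp.single_eq_of_ne hm]
  have hII : ∀ {a b : B}, a ∈ I → b ∈ I → a * b = 0 := fun {a b} ha hb => by
    rw [← Ideal.mem_bot, ← hI, pow_two]
    exact Ideal.mul_mem_mul ha hb
  have hmul : ∀ n a, IsHom Φ n a → ∀ m b, IsHom Φ m b → ψ (a * b) = ψ a * ψ b := fun n a ha m b hb => by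
    classical
    rw [hψ _ _ (IsHom.mul Φ ha hb), hψ _ _ ha, hψ _ _ hb, map_mul]
    set α := (χL a).coeff n
    set β := (χL b).coeff m
    set ea := χL a - AddMonoidAlgebra.single n α with hea
    set eb := χL b - AddMonoidAlgebra.single m β with heb
    have hea0 : ∀ l, ea.coeff l ∈ I ∧ (l = n → ea.coeff l = 0) := fun l => by
      rw [hea, AddMonoidAlgebra.coeff_sub, Finsupp.sub_apply, AddMonoidAlgebra.coeff_single]
      by_cases hl : l = n
      · subst hl
        simp [α]
      · rw [Finsupp.single_eq_of_ne hl, sub_zero]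
        exact ⟨hoff n a ha l hl, fun e => absurd e hl⟩
    have heb0 : ∀ l, eb.coeff l ∈ I ∧ (l = m → eb.coeff l = 0) := fun l => by
      rw [heb, AddMonoidAlgebra.coeff_sub, Finsupp.sub_apply, AddMonoidAlgebra.coeff_single]
      by_cases hl : l = m
      · subst hl
        simp [β]
      · rw [Finsupp.single_eq_of_ne hl, sub_zero]
        exact ⟨hoff m b hb l hl, fun e => absurd e hl⟩
    have hee : ea * eb = 0 := by
      refine AddMonoidAlgebra.coeff_injective (Finsupp.ext fun l => ?_)
      rw [AddMonoidAlgebra.coeff_mul]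
      simp [Finsupp.sum, hII (hea0 _).1 (heb0 _).1]
    have h : χL a * χL b = AddMonoidAlgebra.single n α * AddMonoidAlgebra.single m β +
        AddMonoidAlgebra.single n α * eb + ea * AddMonoidAlgebra.single m β + ea * eb := by
      rw [hea, heb]; ring
    rw [h, hee, add_zero, AddMonoidAlgebra.coeff_add, AddMonoidAlgebra.coeff_add, Finsupp.add_apply,
      Finsupp.add_apply, AddMonoidAlgebra.single_mul_single, AddMonoidAlgebra.coeff_single, Finsupp.single_eq_same,
      AddMonoidAlgebra.coeff_single_mul_eq_mul_coeff m (by intros; omega),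
      AddMonoidAlgebra.coeff_mul_single_eq_coeff_mul n (by intros; omega), (heb0 m).2 rfl, (hea0 n).2 rfl]
    simp
  have hmul' : ∀ a b, ψ (a * b) = ψ a * ψ b := by
    refine induction Φ x d hx hgen (fun b => ?_) (fun a₁ a₂ h₁ h₂ b => ?_) (fun c a₁ h₁ b => ?_) fun n a ha _ => ?_
    · simp
    · rw [add_mul, map_add, h₁, h₂, map_add, add_mul]
    · rw [smul_mul_assoc, map_smul, h₁, map_smul, smul_mul_assoc]
    · refine induction Φ x d hx hgen ?_ (fun b₁ b₂ h₁ h₂ => ?_) (fun c b h => ?_) fun m b hb _ => hmul n a ha m b hb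
      · simp
      · rw [mul_add, map_add, h₁, h₂, map_add, mul_add]
      · rw [mul_smul_comm, map_smul, h, map_smul, mul_smul_comm]
  have hone : ψ 1 = 1 := by
    rw [hψ _ _ (IsHom.one Φ), map_one, AddMonoidAlgebra.one_def, AddMonoidAlgebra.coeff_single, Finsupp.single_eq_same]
  let ψ' : A →ₐ[R] B := AlgHom.ofLinearMap ψ hone hmul'
  have hlift : ∀ a, Ideal.Quotient.mk I (ψ a) = ψ₀ a := by
    refine induction Φ x d hx hgen ?_ (fun a b ha hb => ?_) (fun c a ha => ?_) fun n a ha _ => ?_
    · simp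
    · rw [map_add, map_add, ha, hb, map_add]
    · rw [map_smul, map_smul ψ₀, ← ha]
      exact map_smul (Ideal.Quotient.mkₐ R I) c (ψ a)
    · rw [hψ n a ha, hmod, hΨ n a ha, AddMonoidAlgebra.coeff_single, Finsupp.single_eq_same]
  have hkill : ∀ a ∈ negIdeal x d, ψ' a = 0 := fun a ha => by
    induction ha using Submodule.span_induction with
    | mem b hb =>
      obtain ⟨⟨i, hi⟩, rfl⟩ := hb
      show ψ (x i) = 0
      rw [hψ _ _ (hx i)]
      exact toLaurent_coeff_of_neg _ hi
    | zero => exact map_zero _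
    | add b c _ _ hb hc => rw [map_add, hb, hc, add_zero]
    | smul c b _ hb => rw [smul_eq_mul, map_mul, hb, mul_zero]
  exact ⟨Ideal.Quotient.liftₐ _ ψ' hkill, Ideal.Quotient.algHom_ext _ (AlgHom.ext hlift)⟩

include hx hgen in
/-- In a domain, if the generators of positive degree lie in a proper ideal generated by the ones of negative
degree, they vanish. -/
theorem eq_zero_of_pos [IsDomain A] [IsNoetherianRing A] [Fintype ι] (hne : negIdeal x d ≠ ⊤)
    (hpos : ∀ i, 0 < d i → x i ∈ negIdeal x d) (i : ι) (hi : 0 < d i) : x i = 0 := by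
  classical
  have hle : Ideal.span (Set.range fun i : {i // 0 < d i} => x i.1) ≤ negIdeal x d :=
    Ideal.span_le.2 (by rintro _ ⟨j, rfl⟩; exact hpos j.1 j.2)
  have hkey : ∀ (N : ℕ) (a : A) (n : ℤ), 0 < n → (Φ a).coeff n ∈ negIdeal x d ^ N := by
    intro N
    induction N with
    | zero => simp
    | succ N ih =>
      refine induction Φ x d hx hgen (by simp) (fun a b ha hb n hn => ?_) (fun c a ha n hn => ?_)
        fun m a ha ha' n hn => ?_
      · rw [map_add, AddMonoidAlgebra.coeff_add, Finsupp.add_apply]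
        exact add_mem (ha n hn) (hb n hn)
      · rw [map_smul, AddMonoidAlgebra.coeff_smul, Finsupp.smul_apply, Algebra.smul_def]
        exact Ideal.mul_mem_left _ _ (ha n hn)
      rcases ne_or_eq n m with hnm | rfl
      · rw [show Φ a = _ from ha, AddMonoidAlgebra.coeff_single, Finsupp.single_eq_of_ne hnm]
        exact zero_mem _
      obtain ⟨c, hc⟩ := Ideal.mem_span_range_iff_exists_fun.1 (show a ∈ negIdeal x d from hle (ha' hn))
      rw [← hc, map_sum, AddMonoidAlgebra.coeff_sum, Finset.sum_apply']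
      refine sum_mem fun j _ => ?_
      rw [map_mul, show Φ (x j.1) = _ from hx j.1,
        AddMonoidAlgebra.coeff_mul_single_eq_coeff_mul (n - d j.1) (by intros; omega), pow_succ]
      exact Ideal.mul_mem_mul (ih (c j) _ (by have := j.2; omega)) (Ideal.subset_span ⟨j, rfl⟩)
  have h : x i ∈ ⨅ N : ℕ, negIdeal x d ^ N := Submodule.mem_iInf _ |>.2 fun N => by
    have := hkey N (x i) (d i) hi
    rwa [show Φ (x i) = _ from hx i, AddMonoidAlgebra.coeff_single, Finsupp.single_eq_same] at this
  rwa [Ideal.iInf_pow_eq_bot_of_isDomain _ hne, Ideal.mem_bot] at h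

end Groth.Agent.AttrBorel21
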