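import Groth.Agent.Lib.AttrBorel21.NormCartan
import Groth.Agent.Lib.AttrBorel21.BorelGen

/-!
# Normalisers of tori in solvable groups
-/

set_option autoImplicit false
set_option linter.style.haveILetI false
set_option linter.unusedSectionVars false
set_option backward.isDefEq.respectTransparency.types false
universe u

open CategoryTheory Limits MonoidalCategory CartesianMonoidalCategory MonObj AlgebraicGeometry

noncomputable section

namespace Groth.Agent.AttrBorel21

open InvRing21 TorPts21 MatGrp21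

attribute [local instance] InvRing21.gamAlg BorelFix21.ptsTop

variable {k : Type u} [Field k] [IsAlgClosed k]

/-- A unitriangular matrix of invertible order is trivial. -/
theorem eq_one_of_mem_lay_of_pow {n : ℕ} {g : GL (Fin n) k} (hg : g ∈ lay 1) {L : ℕ} (hL : (L : k) ≠ 0)
    (hgL : g ^ L = 1) : g = 1 := by
  have key : ∀ m : ℕ, g ∈ lay (m + 1) := fun m => by
    induction m with
    | zero => exact hg
    | succ m ih =>
      have hp : ∀ l : ℕ, phi (m + 1) (g ^ l) = (l : k) • phi (m + 1) g := fun l => by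
        induction l with
        | zero =>
          rw [pow_zero, Nat.cast_zero, zero_smul]
          exact (phi_eq_zero_iff (Nat.le_add_left 1 m) (Subgroup.one_mem _)).2 (Subgroup.one_mem _)
        | succ l ihl =>
          rw [pow_succ, phi_mul (Nat.le_add_left 1 m) (Subgroup.pow_mem _ ih l) ih, ihl, Nat.cast_succ, add_smul,
            one_smul]
      have h0 := hp L
      rw [hgL, (phi_eq_zero_iff (Nat.le_add_left 1 m) (Subgroup.one_mem _)).2 (Subgroup.one_mem _)] at h0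
      exact (phi_eq_zero_iff (Nat.le_add_left 1 m) ih).1 ((smul_eq_zero.1 h0.symm).resolve_left hL)
  have := key n
  rw [lay_eq_bot (Nat.le_succ n)] at this
  exact Subgroup.mem_bot.1 this

set_option maxHeartbeats 1000000 in
/-- In a solvable connected group a point normalising a torus centralises it. -/
theorem commute_of_normalizesSub_solvable {B T : Over (Spec (CommRingCat.of k))} [GrpObj B] [GrpObj T] [Smooth B.hom]
    [QuasiCompact B.hom] [ConnectedSpace ↥B.left] (hsol : Red.IsSolvableGrp B) (hT : Red.IsTorus T) (i : T ⟶ B)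
    [IsMonHom i] [Mono i] (x : VecGrp.pt k k ⟶ B) (hx : NormalizesSub i x) :
    ∀ (X : Over (Spec (CommRingCat.of k))) (t : X ⟶ T),
      (InvRing21.toPt X ≫ x) * (t ≫ i) = (t ≫ i) * (InvRing21.toPt X ≫ x) := by
  haveI : IsSeparated B.hom := AbRigid.isSeparated_of_grpObj B
  obtain ⟨Z, _, z, Q, _, q, hZ, hzc, hqm, hqs, hqf, hker, hQa, hQs, hQc⟩ := exists_centre_quotient B
  haveI := hzc
  haveI := hqm
  haveI := hqs
  haveI := hqf
  haveI := hQa
  haveI := hQs
  haveI := hQc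
  haveI := hZ.1
  haveI : LocallyOfFiniteType Z.hom := by rw [← Over.w z]; infer_instance
  have hzcen : ∀ (X : Over (Spec (CommRingCat.of k))) (w : X ⟶ Z) (g : X ⟶ B), (w ≫ z) * g = g * (w ≫ z) :=
    fun X w g => by
    have h := (hZ.2.2 X (w ≫ z)).1 ⟨w, rfl⟩ X (𝟙 X) g
    simpa only [Category.id_comp, Category.comp_id] using h
  obtain ⟨hQc', hQsol⟩ := props_image q hsol
  haveI : IsClosedImmersion (𝟙 Q : Q ⟶ Q).left := inferInstanceAs (IsClosedImmersion (𝟙 Q.left))
  obtain ⟨n, r, hr, hrc, hu⟩ := exists_upper_embedding (𝟙 Q) hQsol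
  haveI := hr
  haveI := hrc
  have hup : ∀ y : VecGrp.pt k k ⟶ Q, mtx r y ∈ upper := fun y => by
    have h := hu ⟨y, rfl⟩
    rwa [mtx_comp, Category.comp_id] at h
  obtain ⟨d, ⟨Ch⟩⟩ := exists_chars hT
  -- the image commutes with the torsion of the torus
  have htor : ∀ (t : VecGrp.pt k k ⟶ T) (L : ℕ), (L : k) ≠ 0 → t ^ L = 1 →
      (x ≫ q) * (t ≫ i ≫ q) = (t ≫ i ≫ q) * (x ≫ q) := by
    intro t L hL htL
    obtain ⟨t', ht'⟩ := (hx _ (𝟙 _) t).1
    rw [Category.id_comp] at ht'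
    have ht'L : t' ^ L = 1 := (cancel_mono i).1 (by
      rw [MonObj.pow_comp, MonObj.one_comp, ← ht', ← MulAut.conj_apply, ← map_pow, ← MonObj.pow_comp, htL,
        MonObj.one_comp, map_one])
    set g := mtx r ((t' * t⁻¹) ≫ i ≫ q) with hg
    have hgL : g ^ L = 1 := by
      rw [hg, ← map_pow, ← MonObj.pow_comp, (show Commute t' t⁻¹ from commute_of_chars Ch _ _).mul_pow, ht'L,
        inv_pow, htL, inv_one, _root_.mul_one, MonObj.one_comp, map_one]
    have hg1 : g ∈ lay 1 := by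
      have e : g = mtx r (x ≫ q) * mtx r (t ≫ i ≫ q) * (mtx r (x ≫ q))⁻¹ * (mtx r (t ≫ i ≫ q))⁻¹ := by
        rw [hg, ← map_inv, ← map_inv, ← map_mul, ← map_mul, ← map_mul]
        congr 1
        rw [MonObj.mul_comp, GrpObj.inv_comp, ← Category.assoc t' i q, ← ht', MonObj.mul_comp, MonObj.mul_comp,
          GrpObj.inv_comp, Category.assoc]
      rw [mem_lay_one_iff]
      refine ⟨hup _, fun a => ?_⟩
      have hX := hup (x ≫ q)
      have hY := hup (t ≫ i ≫ q)
      have hcalc : ∀ {A : GL (Fin n) k}, A ∈ upper →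
          (A : Matrix (Fin n) (Fin n) k) a a * ((A⁻¹ : GL (Fin n) k) : Matrix (Fin n) (Fin n) k) a a = 1 :=
        fun {A} hA => by
          rw [← diag_mul hA (inv_mem hA), mul_inv_cancel, Units.val_one, Matrix.one_apply_eq]
      rw [e, diag_mul (mul_mem (mul_mem hX hY) (inv_mem hX)) (inv_mem hY), diag_mul (mul_mem hX hY) (inv_mem hX),
        diag_mul hX hY]
      linear_combination (((mtx r (t ≫ i ≫ q) : GL (Fin n) k) : Matrix (Fin n) (Fin n) k) a a *
        (((mtx r (t ≫ i ≫ q))⁻¹ : GL (Fin n) k) : Matrix (Fin n) (Fin n) k) a a) * hcalc hX + hcalc hY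
    have h1 : (t' * t⁻¹) ≫ i ≫ q = 1 :=
      mtxFn_injective r ((eq_one_of_mem_lay_of_pow hg1 hL hgL).trans (map_one (mtx r)).symm)
    rw [MonObj.mul_comp, GrpObj.inv_comp, mul_inv_eq_one, ← Category.assoc t' i q, ← ht', MonObj.mul_comp,
      MonObj.mul_comp, GrpObj.inv_comp, mul_inv_eq_iff_eq_mul, Category.assoc] at h1
    exact h1
  have hQcomm := commute_of_commute_tors hT (i ≫ q) (x ≫ q) htor
  obtain ⟨C₂, _, c₂, hC₂, hc₂c, hC₂s⟩ :=
    TorusCentr19.exists_centralizer' (MTRigid29.isMT_of_ft (TorPts21.isMultTypeFT_of_isTorus hT)) hQs (i ≫ q)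
  haveI := hC₂.1
  haveI := hC₂.2.1
  haveI := hc₂c
  haveI := hC₂s
  haveI : ConnectedSpace C₂.left := TorPts21.connectedSpace_centralizer hT hC₂
  obtain ⟨b₂, hb₂⟩ := (hC₂.2.2 _ (x ≫ q)).2 fun X' e t => by
    rw [InvRing21.hom_ext_toPt e (InvRing21.toPt X')]
    exact hQcomm X' t
  obtain ⟨H, _, dG, d₂, hdGm, hdGc, hH⟩ := TorPts21.exists_subgroup_inter q c₂
  haveI := hdGm
  haveI := hdGc
  haveI : IsMonHom d₂ := BorelFix21.isMonHom_of_comp c₂ d₂ (hH.w ▸ (inferInstance : IsMonHom (dG ≫ q)))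
  haveI : LocallyOfFiniteType H.hom := by rw [← Over.w dG]; infer_instance
  haveI : CompactSpace B.left := (quasiCompact_iff_compactSpace B.hom).1 inferInstance
  haveI : CompactSpace H.left := dG.left.isClosedEmbedding.compactSpace
  haveI : CompactSpace C₂.left := c₂.left.isClosedEmbedding.compactSpace
  haveI : IsSeparated Q.hom := inferInstance
  obtain ⟨H₀, _, jH, hjHm, hjHo, hH0⟩ := BorelFix21.exists_identity_component H
  haveI := hjHm
  haveI := hjHo
  haveI := hH0
  haveI : IsClosedImmersion jH.left :=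
    IsClosedImmersion.of_isPreimmersion _ (AbRigid.isClosed_range_of_isOpen jH jH.left.isOpenEmbedding.isOpen_range)
  haveI : CompactSpace H₀.left := jH.left.isClosedEmbedding.compactSpace
  haveI : LocallyOfFiniteType H₀.hom := by rw [← Over.w jH]; infer_instance
  obtain ⟨a, ha⟩ := forall_exists_lift_component jH d₂ (fun b => by
    obtain ⟨g, hg⟩ := exists_pt_lift q (b ≫ c₂)
    exact ⟨hH.lift g b hg, hH.lift_snd _ _ _⟩) b₂
  have hfam : ∀ (a : VecGrp.pt k k ⟶ H₀) (t : VecGrp.pt k k ⟶ T), ∃ w : VecGrp.pt k k ⟶ Z,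
      w ≫ z = (a ≫ jH ≫ dG) * (t ≫ i) * (a ≫ jH ≫ dG)⁻¹ * (t ≫ i)⁻¹ := fun a t => by
    refine ⟨hker.lift _ (toUnit _) ?_, hker.lift_fst _ _ _⟩
    have h2 := (hC₂.2.2 _ ((a ≫ jH ≫ d₂) ≫ c₂)).1 ⟨_, rfl⟩ _ (𝟙 _) t
    have e : (a ≫ jH ≫ dG) ≫ q = (a ≫ jH ≫ d₂) ≫ c₂ := by simp only [Category.assoc, hH.w]
    rw [Category.id_comp, ← e, ← Category.assoc t] at h2
    rw [MonObj.mul_comp, MonObj.mul_comp, MonObj.mul_comp, GrpObj.inv_comp, GrpObj.inv_comp, h2,
      mul_inv_cancel_right, mul_inv_cancel, Hom.one_def]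
  have hxa : (x * (a ≫ jH ≫ dG)⁻¹) ≫ q = 1 := by
    rw [MonObj.mul_comp, GrpObj.inv_comp, ← hb₂, ← ha]
    simp only [Category.assoc, hH.w, mul_inv_cancel]
  obtain ⟨w, hw⟩ : ∃ w : VecGrp.pt k k ⟶ Z, w ≫ z = x * (a ≫ jH ≫ dG)⁻¹ :=
    ⟨hker.lift _ (toUnit _) (by rw [hxa, Hom.one_def]), hker.lift_fst _ _ _⟩
  refine commute_of_commute_tors hT i x fun t L hL htL => ?_
  have h1 := commute_torus_of_family z (fun w g => hzcen _ w g) i (jH ≫ dG) 1 (MonObj.one_comp _) hfam a t hL htL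
  have h2 : Commute (w ≫ z) (t ≫ i) := hzcen _ w _
  rw [show x = (w ≫ z) * (a ≫ jH ≫ dG) by rw [hw, inv_mul_cancel_right]]
  exact (h2.mul_left h1).eq

/-- The normaliser of a Cartan subgroup inside a solvable connected group is the Cartan subgroup. -/
theorem exists_lift_cartan_solvable {B T C : Over (Spec (CommRingCat.of k))} [GrpObj B] [GrpObj T] [GrpObj C]
    [Smooth B.hom] [QuasiCompact B.hom] [ConnectedSpace ↥B.left] (hsol : Red.IsSolvableGrp B) {i : T ⟶ B}
    (hT : AGF.IsMaxTorus i) {c : C ⟶ B} (hC : Red.IsCentralizerOf i c) {X : Over (Spec (CommRingCat.of k))}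
    (g : X ⟶ B) (hg : NormalizesSub c g) : ∃ w : X ⟶ C, w ≫ c = g := by
  haveI := hT.1
  haveI := hT.2.1
  haveI : IsSeparated B.hom := AbRigid.isSeparated_of_grpObj B
  obtain ⟨hTa, -, -, -⟩ := TorPts21.props_of_isTorus hT.2.2.1
  haveI := hTa
  haveI : QuasiCompact T.hom := inferInstance
  haveI : LocallyOfFiniteType T.hom := by
    haveI := (TorPts21.props_of_isTorus hT.2.2.1).2.1; infer_instance
  haveI : QuasiCompact (i.left ≫ B.hom) := by rw [Over.w i]; infer_instance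
  haveI : QuasiCompact i.left := QuasiCompact.of_comp i.left B.hom
  haveI : IsClosedImmersion i.left := Groth.Agent.S3036.result k T B i
  obtain ⟨hcm, hcc, -⟩ := centralizer_props_gen hT.2.2.1 hC
  haveI := hcc
  obtain ⟨N, _, nT, hN, hNc, hNs⟩ := TorusCentr19.exists_normalizer'
    (TorPts21.isMultTypeFT_of_isTorus hT.2.2.1) ‹Smooth B.hom› i
  haveI := hNs
  haveI := OrbitTop19.isReduced_of_smooth N.hom
  have hgT := normalizesSub_torus_of_centralizer hT.2.2.1 hC
    (fun x hx => normalizesSub_maxTorus_pt hT hC x hx) g hg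
  obtain ⟨u, hu⟩ := (hN.2.2 _ g).2 hgT
  obtain ⟨f, hf⟩ := exists_lift_closed_of_pts c nT fun y => by
    obtain ⟨w, hw⟩ := (hC.2.2 _ (y ≫ nT)).2 fun X' e t => by
      rw [InvRing21.hom_ext_toPt e (InvRing21.toPt X')]
      exact commute_of_normalizesSub_solvable hsol hT.2.2.1 i (y ≫ nT)
        ((hN.2.2 _ _).1 ⟨y, rfl⟩) X' t
    exact ⟨w, hw⟩
  exact ⟨u ≫ f, by rw [Category.assoc, hf, hu]⟩

end Groth.Agent.AttrBorel21
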