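import Groth.Agent.Lib.AttrBorel21.GalPts
import Groth.Agent.Lib.BorelLam21.Groups
import Groth.Agent.Lib.TorPts21.ConjSep
import Mathlib.RepresentationTheory.Homological.GroupCohomology.Hilbert90

/-!
# Split maximal tori are conjugate by a rational point
-/

set_option autoImplicit false
set_option linter.style.haveILetI false
set_option backward.isDefEq.respectTransparency.types false
universe u

open CategoryTheory Limits MonoidalCategory CartesianMonoidalCategory MonObj AlgebraicGeometry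

noncomputable section

namespace Groth.Agent.AttrBorel21

open InvRing21 DiagGL TorPts21 BorelLam21

attribute [local instance] InvRing21.gamAlg BorelFix21.ptsTop

variable {k K : Type u} [Field k] [Field K] [Algebra k K] {d₁ d₂ : ℕ}
  {G T₁ T₂ : Over (Spec (CommRingCat.of k))} [GrpObj G] [GrpObj T₁] [GrpObj T₂]
  {i₁ : T₁ ⟶ G} {i₂ : T₂ ⟶ G}

/-- An automorphism moves a conjugator of split tori only inside the centraliser. -/
theorem commute_auto [IsAffine G.left] [Smooth G.hom] [IsMonHom i₁] [IsMonHom i₂]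
    (C₁ : Chars (Fin d₁ → ℤ) T₁) (C₂ : Chars (Fin d₂ → ℤ) T₂) (g : VecGrp.pt k K ⟶ G)
    (hg : ∀ τ : VecGrp.pt k K ⟶ T₁, ∃ τ₂ : VecGrp.pt k K ⟶ T₂, τ₂ ≫ i₂ = g * (τ ≫ i₁) * g⁻¹)
    (σ : K ≃ₐ[k] K) (τ : VecGrp.pt k K ⟶ T₁) :
    (g⁻¹ * (VecGrp.ptMap σ.toAlgHom ≫ g)) * (τ ≫ i₁) = (τ ≫ i₁) * (g⁻¹ * (VecGrp.ptMap σ.toAlgHom ≫ g)) := by
  classical
  obtain ⟨n, r, hr, hrc, a, hdiag⟩ := exists_diagRep C₂ i₂
  haveI := hr
  haveI := hrc
  obtain ⟨S, P, -, hform⟩ := exists_idem C₁ (i₁ ≫ r)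
  let F : (VecGrp.pt k K ⟶ T₁) → (VecGrp.pt k K ⟶ G) := fun x => g * (x ≫ i₁) * g⁻¹
  have hFmul : ∀ x y, F (x * y) = F x * F y := fun x y => by
    show g * ((x * y) ≫ i₁) * g⁻¹ = g * (x ≫ i₁) * g⁻¹ * (g * (y ≫ i₁) * g⁻¹)
    rw [MonObj.mul_comp]
    group
  have hFone : F 1 = 1 := by
    show g * ((1 : VecGrp.pt k K ⟶ T₁) ≫ i₁) * g⁻¹ = 1
    rw [MonObj.one_comp]
    group
  have hdg : ∀ x, ∃ e : Fin n → K, pmat r (F x) = Matrix.diagonal e := fun x => by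
    obtain ⟨τ₂, h₂⟩ := hg x
    refine ⟨fun j => ptHom K (C₂.ch τ₂ (Multiplicative.ofAdd (a j))), ?_⟩
    show pmat r (g * (x ≫ i₁) * g⁻¹) = _
    rw [← h₂, pmat, hdiag, Matrix.diagonal_map (map_zero _)]
  have hform' : ∀ x : VecGrp.pt k K ⟶ T₁, pmat r (x ≫ i₁) =
      ∑ b : S, chi C₁ x (Multiplicative.ofAdd (b : Fin d₁ → ℤ)) • (P b).map (algebraMap k K) := fun x => by
    rw [pmat, Category.assoc, hform]
    ext p q
    simp only [Matrix.map_apply, Matrix.sum_apply, Matrix.smul_apply, smul_eq_mul, map_sum, map_mul]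
    refine Finset.sum_congr rfl fun b _ => congrArg _ ?_
    exact (ptHom K).commutes (P b p q)
  let φ : Fin n → ((VecGrp.pt k K ⟶ T₁) →* K) := fun i =>
    { toFun := fun x => pmat r (F x) i i
      map_one' := by rw [hFone, pmat_one, Matrix.one_apply_eq]
      map_mul' := fun x y => by
        obtain ⟨e, he⟩ := hdg x
        obtain ⟨e', he'⟩ := hdg y
        rw [hFmul, pmat_mul, he, he', Matrix.diagonal_mul_diagonal, Matrix.diagonal_apply_eq,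
          Matrix.diagonal_apply_eq, Matrix.diagonal_apply_eq] }
  let χ : S → ((VecGrp.pt k K ⟶ T₁) →* K) := fun b =>
    { toFun := fun x => chi C₁ x (Multiplicative.ofAdd (b : Fin d₁ → ℤ))
      map_one' := by
        show ptHom K (C₁.ch 1 _) = 1
        rw [C₁.one, map_one]
      map_mul' := fun x y => chi_mul C₁ x y _ }
  have hb : ∀ i, ∃ b, φ i = χ b := fun i =>
    exists_eq_of_sum χ (fun b => (pmat r g * (P b).map (algebraMap k K) * pmat r g⁻¹) i i) (φ i) fun x => by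
      show pmat r (g * (x ≫ i₁) * g⁻¹) i i = _
      rw [pmat_mul, pmat_mul, hform', Finset.mul_sum, Finset.sum_mul, Matrix.sum_apply]
      refine Finset.sum_congr rfl fun b _ => ?_
      rw [mul_smul_comm, smul_mul_assoc, Matrix.smul_apply, smul_eq_mul, _root_.mul_comm]
      rfl
  choose b hb using hb
  set s := VecGrp.ptMap σ.toAlgHom with hs
  have key : ∀ x, F (s ≫ x) = s ≫ F x := fun x => pmat_injective r (by
    obtain ⟨e, he⟩ := hdg x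
    obtain ⟨e', he'⟩ := hdg (s ≫ x)
    rw [hs, pmat_comp_ptMap, he, Matrix.diagonal_map (map_zero _)]
    rw [hs] at he'
    rw [he']
    refine congrArg _ (funext fun i => ?_)
    have h1 := DFunLike.congr_fun (hb i) x
    have h2 := DFunLike.congr_fun (hb i) (VecGrp.ptMap σ.toAlgHom ≫ x)
    change pmat r (F x) i i = _ at h1
    change pmat r (F (VecGrp.ptMap σ.toAlgHom ≫ x)) i i = chi C₁ _ _ at h2
    rw [he, Matrix.diagonal_apply_eq] at h1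
    rw [he', Matrix.diagonal_apply_eq, chi_ptMap] at h2
    rw [h2, h1]
    rfl)
  have hτ : s ≫ (VecGrp.ptMap σ.symm.toAlgHom ≫ τ) = τ := chi_ext C₁ fun j => by
    rw [hs, chi_ptMap, chi_ptMap]
    exact σ.apply_symm_apply _
  have h := key (VecGrp.ptMap σ.symm.toAlgHom ≫ τ)
  simp only [F, MonObj.comp_mul, GrpObj.comp_inv] at h
  rw [← Category.assoc s _ i₁, hτ] at h
  calc g⁻¹ * (s ≫ g) * (τ ≫ i₁) = g⁻¹ * ((s ≫ g) * (τ ≫ i₁) * (s ≫ g)⁻¹) * (s ≫ g) := by group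
    _ = g⁻¹ * (g * (τ ≫ i₁) * g⁻¹) * (s ≫ g) := by rw [h]
    _ = (τ ≫ i₁) * (g⁻¹ * (s ≫ g)) := by group

theorem toK_mul {X : Over (Spec (CommRingCat.of k))} [GrpObj X] (x y : VecGrp.pt k K ⟶ X) :
    toK (x * y) = toK x * toK y :=
  fl_injective _ X (by rw [fl_mul, fl_toK, fl_toK, fl_toK, MonObj.comp_mul])

variable [IsAlgClosed K]

/-- A point commuting with a split maximal torus lies in it. -/
theorem exists_lift_of_commute_pts [IsAffine G.left] [Smooth G.hom] (hG : Red.IsReductiveOver K (bcK K G))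
    (hT : AGF.IsMaxTorus (bcMap K i₁)) (h : VecGrp.pt k K ⟶ G)
    (hc : ∀ τ : VecGrp.pt k K ⟶ T₁, h * (τ ≫ i₁) = (τ ≫ i₁) * h) :
    ∃ z : VecGrp.pt k K ⟶ T₁, z ≫ i₁ = h := by
  haveI : IsAffine (bcK K G).left := BorelFix21.isAffine_bc _ G
  haveI : Smooth (bcK K G).hom := BorelFix21.smooth_bc _ G
  haveI : ConnectedSpace (bcK K G).left := hG.2.2.1
  obtain ⟨z, hz⟩ := (cent_iff hG hT (toK h)).1 fun τ => by
    obtain ⟨τ, rfl⟩ := exists_toK τ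
    rw [← toK_comp, ← toK_mul, ← toK_mul, hc]
  obtain ⟨z, rfl⟩ := exists_toK z
  exact ⟨z, toK_injective (by rw [toK_comp, hz])⟩

variable [Algebra.IsAlgebraic k K]

open groupCohomology in
set_option maxHeartbeats 800000 in
/-- A conjugator over a separable extension of split maximal tori can be replaced by a rational one. -/
theorem exists_rat_conjugator [IsAffine G.left] [Smooth G.hom] [IsMonHom i₁] [IsMonHom i₂]
    [IsClosedImmersion i₁.left]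
    (C₁ : Chars (Fin d₁ → ℤ) T₁) (C₂ : Chars (Fin d₂ → ℤ) T₂) (hG : Red.IsReductiveOver K (bcK K G))
    (hT : AGF.IsMaxTorus (bcMap K i₁)) {k' : Type u} [Field k'] [Algebra k k'] [FiniteDimensional k k']
    [Algebra.IsSeparable k k'] (e : k' →ₐ[k] K) (g₀ : VecGrp.pt k k' ⟶ G)
    (hfw : ∀ τ : VecGrp.pt k K ⟶ T₁, ∃ τ₂ : VecGrp.pt k K ⟶ T₂,
      τ₂ ≫ i₂ = (VecGrp.ptMap e ≫ g₀) * (τ ≫ i₁) * (VecGrp.ptMap e ≫ g₀)⁻¹)
    (hbw : ∀ τ₂ : VecGrp.pt k K ⟶ T₂, ∃ τ : VecGrp.pt k K ⟶ T₁,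
      τ ≫ i₁ = (VecGrp.ptMap e ≫ g₀)⁻¹ * (τ₂ ≫ i₂) * (VecGrp.ptMap e ≫ g₀)) :
    ∃ g : VecGrp.pt k k ⟶ G,
      (∀ τ : VecGrp.pt k K ⟶ T₁, ∃ τ₂ : VecGrp.pt k K ⟶ T₂,
        τ₂ ≫ i₂ = (VecGrp.ptMap (Algebra.ofId k K) ≫ g) * (τ ≫ i₁) * (VecGrp.ptMap (Algebra.ofId k K) ≫ g)⁻¹) ∧
      (∀ τ₂ : VecGrp.pt k K ⟶ T₂, ∃ τ : VecGrp.pt k K ⟶ T₁,
        τ ≫ i₁ = (VecGrp.ptMap (Algebra.ofId k K) ≫ g)⁻¹ * (τ₂ ≫ i₂) * (VecGrp.ptMap (Algebra.ofId k K) ≫ g)) := by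
  classical
  haveI : IsAlgClosure k K := ⟨inferInstance, inferInstance⟩
  haveI : Normal k K := IsAlgClosure.normal k K
  let L : IntermediateField k K := IntermediateField.normalClosure k k' K
  haveI : Algebra.IsSeparable k L := by
    have hle : L ≤ separableClosure k K := iSup_le fun f => by
      rintro _ ⟨y, rfl⟩
      exact mem_separableClosure_iff.2 ((Algebra.IsSeparable.isSeparable k y).map f f.injective)
    exact Algebra.IsSeparable.of_algHom k _ (IntermediateField.inclusion hle)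
  haveI : IsGalois k L := isGalois_iff.2 ⟨inferInstance, inferInstance⟩
  let j : L →ₐ[k] K := L.val
  let e' : k' →ₐ[k] L := (IntermediateField.inclusion (AlgHom.fieldRange_le_normalClosure e)).comp e.rangeRestrict
  have he : j.comp e' = e := AlgHom.ext fun _ => rfl
  obtain ⟨gL, hgL⟩ : ∃ g : VecGrp.pt k L ⟶ G, g = VecGrp.ptMap e' ≫ g₀ := ⟨_, rfl⟩
  have hgK' : VecGrp.ptMap j ≫ gL = VecGrp.ptMap e ≫ g₀ := by rw [hgL, ← Category.assoc, ptMap_comp, he]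
  generalize VecGrp.ptMap e ≫ g₀ = gK at hfw hbw hgK'
  haveI : Mono i₁ := Over.mono_of_mono_left i₁
  let hh : (L ≃ₐ[k] L) → (VecGrp.pt k L ⟶ G) := fun σ => gL⁻¹ * (VecGrp.ptMap σ.toAlgHom ≫ gL)
  have hlift : ∀ σ, ∃ z : VecGrp.pt k L ⟶ T₁, z ≫ i₁ = hh σ := fun σ => by
    obtain ⟨z, hz⟩ := exists_lift_of_commute_pts hG hT _
      (commute_auto C₁ C₂ gK hfw (σ.liftNormal K))
    refine exists_lift_of_ext j i₁ (hh σ) z (hz.trans ?_)
    have hc : (σ.liftNormal K).toAlgHom.comp j = j.comp σ.toAlgHom :=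
      AlgHom.ext fun x => σ.liftNormal_commutes K x
    show gK⁻¹ * (VecGrp.ptMap (σ.liftNormal K).toAlgHom ≫ gK) = VecGrp.ptMap j ≫ (gL⁻¹ * _)
    rw [MonObj.comp_mul, GrpObj.comp_inv, hgK', ← hgK', ← Category.assoc, ← Category.assoc, ptMap_comp,
      ptMap_comp, hc]

  choose z hz using hlift
  have hcoc : ∀ σ τ : L ≃ₐ[k] L, z (σ * τ) = z σ * (VecGrp.ptMap σ.toAlgHom ≫ z τ) := fun σ τ =>
    (cancel_mono i₁).1 (by
      rw [MonObj.mul_comp, Category.assoc, hz, hz, hz]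
      show gL⁻¹ * (VecGrp.ptMap (σ * τ).toAlgHom ≫ gL) = gL⁻¹ * _ * (_ ≫ (gL⁻¹ * _))
      rw [MonObj.comp_mul, GrpObj.comp_inv, ← Category.assoc (VecGrp.ptMap σ.toAlgHom), ptMap_comp,
        show σ.toAlgHom.comp τ.toAlgHom = (σ * τ).toAlgHom from rfl]
      group)
  let f : Fin d₁ → (L ≃ₐ[k] L) → Lˣ := fun l σ =>
    (chi C₁ (z σ)).toHomUnits (Multiplicative.ofAdd (Pi.single l 1))
  have hf : ∀ l, IsMulCocycle₁ (f l) := fun l σ τ => Units.ext (by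
    show chi C₁ (z (σ * τ)) _ = σ (chi C₁ (z τ) _) * chi C₁ (z σ) _
    rw [hcoc, chi_mul, chi_ptMap, _root_.mul_comm]
    rfl)
  choose β hβ using fun l => groupCohomology.isMulCoboundary₁_of_isMulCocycle₁_of_aut_to_units (f l) (hf l)
  obtain ⟨w, hw⟩ := exists_chi C₁ (monom β)
  have hrel : ∀ σ : L ≃ₐ[k] L, VecGrp.ptMap σ.toAlgHom ≫ w = w * z σ := fun σ => chi_ext C₁ fun l => by
    have h := congrArg Units.val (div_eq_iff_eq_mul.1 (hβ l σ))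
    rw [chi_ptMap, chi_mul, hw, monom_single, _root_.mul_comm]
    exact h
  let g' : VecGrp.pt k L ⟶ G := gL * (w ≫ i₁)⁻¹
  have hfix : ∀ σ : L ≃ₐ[k] L, VecGrp.ptMap σ.toAlgHom ≫ g' = g' := fun σ => by
    show VecGrp.ptMap σ.toAlgHom ≫ (gL * (w ≫ i₁)⁻¹) = _
    rw [MonObj.comp_mul, GrpObj.comp_inv, ← Category.assoc, hrel, MonObj.mul_comp, hz]
    show _ * ((w ≫ i₁) * (gL⁻¹ * (VecGrp.ptMap σ.toAlgHom ≫ gL)))⁻¹ = gL * (w ≫ i₁)⁻¹
    group
  have hmem : ∀ F, val g' F ∈ (⊥ : Subalgebra k L) := fun F => by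
    have hb : val g' F ∈ (⊥ : IntermediateField k L) := (IsGalois.mem_bot_iff_fixed _).2 fun σ => by
      have h := congrArg (fun y => val y F) (hfix σ)
      rw [val_ptMap] at h
      exact h
    obtain ⟨c, hc⟩ := IntermediateField.mem_bot.1 hb
    exact Algebra.mem_bot.2 ⟨c, hc⟩
  let φ₀ : Γ(G.left, ⊤) →ₐ[k] k := (Algebra.botEquiv k L).toAlgHom.comp ((val g').codRestrict ⊥ hmem)
  let g : VecGrp.pt k k ⟶ G := VecGrp.ptMap φ₀ ≫ uPt G
  have hg : VecGrp.ptMap (Algebra.ofId k K) ≫ g = gK * ((VecGrp.ptMap j ≫ w) ≫ i₁)⁻¹ := by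
    rw [← hgK', Category.assoc, ← GrpObj.comp_inv, ← MonObj.comp_mul]
    refine (ptMap_val _).symm.trans (Eq.trans (congrArg (fun a => VecGrp.ptMap a ≫ uPt G)
      (AlgHom.ext fun F => ?_)) (ptMap_val _))
    show val (VecGrp.ptMap (Algebra.ofId k K) ≫ VecGrp.ptMap φ₀ ≫ uPt G) F = val (VecGrp.ptMap j ≫ g') F
    rw [val_ptMap, val_ptMap, val_uPt, val_ptMap]
    obtain ⟨c, hc⟩ := Algebra.mem_bot.1 (hmem F)
    have hφ : φ₀ F = c := by
      show Algebra.botEquiv k L ⟨val g' F, hmem F⟩ = c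
      refine (Algebra.botEquiv k L).symm.injective ((AlgEquiv.symm_apply_apply _ _).trans (Subtype.ext ?_))
      show val g' F = _
      rw [← hc]
      exact (IsScalarTower.algebraMap_apply k k L c).symm
    show algebraMap k K (φ₀ F) = j (val g' F)
    rw [hφ, ← hc]
    exact (j.commutes c).symm
  set wK : VecGrp.pt k K ⟶ T₁ := VecGrp.ptMap j ≫ w
  have hcomm : ∀ τ : VecGrp.pt k K ⟶ T₁, (wK ≫ i₁) * (τ ≫ i₁) = (τ ≫ i₁) * (wK ≫ i₁) := fun τ => by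
    rw [← MonObj.mul_comp, ← MonObj.mul_comp, (commute_of_chars C₁ wK τ).eq]
  refine ⟨g, fun τ => ?_, fun τ₂ => ?_⟩
  · obtain ⟨τ₂, h⟩ := hfw τ
    refine ⟨τ₂, h.trans ?_⟩
    rw [hg]
    calc gK * (τ ≫ i₁) * gK⁻¹ = gK * ((wK ≫ i₁)⁻¹ * ((wK ≫ i₁) * (τ ≫ i₁))) * gK⁻¹ := by group
      _ = gK * ((wK ≫ i₁)⁻¹ * ((τ ≫ i₁) * (wK ≫ i₁))) * gK⁻¹ := by rw [hcomm]
      _ = _ := by group
  · obtain ⟨τ, h⟩ := hbw τ₂
    refine ⟨τ, ?_⟩
    rw [hg]
    calc τ ≫ i₁ = (τ ≫ i₁) * (wK ≫ i₁) * (wK ≫ i₁)⁻¹ := by group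
      _ = (wK ≫ i₁) * (τ ≫ i₁) * (wK ≫ i₁)⁻¹ := by rw [hcomm]
      _ = _ := by rw [h]; group

end Groth.Agent.AttrBorel21
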