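import Groth.Agent.Lib.AttrBorel21.Prod
import Groth.Agent.Lib.AttrBorel21.TorusConj
import Groth.Agent.Lib.AttrBorel21.SplitRep
import Groth.Agent.Lib.AttrBorel21.SplitRed
import Groth.Agent.Lib.AttrBorel21.RootRed
import Groth.Agent.Lib.TorPts21.SemisimpleField

/-!
# The root groups and the torus generate the geometric points
-/

set_option autoImplicit false
set_option linter.style.haveILetI false
set_option backward.isDefEq.respectTransparency.types false
universe u

open CategoryTheory Limits MonoidalCategory CartesianMonoidalCategory MonObj AlgebraicGeometry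

noncomputable section

namespace Groth.Agent.AttrBorel21

open InvRing21 DiagGL TorPts21 BigCell21 BorelLam21

attribute [local instance] InvRing21.gamAlg BorelFix21.ptsTop

variable {k : Type u} [Field k] (K : Type u) [Field K] [Algebra k K]

/-- The points in the extension as points of the base change. -/
def toKEquiv (X : Over (Spec (CommRingCat.of k))) [GrpObj X] :
    (VecGrp.pt k K ⟶ X) ≃* (VecGrp.pt K K ⟶ bcK K X) :=
  MulEquiv.ofBijective (MonoidHom.mk' toK toK_mul) ⟨toK_injective, exists_toK⟩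

variable {n d : ℕ} {G T : Over (Spec (CommRingCat.of k))} [GrpObj G] [GrpObj T] [IsAffine G.left] [Smooth G.hom]
  {r : G ⟶ GLs k n} [IsMonHom r] [IsClosedImmersion r.left] {C : Chars (Fin d → ℤ) T} {iT : T ⟶ G} [IsMonHom iT]
  {a : Fin n → Fin d → ℤ}
  (hdiag : ∀ (X : Over (Spec (CommRingCat.of k))) (x : X ⟶ T),
    mat ((x ≫ iT) ≫ r) = Matrix.diagonal fun j => C.ch x (Multiplicative.ofAdd (a j)))

omit [Smooth G.hom] [IsMonHom r] [IsClosedImmersion r.left] [IsAffine G.left] in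
/-- A product of root groups stays in a subgroup of points. -/
theorem prodMap_mem {J : Type} (u : J → (Red.Ga (Spec (CommRingCat.of k)) ⟶ G))
    (E : Subgroup (VecGrp.pt k K ⟶ G)) (hE : ∀ c (y : VecGrp.pt k K ⟶ _), y ≫ u c ∈ E) :
    ∀ (m : ℕ) (e : Fin m → J) (v : Fin m → Γ((VecGrp.pt k K).left, ⊤)),
      powPt m v ≫ RedSub.prodMap _ m (fun i => u (e i)) ∈ E
  | 0, e, v => by rw [prodMap_zero]; exact E.one_mem
  | m + 1, e, v => by
    rw [powPt_prodMap]
    exact E.mul_mem (hE _ _) (prodMap_mem u E hE m _ _)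

include hdiag in
set_option maxHeartbeats 800000 in
/-- The points of the unipotent contracted group lie in any subgroup containing the root groups. -/
theorem mem_of_unp {J : Type} [Fintype J] (R : RootGroups G iT C J) {b : Fin d → ℤ} (V : UnipData r a b R)
    (hred : ∀ c c' (l : ℕ), (l : ℤ) • R.e c = R.e c' → c = c' ∧ l = 1)
    (E : Subgroup (VecGrp.pt k K ⟶ G)) (hE : ∀ c (y : VecGrp.pt k K ⟶ _), y ≫ R.u c ∈ E)
    (x : VecGrp.pt k K ⟶ G) (hx : Unp (wt a b) (mat (x ≫ r))) : x ∈ E := by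
  classical
  letI := V.grpU
  haveI := V.isMonHom
  haveI := V.closed
  haveI := V.smooth
  obtain ⟨-, hprod⟩ := prod_rootGroups hdiag R V hred V.iU (fun X => ⟨1, MonObj.one_comp _⟩)
    (fun X y z => ⟨y * z, MonObj.mul_comp _ _ _⟩) ((V.fac _ _).1 ⟨𝟙 _, Category.id_comp _⟩)
    (tStab_unip hdiag b V.iU V.fac)
  let S : Set J := {c | ∃ v : Red.Ga (Spec (CommRingCat.of k)) ⟶ V.U, v ≫ V.iU = R.u c}
  let e : Fin (Fintype.card S) → J := fun i => ((Fintype.equivFin S).symm i).1
  obtain ⟨ψ, hψ⟩ := hprod _ e ⟨Subtype.val_injective.comp (Fintype.equivFin S).symm.injective, by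
    rw [Set.range_comp' Subtype.val, Equiv.range_eq_univ, Set.image_univ, Subtype.range_coe]⟩
  obtain ⟨y, rfl⟩ := (V.fac _ _).2 hx
  rw [show V.iU = ψ.inv ≫ ψ.hom ≫ V.iU by rw [Iso.inv_hom_id_assoc], hψ, ← Category.assoc,
    ← powPt_powFn _ (y ≫ ψ.inv)]
  exact prodMap_mem K R.u E hE _ e _

variable [IsAlgClosed K]

include hdiag in
set_option maxHeartbeats 1600000 in
/-- **The torus and a stable subgroup containing the two unipotent groups generate the points.** -/
theorem torus_sup_eq_top (hG : Red.IsReductiveOver K (bcK K G)) {b : Fin d → ℤ}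
    (hmeet : ∀ (X : Over (Spec (CommRingCat.of k))) (x : X ⟶ G), Blk (wt a b) (mat (x ≫ r)) →
      Blk (wt a (-b)) (mat (x ≫ r)) → ∃ τ : X ⟶ T, τ ≫ iT = x)
    (S : Subgroup (VecGrp.pt k K ⟶ G)) (hT : ∀ τ : VecGrp.pt k K ⟶ T, τ ≫ iT ∈ S)
    (hS : ∀ x : VecGrp.pt k K ⟶ G, Unp (wt a b) (mat (x ≫ r)) ∨ Unp (wt a (-b)) (mat (x ≫ r)) → x ∈ S) :
    S = ⊤ := by
  classical
  obtain ⟨rK, hm, hc, hrK⟩ := exists_bcRep K r
  haveI := hm
  haveI := hc
  haveI : IsAffine (bcK K G).left := BorelFix21.isAffine_bc _ G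
  haveI : Smooth (bcK K G).hom := BorelFix21.smooth_bc _ G
  haveI := hG.2.2.1
  haveI : IsMonHom (bcMap K iT) := inferInstance
  have hblk : ∀ b' : Fin d → ℤ, (b' = b ∨ b' = -b) → ∀ x : VecGrp.pt k K ⟶ G,
      Blk (wt a b') (mat (x ≫ r)) → x ∈ S := by
    intro b' hb' x hx
    have hxp : Blk (wt a b') (pmat r x) := fun i j h => by rw [pmat, Matrix.map_apply, hx i j h, map_zero]
    obtain ⟨z, hz⟩ := exists_lim hdiag b' x hxp
    have hinj := InvRing21.ptHom_injective (k := k) K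
    have hzb : ∀ p q, wt a b' p ≠ wt a b' q → mat (z ≫ r) p q = 0 := fun p q h => hinj (by
      rw [map_zero]
      refine (congrFun (congrFun hz p) q).trans ?_
      rw [blkDiag, Matrix.of_apply, if_neg h])
    obtain ⟨τ, hτ⟩ := hmeet _ z (fun p q h => hzb p q (by
        rcases hb' with rfl | rfl
        · exact h.ne
        · simp only [wt, pairing_neg, ne_eq, neg_inj]
          exact h.ne))
      (fun p q h => hzb p q (by
        rcases hb' with rfl | rfl
        · simp only [wt, pairing_neg, neg_lt_neg_iff] at h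
          exact h.ne'
        · exact h.ne))
    have hmul : x = z * (z⁻¹ * x) := (mul_inv_cancel_left _ _).symm
    rw [hmul]
    refine S.mul_mem (hτ ▸ hT τ) (hS _ ?_)
    have hzb' : Blk (wt a b') (pmat r z) := hz ▸ blk_blkDiag _ _
    obtain ⟨hzi, hzd⟩ := blk_left_inv hzb' (show pmat r z⁻¹ * pmat r z = 1 by
      rw [← pmat_mul, inv_mul_cancel, pmat_one])
    have hu : Unp (wt a b') (pmat r (z⁻¹ * x)) := by
      rw [pmat_mul]
      refine ⟨(blk_iff _ _).2 (((blk_iff _ _).1 hzi).mul ((blk_iff _ _).1 hxp)), ?_⟩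
      rw [blkDiag_mul hzi hxp]
      rw [hz, blkDiag_blkDiag] at hzd
      exact hzd
    have hu' : Unp (wt a b') (mat ((z⁻¹ * x) ≫ r)) := by
      refine ⟨fun p q h => hinj (by rw [map_zero]; exact hu.1 p q h), Matrix.ext fun p q => hinj ?_⟩
      have h4 := congrFun (congrFun hu.2 p) q
      rw [pmat, blkDiag_map] at h4
      refine h4.trans ?_
      by_cases e : p = q
      · subst e; simp
      · simp [Matrix.one_apply_ne e]
    rcases hb' with rfl | rfl
    · exact Or.inl hu'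
    · exact Or.inr hu'
  refine eq_top_iff.2 fun g _ => ?_
  haveI : IsIntegral (bcK K G).left := UnitsRos.isIntegral_of_group (bcK K G)
  haveI : Nonempty (bcK K G).left := ⟨η[bcK K G].left (IsLocalRing.closedPoint K)⟩
  let h := minorsFn rK (wt a b)
  let h' := (lTr (toK g)).left.appTop h
  have hne : h ≠ 0 := fun e => val_one_minorsFn rK (wt a b) (by rw [show minorsFn rK (wt a b) = 0 from e, map_zero])
  have hne' : h' ≠ 0 := fun e => val_one_minorsFn rK (wt a b) (by
    have h1 := val_lTr (G := bcK K G) (toK g)⁻¹ (toK g) h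
    rw [show (lTr (toK g)).left.appTop h = 0 from e, map_zero, mul_inv_cancel] at h1
    exact h1.symm)
  obtain ⟨y, hy⟩ := exists_val_ne_zero (mul_ne_zero hne hne')
  rw [map_mul] at hy
  have key : ∀ z : VecGrp.pt K K ⟶ bcK K G, val z h ≠ 0 → ∃ w ∈ S, toK w = z := fun z hz => by
    rw [show h = minorsFn rK (wt a b) from rfl, val_minorsFn] at hz
    obtain ⟨p, q, rfl, hp, hq⟩ := BigCell21.exists_factor (C.baseChange (DiagGL.ext' (k := k) K) T) rK a b
      (diag_K C hdiag hrK) z fun i => Finset.prod_ne_zero_iff.1 hz i (Finset.mem_univ _)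
    obtain ⟨p, rfl⟩ := exists_toK p
    obtain ⟨q, rfl⟩ := exists_toK q
    exact ⟨p * q, S.mul_mem (hblk _ (Or.inr rfl) p ((blk_iff_mem_upPts hrK _ p).2 hp))
      (hblk _ (Or.inl rfl) q ((blk_iff_mem_upPts hrK _ q).2 hq)), toK_mul p q⟩
  obtain ⟨w₁, hw₁, e₁⟩ := key y (left_ne_zero_of_mul hy)
  have h2 : val y h' = val (toK g * y) h := val_lTr (G := bcK K G) y (toK g) h
  obtain ⟨w₂, hw₂, e₂⟩ := key (toK g * y) (by rw [← h2]; exact right_ne_zero_of_mul hy)
  have : g = w₂ * w₁⁻¹ := toK_injective (by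
    rw [← e₁, ← toK_mul] at e₂
    rw [toK_injective e₂]
    group)
  rw [this]
  exact S.mul_mem hw₂ (S.inv_mem hw₁)

variable {G : Over (Spec (CommRingCat.of k))} [GrpObj G] (D : Red.SplitRed G)

set_option maxHeartbeats 800000 in
/-- **Generation of the geometric points by the torus and the root groups.** -/
theorem torus_roots_eq_top (hG : Red.IsReductiveOver K (bcK K G)) (S : Subgroup (VecGrp.pt k K ⟶ G))
    (hT : ∀ τ : VecGrp.pt k K ⟶ D.T, τ ≫ D.i ∈ S) (hu : ∀ c (y : VecGrp.pt k K ⟶ _), y ≫ D.u c ∈ S) : S = ⊤ := by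
  obtain ⟨_, _, _, _, n, r, _, _, a, hdiag⟩ := exists_split_rep D
  obtain ⟨B, _, iB, t, hB, ht⟩ := exists_isBorel D
  obtain ⟨b, -, hmeet, -, ⟨V⟩, -⟩ := exists_radical_data D hdiag hB t ht
  have hmeet' : ∀ (X : Over (Spec (CommRingCat.of k))) (x : X ⟶ G), Blk (wt a (-b)) (mat (x ≫ r)) →
      Blk (wt a (- -b)) (mat (x ≫ r)) → ∃ τ : X ⟶ D.T, τ ≫ D.i = x := fun X x h h' => by
    rw [neg_neg] at h'
    exact hmeet X x h' h
  haveI : Mono D.i := Over.mono_of_mono_left _
  obtain ⟨V'⟩ := exists_unipData hdiag (rootGroups D) (-b) hmeet' (dim_eq_of_split D)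
  refine torus_sup_eq_top K hdiag hG hmeet S hT fun x hx => ?_
  rcases hx with hx | hx
  · exact mem_of_unp K hdiag (rootGroups D) V (root_multiple D) S hu x hx
  · exact mem_of_unp K hdiag (rootGroups D) V' (root_multiple D) S hu x hx

/-- The geometric points of a split semisimple group are generated by the root groups. -/
theorem roots_eq_top (hss : Red.IsSemisimpleOver K (bcK K G)) (E : Subgroup (VecGrp.pt k K ⟶ G))
    (hu : ∀ c (y : VecGrp.pt k K ⟶ _), y ≫ D.u c ∈ E) : E = ⊤ := by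
  haveI := D.maximalTorus.1
  obtain ⟨hGa, hGs, -⟩ := props_of_isReductive D.reductive
  haveI := hGa
  haveI := hGs
  haveI : IsAffine (bcK K G).left := BorelFix21.isAffine_bc _ G
  haveI : Smooth (bcK K G).hom := BorelFix21.smooth_bc _ G
  haveI := hss.1.2.2.1
  let ι₀ : (VecGrp.pt k K ⟶ D.T) →* (VecGrp.pt k K ⟶ G) :=
    MonoidHom.mk' (fun τ => τ ≫ D.i) fun x y => MonObj.mul_comp _ _ _
  let gens : Set (VecGrp.pt k K ⟶ G) := {x | ∃ c y, y ≫ D.u c = x}
  let E₀ := Subgroup.closure gens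
  have hle : E₀ ≤ E := (Subgroup.closure_le _).2 (by rintro _ ⟨c, y, rfl⟩; exact hu c y)
  let S := Subgroup.normalizer (E₀ : Set (VecGrp.pt k K ⟶ G))
  have hST : ∀ τ : VecGrp.pt k K ⟶ D.T, τ ≫ D.i ∈ S := by
    have h1 : ∀ (τ : VecGrp.pt k K ⟶ D.T) x, x ∈ E₀ → (τ ≫ D.i) * x * (τ ≫ D.i)⁻¹ ∈ E₀ := by
      intro τ x hx
      induction hx using Subgroup.closure_induction with
      | mem x hx =>
        obtain ⟨c, y, rfl⟩ := hx
        obtain ⟨y', hy', -⟩ := (rootGroups D).conj c _ τ y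
        exact Subgroup.subset_closure ⟨c, y', hy'⟩
      | one => simp [E₀.one_mem]
      | mul x y _ _ ihx ihy => simpa only [← conj_mul] using E₀.mul_mem ihx ihy
      | inv x _ ih => simpa only [← conj_inv] using E₀.inv_mem ih
    intro τ
    refine Subgroup.mem_normalizer_iff.2 fun x => ⟨h1 τ x, fun hx => ?_⟩
    have h2 := h1 τ⁻¹ _ hx
    rw [GrpObj.inv_comp] at h2
    simpa [_root_.mul_assoc] using h2
  have hTop : ι₀.range ⊔ E₀ = ⊤ := torus_roots_eq_top K D hss.1 _ (fun τ => Subgroup.mem_sup_left ⟨τ, rfl⟩)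
    fun c y => Subgroup.mem_sup_right (Subgroup.subset_closure ⟨c, y, rfl⟩)
  have hnorm : S = ⊤ := torus_roots_eq_top K D hss.1 S hST fun c y =>
    Subgroup.le_normalizer (Subgroup.subset_closure ⟨c, y, rfl⟩)
  haveI : E₀.Normal := Subgroup.normalizer_eq_top_iff.1 hnorm
  have hcomm : commutator (VecGrp.pt k K ⟶ G) ≤ E₀ := by
    refine Subgroup.Normal.commutator_le_of_self_sup_commutative_eq_top (H := ι₀.range)
      (by rw [sup_comm, hTop]) ⟨⟨?_⟩⟩
    rintro ⟨_, x, rfl⟩ ⟨_, y, rfl⟩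
    refine Subtype.ext ?_
    show (x ≫ D.i) * (y ≫ D.i) = (y ≫ D.i) * (x ≫ D.i)
    rw [← MonObj.mul_comp, ← MonObj.mul_comp, commute_of_chars (splitChars D) x y]
  have htop : commutator (VecGrp.pt k K ⟶ G) = ⊤ := by
    have h := commutator_eq_top hss
    have h1 := congrArg (Subgroup.map (toKEquiv K G).symm.toMonoidHom) h
    rw [commutator_def, Subgroup.map_commutator, Subgroup.map_top_of_surjective _ (toKEquiv K G).symm.surjective] at h1
    rw [commutator_def]
    exact h1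
  exact eq_top_iff.2 (htop ▸ hcomm.trans hle)

end Groth.Agent.AttrBorel21
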