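import Groth.Agent.Lib.AttrBorel21.TorusConj
import Groth.Agent.Lib.FinBorel21.Frob
import Groth.Agent.S3920

/-!
# Split maximal tori of a reductive group over a field are conjugate by a rational point
-/

set_option autoImplicit false
set_option linter.style.haveILetI false
set_option backward.isDefEq.respectTransparency.types false
universe u

open CategoryTheory Limits MonoidalCategory CartesianMonoidalCategory MonObj AlgebraicGeometry

noncomputable section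

namespace Groth.Agent.AttrBorel21

open InvRing21 DiagGL TorPts21

attribute [local instance] InvRing21.gamAlg BorelFix21.ptsTop

variable {k : Type u} [Field k] {G T₁ T₂ : Over (Spec (CommRingCat.of k))} [GrpObj G] [GrpObj T₁] [GrpObj T₂]

set_option maxHeartbeats 800000 in
/-- **Conjugacy of split maximal tori.** -/
theorem exists_conj_split (hG : Red.IsReductive G) (i₁ : T₁ ⟶ G) (i₂ : T₂ ⟶ G) (h₁ : Red.IsMaximalTorus i₁)
    (h₂ : Red.IsMaximalTorus i₂) {d₁ d₂ : ℕ} (C₁ : Chars (Fin d₁ → ℤ) T₁) (C₂ : Chars (Fin d₂ → ℤ) T₂) :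
    ∃ (g : 𝟙_ (Over (Spec (CommRingCat.of k))) ⟶ G) (f : T₁ ≅ T₂), f.hom ≫ i₂ = AGF.conjBy g i₁ := by
  haveI := h₁.1
  haveI := h₁.2.1
  haveI := h₂.1
  haveI := h₂.2.1
  obtain ⟨hGa, hGs, -⟩ := props_of_isReductive hG
  haveI := hGa
  haveI := hGs
  haveI : IsClosedImmersion i₁.left :=
    MTRigid29.isClosedImmersion_of_mono (isMultTypeFT_of_isTorus h₁.2.2.1) hG.1 i₁
  haveI : IsClosedImmersion i₂.left :=
    MTRigid29.isClosedImmersion_of_mono (isMultTypeFT_of_isTorus h₂.2.2.1) hG.1 i₂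
  haveI : IsAffine T₁.left := isAffine_of_isAffineHom i₁.left
  haveI : IsAffine T₂.left := isAffine_of_isAffineHom i₂.left
  haveI : Smooth T₁.hom := (smooth_connected_of_isTorus h₁.2.2.1).1
  haveI : Smooth T₂.hom := (smooth_connected_of_isTorus h₂.2.2.1).1
  let s : ↥(Spec (CommRingCat.of k)) := IsLocalRing.closedPoint k
  obtain ⟨alg, halg, hgeq⟩ := FinBorel21.exists_geomAlg s
  let K : Type u := AlgebraicClosure ((Spec (CommRingCat.of k)).residueField s)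
  letI : Algebra k K := alg
  haveI : Algebra.IsAlgebraic k K := halg
  obtain ⟨hRK, hTK⟩ : Red.IsReductiveOver K (bcK K G) ∧ AGF.IsMaxTorus (bcMap K i₁) := by
    have key : ∀ q : Spec (CommRingCat.of K) ⟶ Spec (CommRingCat.of k), q = Red.geomPt s →
        Red.IsReductiveOver K (Red.bc q G) ∧ AGF.IsMaxTorus ((Over.pullback q).map i₁) := by
      rintro q rfl
      exact ⟨hG.2.2 s, isMaxTorus_geomFibre h₁ s⟩
    exact key _ hgeq.symm
  obtain ⟨k', _, _, hfin, hsep, hex⟩ := Groth.Agent.S3920.result k G T₁ T₂ i₁ i₂ h₁ h₂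
  haveI := hfin
  haveI := hsep
  let e : k' →ₐ[k] K := IsAlgClosed.lift
  set ψ := Spec.map (CommRingCat.ofHom (algebraMap k k')) with hψ
  obtain ⟨g, f, hf⟩ := hex
  let W : Over (Spec (CommRingCat.of k')) := Over.mk (Spec.map (CommRingCat.ofHom e.toRingHom))
  let eW : VecGrp.pt k K ≅ (Over.map ψ).obj W := Over.isoMk (Iso.refl _) (by
    show 𝟙 _ ≫ Spec.map (CommRingCat.ofHom e.toRingHom) ≫ ψ = _
    rw [Category.id_comp, hψ, ← Spec.map_comp, ← CommRingCat.ofHom_comp]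
    exact congrArg (fun h => Spec.map (CommRingCat.ofHom h)) e.comp_algebraMap)
  let e0 : VecGrp.pt k k' ⟶ (Over.map ψ).obj (𝟙_ (Over (Spec (CommRingCat.of k')))) :=
    Over.homMk (𝟙 _) (by
      show 𝟙 _ ≫ 𝟙 _ ≫ ψ = _
      rw [Category.id_comp, Category.id_comp]
      rfl)
  let g₀ : VecGrp.pt k k' ⟶ G := e0 ≫ fl ψ G g
  have hg₀ : eW.hom ≫ fl ψ G (toUnit W ≫ g) = VecGrp.ptMap e ≫ g₀ := by
    rw [fl_comp, ← Category.assoc, ← Category.assoc]
    refine congrArg (· ≫ fl ψ G g) (Over.OverMorphism.ext ?_)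
    show 𝟙 _ ≫ W.hom = Spec.map (CommRingCat.ofHom e.toRingHom) ≫ 𝟙 _
    rw [Category.id_comp]
    exact (Category.comp_id _).symm
  have hfw : ∀ τ : VecGrp.pt k K ⟶ T₁, ∃ τ₂ : VecGrp.pt k K ⟶ T₂,
      τ₂ ≫ i₂ = (VecGrp.ptMap e ≫ g₀) * (τ ≫ i₁) * (VecGrp.ptMap e ≫ g₀)⁻¹ := fun τ => by
    obtain ⟨y, hy⟩ := fl_surjective ψ T₁ (eW.inv ≫ τ)
    refine ⟨eW.hom ≫ fl ψ T₂ (y ≫ f.hom), ?_⟩
    have h2 : (y ≫ f.hom) ≫ (Over.pullback ψ).map i₂ =
        (toUnit W ≫ g) * (y ≫ (Over.pullback ψ).map i₁) * (toUnit W ≫ g)⁻¹ := by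
      rw [Category.assoc, hf, comp_conjBy]
    have h3 := congrArg (fun z => eW.hom ≫ fl ψ G z) h2
    simp only [fl_mul, DiagGL.fl_comp_map, MTRigid29.fl_inv ψ G] at h3
    simp only [MonObj.comp_mul, GrpObj.comp_inv, hy, hg₀, Category.assoc, Iso.hom_inv_id_assoc] at h3
    rw [Category.assoc]
    exact h3
  have hbw : ∀ τ₂ : VecGrp.pt k K ⟶ T₂, ∃ τ : VecGrp.pt k K ⟶ T₁,
      τ ≫ i₁ = (VecGrp.ptMap e ≫ g₀)⁻¹ * (τ₂ ≫ i₂) * (VecGrp.ptMap e ≫ g₀) := fun τ₂ => by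
    obtain ⟨y, hy⟩ := fl_surjective ψ T₂ (eW.inv ≫ τ₂)
    refine ⟨eW.hom ≫ fl ψ T₁ (y ≫ f.inv), ?_⟩
    have h2 : y ≫ (Over.pullback ψ).map i₂ =
        (toUnit W ≫ g) * ((y ≫ f.inv) ≫ (Over.pullback ψ).map i₁) * (toUnit W ≫ g)⁻¹ := by
      rw [← comp_conjBy, ← hf, Category.assoc, Iso.inv_hom_id_assoc]
    have h3 := congrArg (fun z => eW.hom ≫ fl ψ G z) h2
    simp only [fl_mul, DiagGL.fl_comp_map, MTRigid29.fl_inv ψ G] at h3
    simp only [MonObj.comp_mul, GrpObj.comp_inv, hy, hg₀, Category.assoc, Iso.hom_inv_id_assoc] at h3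
    rw [Category.assoc, h3]
    group
  obtain ⟨g₁, h₁', h₂'⟩ := exists_rat_conjugator C₁ C₂ hRK hTK e g₀ hfw hbw
  obtain ⟨u, hu⟩ := exists_gpt g₁
  have hpt : ∀ {H : Over (Spec (CommRingCat.of k))} (x : VecGrp.pt k K ⟶ H),
      toUnit _ ≫ u = VecGrp.ptMap (Algebra.ofId k K) ≫ g₁ := fun x => by
    rw [← hu, gpt, ← Category.assoc, comp_toUnit]
  obtain ⟨f', hf'⟩ := exists_lift_of_Kpts (K := K) i₂ (AGF.conjBy u i₁) fun x => by
    obtain ⟨τ₂, h⟩ := h₁' x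
    exact ⟨τ₂, by rw [comp_conjBy, hpt x, h]⟩
  obtain ⟨f'', hf''⟩ := exists_lift_of_Kpts (K := K) i₁ (AGF.conjBy u⁻¹ i₂) fun x => by
    obtain ⟨τ, h⟩ := h₂' x
    exact ⟨τ, by rw [comp_conjBy, GrpObj.comp_inv, hpt x, h, inv_inv]⟩
  refine ⟨u, ⟨f', f'', (cancel_mono i₁).1 ?_, (cancel_mono i₂).1 ?_⟩, hf'⟩
  · rw [Category.assoc, hf'', Category.id_comp, comp_conjBy, hf', GrpObj.comp_inv]
    simp only [AGF.conjBy]
    group
  · rw [Category.assoc, hf', Category.id_comp, comp_conjBy, hf'']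
    simp only [AGF.conjBy, GrpObj.comp_inv]
    group

end Groth.Agent.AttrBorel21
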