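import Groth.Agent.Lib.AttrBorel21.SplitGen
import Groth.Agent.Lib.TorPts21.Structure
import Groth.Agent.Lib.AttrBorel21.TorusConjMain
import Mathlib.LinearAlgebra.FreeModule.PID
import Mathlib.GroupTheory.Abelianization.Defs

/-!
# Semisimplicity of split reductive groups through the roots
-/

set_option autoImplicit false
set_option linter.style.haveILetI false
set_option backward.isDefEq.respectTransparency.types false
universe u

open CategoryTheory Limits MonoidalCategory CartesianMonoidalCategory MonObj AlgebraicGeometry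

noncomputable section

namespace Groth.Agent.AttrBorel21

open InvRing21 DiagGL TorPts21 BigCell21 BorelLam21

attribute [local instance] InvRing21.gamAlg BorelFix21.ptsTop

/-- A sublattice is killed by a functional or has a finite exponent. -/
theorem exists_functional_or_exponent {M : Type} [AddCommGroup M] [Module.Finite ℤ M] [Module.Free ℤ M]
    (N : Submodule ℤ M) :
    (∃ φ : M →ₗ[ℤ] ℤ, φ ≠ 0 ∧ ∀ m ∈ N, φ m = 0) ∨ ∃ D : ℕ, D ≠ 0 ∧ ∀ m, D • m ∈ N := by
  classical
  obtain ⟨n, S⟩ := N.smithNormalForm (Module.Free.chooseBasis ℤ M)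
  by_cases h : Function.Surjective S.f
  · refine Or.inr ⟨∏ i, (S.a i).natAbs, Finset.prod_ne_zero_iff.2 fun i _ => Int.natAbs_ne_zero.2 fun h0 => ?_,
      fun m => ?_⟩
    · have h1 := S.snf i
      rw [h0, zero_smul] at h1
      exact S.bN.ne_zero i (Subtype.ext h1)
    · rw [← S.bM.sum_repr m, Finset.smul_sum]
      refine N.sum_mem fun j _ => ?_
      obtain ⟨i, rfl⟩ := h j
      rw [← natCast_zsmul, smul_comm]
      refine N.smul_mem _ ?_
      obtain ⟨q, hq⟩ := (Finset.dvd_prod_of_mem (fun i => (S.a i).natAbs) (Finset.mem_univ i))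
      rw [hq, Nat.cast_mul, mul_comm, mul_smul]
      refine N.smul_mem _ ?_
      have h2 : S.a i • S.bM (S.f i) ∈ N := S.snf i ▸ (S.bN i).2
      rcases Int.natAbs_eq (S.a i) with e | e
      · rwa [← e]
      · rw [show ((S.a i).natAbs : ℤ) = -S.a i by omega, neg_smul]
        exact N.neg_mem h2
  · simp only [Function.Surjective, not_forall, not_exists] at h
    obtain ⟨j, hj⟩ := h
    refine Or.inl ⟨S.bM.coord j, fun h0 => ?_, fun m hm => ?_⟩
    · have := DFunLike.congr_fun h0 (S.bM j)
      simp at this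
    · exact S.repr_eq_zero_of_notMem_range ⟨m, hm⟩ (fun ⟨i, hi⟩ => hj i hi)

/-- Finite exponent means full rank. -/
theorem finrank_eq_iff_exponent {M : Type} [AddCommGroup M] [Module.Finite ℤ M] [Module.Free ℤ M]
    (N : Submodule ℤ M) :
    Module.finrank ℤ N = Module.finrank ℤ M ↔ ∃ D : ℕ, D ≠ 0 ∧ ∀ m, D • m ∈ N := by
  constructor
  · intro h
    refine (exists_functional_or_exponent N).resolve_left fun ⟨φ, hφ, hN⟩ => ?_
    obtain ⟨m, hm⟩ : ∃ m, φ m ≠ 0 := by
      by_contra! h0
      exact hφ (LinearMap.ext h0)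
    let f : (N × ℤ) →ₗ[ℤ] M := N.subtype.coprod (LinearMap.toSpanSingleton ℤ M m)
    have hf : Function.Injective f := by
      rw [← LinearMap.ker_eq_bot, LinearMap.ker_eq_bot']
      rintro ⟨x, c⟩ hxc
      have h1 : (x : M) + c • m = 0 := hxc
      have h2 := congrArg φ h1
      rw [map_add, hN _ x.2, zero_add, map_zsmul, map_zero, smul_eq_mul, mul_eq_zero] at h2
      obtain rfl := h2.resolve_right hm
      rw [zero_smul, add_zero] at h1
      exact Prod.ext (Subtype.ext h1) rfl
    have h3 := LinearMap.finrank_le_finrank_of_injective hf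
    rw [Module.finrank_prod, Module.finrank_self, h] at h3
    omega
  · rintro ⟨D, hD, hN⟩
    refine le_antisymm (Submodule.finrank_le N) ?_
    refine LinearMap.finrank_le_finrank_of_injective
      (f := ((D : ℤ) • LinearMap.id : M →ₗ[ℤ] M).codRestrict N fun m => by
        rw [LinearMap.smul_apply, LinearMap.id_apply, natCast_zsmul]; exact hN m) fun x y h => ?_
    exact smul_right_injective M (Int.natCast_ne_zero.2 hD) (congrArg Subtype.val h)

variable {k : Type u} [Field k] (K : Type u) [Field K] [IsAlgClosed K] [Algebra k K]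

theorem chi_one {T : Over (Spec (CommRingCat.of k))} [GrpObj T] {d : ℕ} (C : Chars (Fin d → ℤ) T)
    (m : Multiplicative (Fin d → ℤ)) : chi C (1 : VecGrp.pt k K ⟶ T) m = 1 := by
  show ptHom K (C.ch 1 m) = 1
  rw [C.one, map_one]

theorem chi_pow {T : Over (Spec (CommRingCat.of k))} [GrpObj T] {d : ℕ} (C : Chars (Fin d → ℤ) T)
    (x : VecGrp.pt k K ⟶ T) (D : ℕ) (m : Multiplicative (Fin d → ℤ)) : chi C (x ^ D) m = chi C x (m ^ D) := by
  induction D with
  | zero => rw [pow_zero, pow_zero, chi_one, map_one]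
  | succ D ih => rw [pow_succ, pow_succ, chi_mul, ih, map_mul]

variable {G : Over (Spec (CommRingCat.of k))} [GrpObj G] (D : Red.SplitRed G)

/-- The action of the torus on a root group at a point. -/
theorem conj_root_pt (τ : VecGrp.pt k K ⟶ D.T) (c : D.idx) (y : VecGrp.pt k K ⟶ Red.Ga (Spec (CommRingCat.of k))) :
    ∃ y', y' ≫ D.u c = (τ ≫ D.i) * (y ≫ D.u c) * (τ ≫ D.i)⁻¹ ∧
      ptHom K (Red.gaFn y') =
        chi (splitChars D) τ (Multiplicative.ofAdd ((Module.finBasis ℤ D.M).equivFun (D.P.root c))) * ptHom K (Red.gaFn y) := by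
  haveI := D.maximalTorus.1
  obtain ⟨y', h1, h2⟩ := (rootGroups D).conj c _ τ y
  exact ⟨y', h1, by rw [h2, map_mul]; rfl⟩

set_option maxHeartbeats 800000 in
/-- A central point of a split group kills the roots. -/
theorem exists_torus_of_central (hG : Red.IsReductiveOver K (bcK K G)) (hT : AGF.IsMaxTorus (bcMap K D.i))
    (g : VecGrp.pt k K ⟶ G) (hg : ∀ x, g * x = x * g) :
    ∃ τ, τ ≫ D.i = g ∧ ∀ c, chi (splitChars D) τ
      (Multiplicative.ofAdd ((Module.finBasis ℤ D.M).equivFun (D.P.root c))) = 1 := by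
  haveI := D.maximalTorus.1
  obtain ⟨hGa, hGs, -⟩ := props_of_isReductive D.reductive
  haveI := hGa
  haveI := hGs
  obtain ⟨τ, hτ⟩ := exists_lift_of_commute_pts hG hT g fun τ => hg _
  refine ⟨τ, hτ, fun c => ?_⟩
  haveI : IsClosedImmersion (D.u c).left := (rootGroups D).closed c
  haveI : Mono (D.u c) := Over.mono_of_mono_left (D.u c)
  let y : VecGrp.pt k K ⟶ Red.Ga (Spec (CommRingCat.of k)) :=
    VecGrp.ptMap (R := k) (Polynomial.aeval (1 : K) : Polynomial k →ₐ[k] K) ≫ gaX
  obtain ⟨y', h1, h2⟩ := conj_root_pt K D τ c y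
  rw [hτ, hg, mul_inv_cancel_right, cancel_mono] at h1
  rw [h1, show ptHom K (Red.gaFn y) = 1 from (ptHom_gaFn_gaX _).trans (Polynomial.aeval_X _), _root_.mul_one] at h2
  exact h2.symm

/-- The diagonal block of a matrix supplemented by the identity. -/
def blockAt {n : ℕ} (w : Fin n → ℤ) (e : ℤ) (M : Matrix (Fin n) (Fin n) K) : Matrix (Fin n) (Fin n) K :=
  Matrix.of fun i j => if w i = e ∧ w j = e then M i j else if i = j then 1 else 0

theorem blockAt_mul {n : ℕ} (w : Fin n → ℤ) (e : ℤ) {M N : Matrix (Fin n) (Fin n) K}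
    (hM : ∀ i j, w i ≠ w j → M i j = 0) : blockAt K w e (M * N) = blockAt K w e M * blockAt K w e N := by
  classical
  ext i j
  simp only [blockAt, Matrix.of_apply, Matrix.mul_apply]
  by_cases hi : w i = e
  · by_cases hj : w j = e
    · rw [if_pos ⟨hi, hj⟩]
      refine Finset.sum_congr rfl fun l _ => ?_
      by_cases hl : w l = e
      · rw [if_pos ⟨hi, hl⟩, if_pos ⟨hl, hj⟩]
      · rw [hM i l (by omega), if_neg (fun h => hl h.2), if_neg (fun h : i = l => hl (h ▸ hi))]
        simp
    · rw [if_neg fun h => hj h.2, if_neg fun h : i = j => hj (h ▸ hi)]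
      refine (Finset.sum_eq_zero fun l _ => ?_).symm
      by_cases hl : l = j
      · rw [hl, if_neg fun h => hj h.2, if_neg fun h : i = j => hj (h ▸ hi), zero_mul]
      · rw [if_neg (fun h : w l = e ∧ w j = e => hj h.2), if_neg hl, mul_zero]
  · rw [if_neg fun h => hi h.1]
    rw [Finset.sum_eq_single i]
    · simp [hi]
    · intro l _ hl
      rw [if_neg fun h => hi h.1, if_neg (Ne.symm hl), zero_mul]
    · simp

theorem blockAt_diagonal {n : ℕ} (w : Fin n → ℤ) (e : ℤ) (v : Fin n → K) :
    blockAt K w e (Matrix.diagonal v) = Matrix.diagonal fun i => if w i = e then v i else 1 := by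
  ext i j
  by_cases h : i = j
  · subst h; simp [blockAt]
  · simp [blockAt, h]

set_option maxHeartbeats 1600000 in
/-- In a semisimple split group no cocharacter kills all the roots. -/
theorem eq_zero_of_kills_roots (hss : Red.IsSemisimpleOver K (bcK K G))
    (z : Fin (Module.finrank ℤ D.M) → ℤ)
    (hz : ∀ c, pairing ((Module.finBasis ℤ D.M).equivFun (D.P.root c)) z = 0) : z = 0 := by
  classical
  obtain ⟨_, _, _, _, n, r, _, _, a, hdiag⟩ := exists_split_rep D
  haveI : IsAffine (bcK K G).left := BorelFix21.isAffine_bc _ G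
  haveI : Smooth (bcK K G).hom := BorelFix21.smooth_bc _ G
  haveI := hss.1.2.2.1
  have hlam : ∀ s : Kˣ, ∃ τ : VecGrp.pt k K ⟶ D.T,
      ∀ m, chi (splitChars D) τ (Multiplicative.ofAdd m) = ((s ^ pairing m z : Kˣ) : K) := fun s => by
    obtain ⟨x, hx⟩ := exists_chi (splitChars D) ((Units.coeHom K).comp (MonoidHom.mk'
      (fun m : Multiplicative (Fin (Module.finrank ℤ D.M) → ℤ) => s ^ pairing m.toAdd z) fun m m' => by
        simp only [pairing, toAdd_mul, Pi.add_apply, add_mul, Finset.sum_add_distrib, zpow_add]))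
    exact ⟨x, fun m => hx _⟩
  choose lam hlam using hlam
  have hpm : ∀ τ : VecGrp.pt k K ⟶ D.T,
      pmat r (τ ≫ D.i) = Matrix.diagonal fun j => chi (splitChars D) τ (Multiplicative.ofAdd (a j)) := fun τ => by
    rw [pmat, hdiag, Matrix.diagonal_map (map_zero _)]
    rfl
  let S : Subgroup (VecGrp.pt k K ⟶ G) := Subgroup.centralizer (Set.range fun s => lam s ≫ D.i)
  have hTS : ∀ τ : VecGrp.pt k K ⟶ D.T, τ ≫ D.i ∈ S := fun τ => Subgroup.mem_centralizer_iff.2 (by
    rintro _ ⟨s, rfl⟩
    show (lam s ≫ D.i) * (τ ≫ D.i) = (τ ≫ D.i) * (lam s ≫ D.i)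
    rw [← MonObj.mul_comp, ← MonObj.mul_comp]
    exact congrArg (· ≫ D.i) (commute_of_chars (splitChars D) (lam s) τ))
  have huS : ∀ c (y : VecGrp.pt k K ⟶ Red.Ga (Spec (CommRingCat.of k))), y ≫ D.u c ∈ S := fun c y =>
    Subgroup.mem_centralizer_iff.2 (by
      rintro _ ⟨s, rfl⟩
      obtain ⟨y', h1, h2⟩ := conj_root_pt K D (lam s) c y
      rw [hlam, hz, zpow_zero, Units.val_one, _root_.one_mul] at h2
      rw [GaPts.gaFn_injective (InvRing21.ptHom_injective K h2)] at h1
      exact (mul_inv_eq_iff_eq_mul.1 h1.symm))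
  have hStop : S = ⊤ := torus_roots_eq_top K D hss.1 S hTS huS
  have hblock : ∀ g : VecGrp.pt k K ⟶ G, ∀ i j, wt a z i ≠ wt a z j → pmat r g i j = 0 := by
    intro g i j hij
    have hg : ∀ s, (lam s ≫ D.i) * g = g * (lam s ≫ D.i) := fun s =>
      Subgroup.mem_centralizer_iff.1 (show g ∈ S from hStop ▸ Subgroup.mem_top g) _ ⟨s, rfl⟩
    by_contra h0
    refine hij (sub_eq_zero.1 (BorelLam21.eq_zero_of_zpow (k := K) fun s => Units.ext ?_))
    have h1 := congrFun (congrFun (congrArg (pmat r) (hg s)) i) j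
    rw [pmat_mul, pmat_mul, hpm, Matrix.diagonal_mul, Matrix.mul_diagonal, hlam, hlam,
      mul_comm (pmat r g i j)] at h1
    have h2 : s ^ pairing (a i) z = s ^ pairing (a j) z := Units.ext (mul_right_cancel₀ h0 h1)
    show ((s ^ (pairing (a i) z - pairing (a j) z) : Kˣ) : K) = _
    rw [zpow_sub, h2, mul_inv_cancel]
  have hw : ∀ i, wt a z i = 0 := by
    intro i₀
    set e := wt a z i₀ with he
    let F : (VecGrp.pt k K ⟶ G) →* K := MonoidHom.mk
      ⟨fun g => (blockAt K (wt a z) e (pmat r g)).det, by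
        show (blockAt K (wt a z) e (pmat r (1 : VecGrp.pt k K ⟶ G))).det = 1
        rw [pmat_one, ← Matrix.diagonal_one, blockAt_diagonal, Matrix.det_diagonal]
        simp⟩ fun g g' => by
        show (blockAt K (wt a z) e (pmat r (g * g'))).det = _
        rw [pmat_mul, blockAt_mul K _ _ (hblock g), Matrix.det_mul]
    have htop : commutator (VecGrp.pt k K ⟶ G) = ⊤ := by
      have h := commutator_eq_top hss
      have h1 := congrArg (Subgroup.map (toKEquiv K G).symm.toMonoidHom) h
      rw [commutator_def, Subgroup.map_commutator, Subgroup.map_top_of_surjective _ (toKEquiv K G).symm.surjective] at h1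
      rw [commutator_def]
      exact h1
    have hF : ∀ g, F g = 1 := fun g => by
      have h1 : g ∈ F.toHomUnits.ker := Abelianization.commutator_subset_ker _ (htop ▸ Subgroup.mem_top g)
      have h2 : F.toHomUnits g = 1 := h1
      exact (F.coe_toHomUnits g).symm.trans (by rw [h2, Units.val_one])
    let N := (Finset.univ.filter fun i => wt a z i = e).card
    have hN : 0 < N := Finset.card_pos.2 ⟨i₀, Finset.mem_filter.2 ⟨Finset.mem_univ _, rfl⟩⟩
    have h0 : e * N = 0 := BorelLam21.eq_zero_of_zpow (k := K) fun s => Units.ext (by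
      have h1 : (blockAt K (wt a z) e (pmat r (lam s ≫ D.i))).det = 1 := hF (lam s ≫ D.i)
      rw [hpm, blockAt_diagonal, Matrix.det_diagonal] at h1
      have h2 : ∀ i, (if wt a z i = e then chi (splitChars D) (lam s) (Multiplicative.ofAdd (a i)) else 1) =
          if wt a z i = e then ((s ^ e : Kˣ) : K) else 1 := fun i => by
        split_ifs with h
        · rw [hlam, ← h]; rfl
        · rfl
      rw [Finset.prod_congr rfl fun i _ => h2 i, Finset.prod_ite, Finset.prod_const, Finset.prod_const_one,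
        _root_.mul_one] at h1
      rw [zpow_mul, zpow_natCast, Units.val_one, Units.val_pow_eq_pow_val]
      exact h1)
    exact (mul_eq_zero.1 h0).resolve_right (by omega)
  haveI : Mono D.i := Over.mono_of_mono_left D.i
  have hone : ∀ s, lam s = 1 := fun s => (cancel_mono D.i).1 (pmat_injective r (by
    rw [MonObj.one_comp, pmat_one, hpm, ← Matrix.diagonal_one]
    congr 1
    funext j
    rw [hlam, show pairing (a j) z = 0 from hw j, zpow_zero, Units.val_one]))
  funext q
  refine BorelLam21.eq_zero_of_zpow (k := K) fun s => ?_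
  have h1 := hlam s (Pi.single q 1)
  rw [hone, chi_one, show pairing (Pi.single q (1 : ℤ)) z = z q by simp [pairing, Pi.single_apply]] at h1
  exact Units.ext h1.symm

set_option maxHeartbeats 800000 in
/-- The roots of a semisimple split group span a sublattice of finite index. -/
theorem exists_exponent (hss : Red.IsSemisimple G) :
    ∃ N : ℕ, N ≠ 0 ∧ ∀ m, N • m ∈ Submodule.span ℤ (Set.range D.P.root) := by
  refine (exists_functional_or_exponent _).resolve_left fun ⟨φ, hφ, hN⟩ => hφ ?_
  let s : ↥(Spec (CommRingCat.of k)) := IsLocalRing.closedPoint k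
  obtain ⟨ψ, hψ⟩ := Spec.map_surjective (Red.geomPt s)
  letI : Algebra k (AlgebraicClosure ((Spec (CommRingCat.of k)).residueField s)) := ψ.hom.toAlgebra
  have hss' : Red.IsSemisimpleOver (AlgebraicClosure ((Spec (CommRingCat.of k)).residueField s))
      (bcK (AlgebraicClosure ((Spec (CommRingCat.of k)).residueField s)) G) :=
    (show ∀ q, q = Red.geomPt s → Red.IsSemisimpleOver (AlgebraicClosure ((Spec (CommRingCat.of k)).residueField s))
      (Red.bc q G) from fun q h => by subst h; exact hss.2.2 s) _ hψ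
  let b := Module.finBasis ℤ D.M
  have hpair : ∀ m, pairing (b.equivFun m) (fun i => φ (b i)) = φ m := fun m => by
    conv_rhs => rw [← b.sum_equivFun m, map_sum]
    exact Finset.sum_congr rfl fun i _ => by rw [map_zsmul, smul_eq_mul]
  have h0 := eq_zero_of_kills_roots (AlgebraicClosure ((Spec (CommRingCat.of k)).residueField s)) D hss'
    (fun i => φ (b i)) fun c => (hpair _).trans (hN _ (Submodule.subset_span ⟨c, rfl⟩))
  exact b.ext fun i => congrFun h0 i

/-- A point killing the roots has bounded order when the roots span a sublattice of finite index. -/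
theorem pow_eq_one_of_kills_roots {N : ℕ} (hN : ∀ m, N • m ∈ Submodule.span ℤ (Set.range D.P.root))
    (τ : VecGrp.pt k K ⟶ D.T)
    (h : ∀ c, chi (splitChars D) τ (Multiplicative.ofAdd ((Module.finBasis ℤ D.M).equivFun (D.P.root c))) = 1) :
    τ ^ N = 1 := by
  classical
  set e := (Module.finBasis ℤ D.M).equivFun with he
  let φ := (chi (splitChars D) τ).toHomUnits
  have hspan : ∀ m ∈ Submodule.span ℤ (Set.range D.P.root), φ (Multiplicative.ofAdd (e m)) = 1 := by
    intro m hm
    induction hm using Submodule.span_induction with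
    | mem x hx => obtain ⟨c, rfl⟩ := hx; exact Units.ext (h c)
    | zero => rw [map_zero, ofAdd_zero, map_one]
    | add x y _ _ hx hy => rw [map_add, ofAdd_add, map_mul, hx, hy, _root_.one_mul]
    | smul z x _ hx => rw [map_zsmul, ofAdd_zsmul, map_zpow, hx, one_zpow]
  refine chi_ext (splitChars D) fun j => ?_
  rw [chi_pow, chi_one, ← ofAdd_nsmul]
  have h1 := congrArg Units.val (hspan _ (hN (e.symm (Pi.single j 1))))
  rw [map_nsmul, LinearEquiv.apply_symm_apply] at h1
  exact h1

/-- Every geometric point of a torus has roots of every order. -/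
theorem exists_root_pt {T : Over (Spec (CommRingCat.of k))} [GrpObj T] {d : ℕ} (C : Chars (Fin d → ℤ) T)
    (x : VecGrp.pt k K ⟶ T) {N : ℕ} (hN : N ≠ 0) : ∃ y, y ^ N = x := by
  choose r hr using fun j => IsAlgClosed.exists_pow_nat_eq (chi C x (Multiplicative.ofAdd (Pi.single j 1)))
    (Nat.pos_of_ne_zero hN)
  have hne : ∀ j, r j ≠ 0 := fun j e => by
    have h := hr j
    rw [e, zero_pow hN] at h
    exact ((Group.isUnit (Multiplicative.ofAdd (Pi.single j (1 : ℤ) : Fin d → ℤ))).map (chi C x)).ne_zero h.symm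
  obtain ⟨y, hy⟩ := exists_chi C ((Units.coeHom K).comp (MonoidHom.mk'
    (fun m : Multiplicative (Fin d → ℤ) => ∏ j, Units.mk0 (r j) (hne j) ^ m.toAdd j) fun m m' => by
      simp only [toAdd_mul, Pi.add_apply, zpow_add, Finset.prod_mul_distrib]))
  refine ⟨y, chi_ext C fun j => ?_⟩
  rw [chi_pow, map_pow, hy, ← hr j]
  refine congrArg (· ^ N) ?_
  show ((∏ i, Units.mk0 (r i) (hne i) ^ (Pi.single j (1 : ℤ) : Fin d → ℤ) i : Kˣ) : K) = r j
  rw [Finset.prod_eq_single j (fun i _ hij => by rw [Pi.single_eq_of_ne hij, zpow_zero]) (by simp),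
    Pi.single_eq_same, zpow_one, Units.val_mk0]

omit [IsAlgClosed K] in
theorem semisimpleOver_bcK (hss : Red.IsSemisimple G) (s : ↥(Spec (CommRingCat.of k))) :
    ∃ (_ : Algebra k (AlgebraicClosure ((Spec (CommRingCat.of k)).residueField s))),
      Red.IsSemisimpleOver (AlgebraicClosure ((Spec (CommRingCat.of k)).residueField s))
        (bcK (AlgebraicClosure ((Spec (CommRingCat.of k)).residueField s)) G) := by
  obtain ⟨alg, -, hgeq⟩ := FinBorel21.exists_geomAlg s
  refine ⟨alg, ?_⟩
  letI := alg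
  exact (show ∀ q, q = Red.geomPt s → Red.IsSemisimpleOver (AlgebraicClosure ((Spec (CommRingCat.of k)).residueField s))
    (Red.bc q G) from fun q h => by subst h; exact hss.2.2 s) _ hgeq.symm

/-- The root groups generate a semisimple group. -/
theorem isIso_of_roots (hss : Red.IsSemisimple G) {H : Over (Spec (CommRingCat.of k))} [GrpObj H] (iH : H ⟶ G)
    [IsMonHom iH] [IsClosedImmersion iH.left] (hu : ∀ c, ∃ f, f ≫ iH = D.u c) : IsIso iH := by
  obtain ⟨alg, hK⟩ := semisimpleOver_bcK hss (IsLocalRing.closedPoint k)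
  letI := alg
  obtain ⟨hGa, hGs, -⟩ := props_of_isReductive D.reductive
  haveI := hGa
  haveI := hGs
  haveI : Mono iH := Over.mono_of_mono_left iH
  let ι₀ : (VecGrp.pt k (AlgebraicClosure ((Spec (CommRingCat.of k)).residueField (IsLocalRing.closedPoint k))) ⟶ H) →*
      (VecGrp.pt k (AlgebraicClosure ((Spec (CommRingCat.of k)).residueField (IsLocalRing.closedPoint k))) ⟶ G) :=
    MonoidHom.mk' (fun y => y ≫ iH) fun x y => MonObj.mul_comp x y iH
  have htop := roots_eq_top _ D hK ι₀.range fun c y => by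
    obtain ⟨f, hf⟩ := hu c
    exact ⟨y ≫ f, by show (y ≫ f) ≫ iH = _; rw [Category.assoc, hf]⟩
  obtain ⟨f, hf⟩ := exists_lift_of_Kpts iH (𝟙 G) fun x => by
    obtain ⟨y, hy⟩ : x ∈ ι₀.range := htop ▸ Subgroup.mem_top x
    exact ⟨y, hy.trans (Category.comp_id x).symm⟩
  exact ⟨f, (cancel_mono iH).1 (by rw [Category.assoc, hf, Category.comp_id, Category.id_comp]), hf⟩

set_option maxHeartbeats 1600000 in
/-- A split reductive group whose roots span a sublattice of finite index is semisimple over a field. -/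
theorem semisimpleOver_of_exponent [IsMonHom D.i] [IsAffine G.left] [Smooth G.hom] {N : ℕ} (hN0 : N ≠ 0)
    (hN : ∀ m, N • m ∈ Submodule.span ℤ (Set.range D.P.root)) (hRK : Red.IsReductiveOver K (bcK K G))
    (hTK : AGF.IsMaxTorus (bcMap K D.i)) : Red.IsSemisimpleOver K (bcK K G) := by
  haveI := D.maximalTorus.2.1
  refine ⟨hRK, fun (T : Over (Spec (CommRingCat.of K)))
    _ (i : T ⟶ bcK _ G) _ hci hn hT => ?_⟩
  haveI := hci
  haveI : IsAffine (bcK K G).left :=
    BorelFix21.isAffine_bc _ G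
  haveI : Smooth (bcK K G).hom :=
    BorelFix21.smooth_bc _ G
  haveI := hRK.2.2.1
  obtain ⟨hTa, hTs, hTn, hTsol⟩ := props_of_isTorus hT
  haveI := hTa
  haveI := hTs
  haveI := hTn
  obtain ⟨-, hcentral⟩ := torus_of_normal_solvable (i := i) hRK hn hTsol
  obtain ⟨d, ⟨C⟩⟩ := exists_chars hT
  haveI : Mono i := Over.mono_of_mono_left i
  have hord : ∀ x : VecGrp.pt K
      K ⟶ T, x ^ N = 1 := fun x => by
    obtain ⟨g, hg⟩ := exists_toK (x ≫ i)
    obtain ⟨τ, hτ, hker⟩ := exists_torus_of_central _ D hRK hTK g fun y => toK_injective (by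
      rw [toK_mul, toK_mul, hg]
      exact (hcentral _ (toK y) x).symm)
    have h1 := pow_eq_one_of_kills_roots _ D hN τ hker
    let ιT : _ →* _ := MonoidHom.mk' (fun y : VecGrp.pt K
      K ⟶ T => y ≫ i) fun y z => MonObj.mul_comp y z i
    let ιD : _ →* _ := MonoidHom.mk' (fun y : VecGrp.pt k K
      ⟶ D.T => toKEquiv _ G (y ≫ D.i)) fun y z => by rw [MonObj.mul_comp, map_mul]
    refine (cancel_mono i).1 ?_
    show ιT (x ^ N) = _
    rw [map_pow, MonObj.one_comp]
    show (x ≫ i) ^ N = 1
    rw [← hg, ← hτ]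
    show ιD τ ^ N = 1
    rw [← map_pow, h1, map_one]
  refine isTrivialGrp_of_pts fun x => chi_ext C fun q => ?_
  exfalso
  obtain ⟨s', hs'⟩ : ∃ s' : Kˣ, s' ^ (N : ℤ) ≠ 1 := by
    by_contra! h
    exact hN0 (by exact_mod_cast BorelLam21.eq_zero_of_zpow h)
  obtain ⟨y, hy⟩ := exists_chi C ((Units.coeHom _).comp (MonoidHom.mk'
    (fun m : Multiplicative (Fin d → ℤ) => s' ^ m.toAdd q) fun m m' => by simp only [toAdd_mul, Pi.add_apply, zpow_add]))
  have h1 := chi_pow _ C y N (Multiplicative.ofAdd (Pi.single q 1))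
  rw [hord y, chi_one, ← ofAdd_nsmul, hy] at h1
  exact hs' (Units.ext (Eq.trans (by simp) h1.symm))

set_option maxHeartbeats 1600000 in
/-- A split reductive group whose roots span a sublattice of finite index is semisimple. -/
theorem isSemisimple_of_exponent {N : ℕ} (hN0 : N ≠ 0)
    (hN : ∀ m, N • m ∈ Submodule.span ℤ (Set.range D.P.root)) : Red.IsSemisimple G := by
  haveI := D.maximalTorus.1
  haveI := D.maximalTorus.2.1
  obtain ⟨hGa, hGs, -⟩ := props_of_isReductive D.reductive
  haveI := hGa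
  haveI := hGs
  refine ⟨D.reductive.1, D.reductive.2.1, fun s => ?_⟩
  obtain ⟨alg, -, hgeq⟩ := FinBorel21.exists_geomAlg s
  letI := alg
  refine (show ∀ q, q = Red.geomPt s → Red.IsSemisimpleOver (AlgebraicClosure ((Spec (CommRingCat.of k)).residueField s))
    (Red.bc q G) → Red.IsSemisimpleOver _ (Red.geomFibre s G) from fun q h => by subst h; exact id) _ hgeq.symm ?_
  obtain ⟨hRK, hTK⟩ : Red.IsReductiveOver (AlgebraicClosure ((Spec (CommRingCat.of k)).residueField s))
      (bcK _ G) ∧ AGF.IsMaxTorus (bcMap (AlgebraicClosure ((Spec (CommRingCat.of k)).residueField s)) D.i) :=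
    (show ∀ q, q = Red.geomPt s → Red.IsReductiveOver (AlgebraicClosure ((Spec (CommRingCat.of k)).residueField s))
      (Red.bc q G) ∧ AGF.IsMaxTorus ((Over.pullback q).map D.i) from fun q h => by
        subst h; exact ⟨D.reductive.2.2 s, isMaxTorus_geomFibre D.maximalTorus s⟩) _ hgeq.symm
  exact semisimpleOver_of_exponent _ D hN0 hN hRK hTK

/-- A factorisation of a homomorphism through a monomorphic homomorphism is a homomorphism. -/
theorem isMonHom_of_comp_mono' {X Y Z : Over (Spec (CommRingCat.of k))} [GrpObj X] [GrpObj Y] [GrpObj Z]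
    (t : X ⟶ Y) (j : Y ⟶ Z) [IsMonHom j] [Mono j] [IsMonHom (t ≫ j)] : IsMonHom t :=
  ⟨(cancel_mono j).1 (by rw [Category.assoc, IsMonHom.one_hom, IsMonHom.one_hom]),
    (cancel_mono j).1 (by
      rw [Category.assoc, IsMonHom.mul_hom, Category.assoc, IsMonHom.mul_hom, MonoidalCategory.tensorHom_comp_tensorHom_assoc])⟩

set_option maxHeartbeats 800000 in
/-- Homomorphisms into the torus of a semisimple group agreeing on the roots are equal. -/
theorem eq_of_roots {G' : Over (Spec (CommRingCat.of k))} [GrpObj G'] (D' : Red.SplitRed G') {N : ℕ} (hN0 : N ≠ 0)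
    (hN : ∀ m, N • m ∈ Submodule.span ℤ (Set.range D'.P.root)) (t₁ t₂ : D.T ⟶ D'.T) [IsMonHom t₁] [IsMonHom t₂]
    (h : ∀ c, t₁ ≫ D'.split.hom.hom.hom ≫ Red.chi (Spec (CommRingCat.of k)) (D'.P.root c) =
      t₂ ≫ D'.split.hom.hom.hom ≫ Red.chi (Spec (CommRingCat.of k)) (D'.P.root c)) : t₁ = t₂ := by
  haveI : IsAffine D.T.left := TorPts21.isAffine_of_chars (splitChars D)
  haveI : Smooth D.T.hom := TorPts21.smooth_of_chars (splitChars D)
  haveI : IsAffine D'.T.left := TorPts21.isAffine_of_chars (splitChars D')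
  let L := AlgebraicClosure k
  have key : ∀ x : VecGrp.pt k L ⟶ D.T, x ≫ t₁ = x ≫ t₂ := fun x => by
    obtain ⟨y, rfl⟩ := exists_root_pt L (splitChars D) x hN0
    let f₁ : (VecGrp.pt k L ⟶ D.T) →* (VecGrp.pt k L ⟶ D'.T) := MonoidHom.mk' (· ≫ t₁) fun a b => MonObj.mul_comp a b t₁
    let f₂ : (VecGrp.pt k L ⟶ D.T) →* (VecGrp.pt k L ⟶ D'.T) := MonoidHom.mk' (· ≫ t₂) fun a b => MonObj.mul_comp a b t₂
    show f₁ (y ^ N) = f₂ (y ^ N)
    have h1 : (f₁ y * (f₂ y)⁻¹) ^ N = 1 := pow_eq_one_of_kills_roots L D' hN _ fun c => by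
      have h0 : chi (splitChars D') (f₁ y)
          (Multiplicative.ofAdd ((Module.finBasis ℤ D'.M).equivFun (D'.P.root c))) = chi (splitChars D') (f₂ y)
          (Multiplicative.ofAdd ((Module.finBasis ℤ D'.M).equivFun (D'.P.root c))) := by
        show ptHom L ((splitChars D').ch _ _) = ptHom L ((splitChars D').ch _ _)
        rw [splitChars_root, splitChars_root]
        exact congrArg (fun z => ptHom L (Red.gmFn z)) ((Category.assoc y t₁ _).trans ((congrArg (y ≫ ·) (h c)).trans
          (Category.assoc y t₂ _).symm))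
      rw [chi_mul, h0, ← chi_mul, mul_inv_cancel, chi_one]
    have hc : ∀ a b : VecGrp.pt k L ⟶ D'.T, Commute a b := fun a b => commute_of_chars (splitChars D') a b
    rw [map_pow, map_pow]
    rw [(hc _ _).mul_pow, inv_pow, mul_inv_eq_one] at h1
    exact h1
  haveI : IsClosedImmersion (𝟙 D'.T : D'.T ⟶ D'.T).left := inferInstanceAs (IsClosedImmersion (𝟙 D'.T.left))
  refine Over.OverMorphism.ext (ext_of_isAffine (ConcreteCategory.hom_ext _ _ fun a => ?_))
  refine ext_val_K (K := L) fun x => ?_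
  rw [InvRing21.appTop_val, InvRing21.appTop_val, key]

end Groth.Agent.AttrBorel21
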