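import Groth.Agent.Lib.AttrBorel21.Weight
import Groth.Agent.Lib.AttrBorel21.Count

/-!
# The unipotent subgroup of a Borel subgroup is an affine space on the positive roots
-/

set_option autoImplicit false
set_option linter.style.haveILetI false
set_option backward.isDefEq.respectTransparency.types false
universe u

open CategoryTheory Limits MonoidalCategory CartesianMonoidalCategory MonObj AlgebraicGeometry
open scoped LaurentPolynomial Polynomial

noncomputable section

namespace Groth.Agent.AttrBorel21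

open InvRing21 DiagGL TorPts21 BigCell21

attribute [local instance] InvRing21.gamAlg

variable {k : Type u} [Field k] {n d : ℕ} {G T : Over (Spec (CommRingCat.of k))} [GrpObj G] [GrpObj T]
  [IsAffine G.left] {r : G ⟶ GLs k n} [IsMonHom r] [IsClosedImmersion r.left] {C : Chars (Fin d → ℤ) T}
  {iT : T ⟶ G} [IsMonHom iT] {a : Fin n → Fin d → ℤ}
  (hdiag : ∀ (X : Over (Spec (CommRingCat.of k))) (x : X ⟶ T),
    mat ((x ≫ iT) ≫ r) = Matrix.diagonal fun j => C.ch x (Multiplicative.ofAdd (a j)))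

theorem pairing_neg (g b : Fin d → ℤ) : pairing g (-b) = -pairing g b := by
  simp [pairing, Finset.sum_neg_distrib]

theorem neg_pairing (g b : Fin d → ℤ) : pairing (-g) b = -pairing g b := by
  simp [pairing, Finset.sum_neg_distrib]

omit [GrpObj G] [IsAffine G.left] [IsMonHom r] [IsClosedImmersion r.left] [IsMonHom iT] in
include hdiag in
theorem unp_torus_conj (b : Fin d → ℤ) {X : Over (Spec (CommRingCat.of k))} (t : X ⟶ T)
    {M M' : Matrix (Fin n) (Fin n) Γ(X.left, ⊤)} (hM : Unp (wt a b) M)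
    (h : mat ((t ≫ iT) ≫ r) * M' = 1) : Unp (wt a b) (mat ((t ≫ iT) ≫ r) * M * M') := by
  set D := mat ((t ≫ iT) ≫ r) with hD
  have hDb : Blk (wt a b) D := by rw [hD, hdiag]; exact blk_diagonal _ _
  have h' : M' * D = 1 := mul_eq_one_comm.1 h
  obtain ⟨hb, hd⟩ := blk_left_inv hDb h'
  have hDM : Blk (wt a b) (D * M) := (blk_iff _ _).2 (((blk_iff _ _).1 hDb).mul ((blk_iff _ _).1 hM.1))
  refine ⟨(blk_iff _ _).2 (((blk_iff _ _).1 hDM).mul ((blk_iff _ _).1 hb)), ?_⟩
  rw [blkDiag_mul hDM hb, blkDiag_mul hDb hM.1, hM.2, _root_.mul_one, mul_eq_one_comm.1 hd]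

omit [IsAffine G.left] [IsClosedImmersion r.left] [IsMonHom iT] in
include hdiag in
/-- A unipotent contracted subgroup is stable under the torus. -/
theorem tStab_unip (b : Fin d → ℤ) {U : Over (Spec (CommRingCat.of k))} (iU : U ⟶ G)
    (hU : ∀ (X : Over (Spec (CommRingCat.of k))) (x : X ⟶ G), (∃ y, y ≫ iU = x) ↔ Unp (wt a b) (mat (x ≫ r))) :
    TStab iT iU := fun X t h => by
  rw [hU, MonObj.mul_comp, MonObj.mul_comp, mat_mul, mat_mul]
  refine unp_torus_conj hdiag b t ((hU _ _).1 ⟨h, rfl⟩) ?_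
  rw [← mat_mul, ← MonObj.mul_comp, mul_inv_cancel, MonObj.one_comp, mat_one]

omit [IsAffine G.left] [IsClosedImmersion r.left] in
include hdiag in
/-- A root group with positive pairing is unitriangular. -/
theorem unp_root {u : Red.Ga (Spec (CommRingCat.of k)) ⟶ G} [IsMonHom u] (α : Fin d → ℤ)
    (hu : ∀ (X : Over (Spec (CommRingCat.of k))) (t : X ⟶ T) (x : X ⟶ Red.Ga (Spec (CommRingCat.of k))),
      ∃ y, y ≫ u = (t ≫ iT) * (x ≫ u) * (t ≫ iT)⁻¹ ∧
        Red.gaFn y = C.ch t (Multiplicative.ofAdd α) * Red.gaFn x) (b : Fin d → ℤ) (hb : 0 < pairing α b) :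
    Unp (wt a b) (mat (u ≫ r)) := by
  refine ⟨blk_of_nonneg hdiag α hu b hb.le, ?_⟩
  have h0 : VecGrp.ptMap (R := k) (Polynomial.aeval (0 : k) : k[X] →ₐ[k] k) ≫ gaX ≫ u = 1 := by
    rw [← Category.assoc, show VecGrp.ptMap (R := k) (Polynomial.aeval (0 : k) : k[X] →ₐ[k] k) ≫ gaX = 1 from
      GaPts.gaFn_injective (InvRing21.ptHom_injective k (by
        rw [ptHom_gaFn_gaX, Polynomial.aeval_X]
        show _ = ptHom k (Red.gaFn 1)
        rw [GaPts.gaFn_one, map_zero]))]
    exact MonObj.one_comp u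
  obtain ⟨z, hz⟩ := exists_gaX_section (k := k)
  have hX : blkDiag (wt a b) (pmat r (gaX ≫ u)) = 1 := by
    refine Matrix.ext fun i j => ?_
    rw [blkDiag, Matrix.of_apply]
    split_ifs with hij
    · refine Polynomial.ext fun l => ?_
      by_cases hl : (pmat r (gaX ≫ u) i j).coeff l = 0
      · rw [hl]
        rcases Nat.eq_zero_or_pos l with rfl | hl'
        · have h1 := congrFun (congrFun (congrArg (pmat r) h0) i) j
          rw [pmat_comp_ptMap, pmat_one, Matrix.map_apply] at h1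
          have h2 : (pmat r (gaX ≫ u) i j).coeff 0 = (1 : Matrix (Fin n) (Fin n) k) i j := by
            rw [Polynomial.coeff_zero_eq_eval_zero, ← Polynomial.coe_aeval_eq_eval]; exact h1
          rw [← hl, h2]
          by_cases e : i = j
          · subst e; simp
          · simp [Matrix.one_apply_ne e]
        · by_cases e : i = j
          · subst e
            rw [Matrix.one_apply_eq, Polynomial.coeff_one, if_neg hl'.ne']
          · rw [Matrix.one_apply_ne e, Polynomial.coeff_zero]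
      · have h1 := smul_eq_of_coeff_ne_zero hdiag α hu i j l hl
        have h2 : (l : ℤ) * pairing α b = 0 := by
          rw [← sub_eq_zero.2 hij, ← wt_sub' a b, ← h1]
          simp [pairing, Finset.mul_sum, _root_.mul_assoc]
        rcases mul_eq_zero.1 h2 with h3 | h3
        · obtain rfl : l = 0 := by exact_mod_cast h3
          have h1 := congrFun (congrFun (congrArg (pmat r) h0) i) j
          rw [pmat_comp_ptMap, pmat_one, Matrix.map_apply] at h1
          rw [Polynomial.coeff_zero_eq_eval_zero, ← Polynomial.coe_aeval_eq_eval]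
          refine h1.trans ?_
          by_cases e : i = j
          · subst e; simp
          · simp [Matrix.one_apply_ne e]
        · exact absurd h3 hb.ne'
    · exact (Matrix.one_apply_ne fun e => hij (congrArg (wt a b) e)).symm
  rw [← Category.id_comp u, ← hz, Category.assoc, Category.assoc, ← Category.assoc gaX, mat_comp]
  have hm : mat ((gaX ≫ u) ≫ r) = (pmat r (gaX ≫ u)).map
      (Scheme.ΓSpecIso (CommRingCat.of k[X])).inv.hom := by
    ext i j
    exact (ConcreteCategory.congr_hom (Scheme.ΓSpecIso (CommRingCat.of k[X])).hom_inv_id _).symm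
  rw [hm, blkDiag_map, blkDiag_map, hX]
  simp [Matrix.map_one]
where
  wt_sub' (a : Fin n → Fin d → ℤ) (b : Fin d → ℤ) {i j : Fin n} :
      pairing (a i - a j) b = wt a b i - wt a b j := by
    simp [wt, pairing, sub_mul, Finset.sum_sub_distrib]

/-- The data of roots of a split torus. -/
structure RootGroups (G : Over (Spec (CommRingCat.of k))) [GrpObj G] (iT : T ⟶ G) (C : Chars (Fin d → ℤ) T)
    (J : Type) where
  /-- the roots -/
  e : J → Fin d → ℤ
  /-- the root groups -/
  u : J → (Red.Ga (Spec (CommRingCat.of k)) ⟶ G)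
  inj : Function.Injective e
  ne_zero : ∀ c, e c ≠ 0
  neg : ∀ c, ∃ c', e c' = -e c
  isMonHom : ∀ c, IsMonHom (u c)
  closed : ∀ c, IsClosedImmersion (u c).left
  conj : ∀ (c : J) (X : Over (Spec (CommRingCat.of k))) (t : X ⟶ T) (x : X ⟶ Red.Ga (Spec (CommRingCat.of k))),
    ∃ y, y ≫ u c = (t ≫ iT) * (x ≫ u c) * (t ≫ iT)⁻¹ ∧
      Red.gaFn y = C.ch t (Multiplicative.ofAdd (e c)) * Red.gaFn x

variable {J : Type} [Fintype J] (R : RootGroups G iT C J)

omit [IsAffine G.left] [IsClosedImmersion r.left] [Fintype J] in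
include hdiag in
theorem pairing_root_ne_zero (b : Fin d → ℤ)
    (hmeet : ∀ (X : Over (Spec (CommRingCat.of k))) (x : X ⟶ G), Blk (wt a b) (mat (x ≫ r)) →
      Blk (wt a (-b)) (mat (x ≫ r)) → ∃ τ : X ⟶ T, τ ≫ iT = x) (c : J) : pairing (R.e c) b ≠ 0 := fun h => by
  obtain ⟨τ, hτ⟩ := hmeet _ _ (blk_of_nonneg hdiag _ (R.conj c) b h.ge)
    (blk_of_nonneg hdiag _ (R.conj c) (-b) (by rw [pairing_neg, h, neg_zero]))
  haveI := R.closed c
  haveI : Mono (R.u c) := Over.mono_of_mono_left _
  exact R.ne_zero c (eq_zero_of_factors (C := C) _ (R.conj c) hτ)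

/-- Positive roots. -/
abbrev Pos (b : Fin d → ℤ) : Type := {c : J // 0 < pairing (R.e c) b}

/-- Coordinates on the unipotent subgroup indexed by the positive roots. -/
structure UnipData (r : G ⟶ GLs k n) (a : Fin n → Fin d → ℤ) (b : Fin d → ℤ) (R : RootGroups G iT C J) where
  /-- the subgroup -/
  U : Over (Spec (CommRingCat.of k))
  [grpU : GrpObj U]
  /-- its inclusion -/
  iU : U ⟶ G
  isMonHom : IsMonHom iU
  closed : IsClosedImmersion iU.left
  smooth : Smooth U.hom
  fac : ∀ (X : Over (Spec (CommRingCat.of k))) (x : X ⟶ G), (∃ y, y ≫ iU = x) ↔ Unp (wt a b) (mat (x ≫ r))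
  /-- the entry of a root -/
  p : Pos R b → Fin n × Fin n
  weight : ∀ c, a (p c).1 - a (p c).2 = R.e c.1
  linear : ∀ c, (pmat r (gaX ≫ R.u c.1) (p c).1 (p c).2).coeff 1 ≠ 0
  bij : Function.Bijective (MvPolynomial.aeval fun c => ent r iU (p c) :
    MvPolynomial (Pos R b) k →ₐ[k] Γ(U.left, ⊤))

omit [Fintype J] in
include hdiag in
theorem exists_root_inj [IsSeparated G.hom] (b : Fin d → ℤ) {U : Over (Spec (CommRingCat.of k))} {iU : U ⟶ G}
    [IsClosedImmersion iU.left]
    (hU : ∀ (X : Over (Spec (CommRingCat.of k))) (x : X ⟶ G), (∃ y, y ≫ iU = x) ↔ Unp (wt a b) (mat (x ≫ r)))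
    {κ : Type} (p : κ → Fin n × Fin n) (hp : ∀ t, wt a b (p t).2 < wt a b (p t).1)
    (hsurj : Function.Surjective (MvPolynomial.aeval fun t => ent r iU (p t) : MvPolynomial κ k →ₐ[k] Γ(U.left, ⊤))) :
    ∃ f : Pos R b → κ, Function.Injective f ∧ ∀ c, a (p (f c)).1 - a (p (f c)).2 = R.e c.1 ∧
      (pmat r (gaX ≫ R.u c.1) (p (f c)).1 (p (f c)).2).coeff 1 ≠ 0 := by
  haveI : IsAffine U.left := isAffine_of_isAffineHom iU.left
  haveI : IsSeparated U.hom := by rw [← Over.w iU]; infer_instance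
  have h : ∀ c : Pos R b, ∃ t, a (p t).1 - a (p t).2 = R.e c.1 ∧
      (pmat r (gaX ≫ R.u c.1) (p t).1 (p t).2).coeff 1 ≠ 0 := fun c => by
    haveI := R.isMonHom c.1
    haveI := R.closed c.1
    obtain ⟨v, hv⟩ := (hU _ _).2 (unp_root hdiag _ (R.conj c.1) b c.2)
    exact exists_coord_of_root hdiag _ (R.conj c.1) iU v hv p
      (fun t e => (hp t).ne' (congrArg (fun g => pairing g b) e)) hsurj
  choose f hf using h
  exact ⟨f, fun c c' hcc => Subtype.ext (R.inj ((hf c).1.symm.trans ((congrArg (fun t => a (p t).1 - a (p t).2) hcc).trans (hf c').1))), hf⟩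

include hdiag in
set_option maxHeartbeats 800000 in
/-- **The structure of the unipotent subgroups.** -/
theorem exists_unipData [Smooth G.hom] [Mono iT] (b : Fin d → ℤ)
    (hmeet : ∀ (X : Over (Spec (CommRingCat.of k))) (x : X ⟶ G), Blk (wt a b) (mat (x ≫ r)) →
      Blk (wt a (-b)) (mat (x ≫ r)) → ∃ τ : X ⟶ T, τ ≫ iT = x)
    (hdim : topologicalKrullDim G.left = ((d + Fintype.card J : ℕ) : WithBot ℕ∞)) :
    Nonempty (UnipData r a b R) := by
  classical
  obtain ⟨P, _, iP, hPm, hPc, hPs, hPa, hP⟩ := exists_unip hdiag b (G := G) (r := r)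
  obtain ⟨M, _, iM, hMm, hMc, hMs, hMa, hM⟩ := exists_unip hdiag (-b) (G := G) (r := r)
  haveI := hPc
  haveI := hMc
  haveI := hPs
  haveI := hMs
  haveI := hPm
  haveI := hMm
  have hP' : Unp (wt a b) (mat (iP ≫ r)) := (hP _ _).1 ⟨𝟙 _, Category.id_comp _⟩
  have hM' : Unp (wt a (-b)) (mat (iM ≫ r)) := (hM _ _).1 ⟨𝟙 _, Category.id_comp _⟩
  obtain ⟨κp, _, pp, -, hpp, hbp⟩ := exists_entry_coords hdiag b iP 1 (MonObj.one_comp iP) hP'
    (tStab_unip hdiag b iP hP)
  obtain ⟨κm, _, pm, -, hpm, hbm⟩ := exists_entry_coords hdiag (-b) iM 1 (MonObj.one_comp iM) hM'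
    (tStab_unip hdiag (-b) iM hM)
  obtain ⟨fp, hfpi, hfp⟩ := exists_root_inj hdiag R b hP pp hpp hbp.2
  obtain ⟨fm, hfmi, -⟩ := exists_root_inj hdiag R (-b) hM pm hpm hbm.2
  have hsplit : Fintype.card J = Fintype.card (Pos R b) + Fintype.card (Pos R (-b)) := by
    rw [Fintype.card_subtype, Fintype.card_subtype, ← Finset.card_union_of_disjoint
      (Finset.disjoint_filter.2 fun c _ h h' => by rw [pairing_neg] at h'; omega), ← Finset.card_univ]
    congr 1
    refine (Finset.eq_univ_of_forall fun c => ?_).symm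
    have := pairing_root_ne_zero hdiag R b hmeet c
    simp only [Finset.mem_union, Finset.mem_filter, Finset.mem_univ, true_and, pairing_neg]
    omega
  have h1 := card_add_le_dim hdiag hmeet hM' hP' pm pp hbm hbp
  rw [hdim] at h1
  have h2 : Fintype.card κm + Fintype.card κp + d ≤ d + Fintype.card J := by exact_mod_cast h1
  have h3 := Fintype.card_le_of_injective fp hfpi
  have h4 := Fintype.card_le_of_injective fm hfmi
  have hbij : Function.Bijective fp := (Fintype.bijective_iff_injective_and_card fp).2 ⟨hfpi, by omega⟩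
  refine ⟨{ U := P, iU := iP, isMonHom := hPm, closed := hPc, smooth := hPs, fac := hP,
            p := fun c => pp (fp c), weight := fun c => (hfp c).1, linear := fun c => (hfp c).2, bij := ?_ }⟩
  have he : (MvPolynomial.aeval fun c => ent r iP (pp (fp c)) : MvPolynomial (Pos R b) k →ₐ[k] Γ(P.left, ⊤)) =
      (MvPolynomial.aeval fun t => ent r iP (pp t) : MvPolynomial κp k →ₐ[k] Γ(P.left, ⊤)).comp
        (MvPolynomial.renameEquiv k (Equiv.ofBijective fp hbij)).toAlgHom :=
    MvPolynomial.algHom_ext fun c => by simp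
  rw [he]
  exact hbp.comp (MvPolynomial.renameEquiv k (Equiv.ofBijective fp hbij)).bijective

end Groth.Agent.AttrBorel21
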