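import Groth.Agent.Lib.AttrBorel21.Smooth
import Groth.Agent.Lib.AttrBorel21.KPts
import Groth.Agent.Lib.BigCell21.Cell
import Groth.Agent.Lib.MTRigid29.CentralizerNormalizer
import Mathlib.LinearAlgebra.Matrix.Block

/-!
# The subgroup contracted by a cocharacter of a split torus, over any field
-/

set_option autoImplicit false
set_option linter.style.haveILetI false
set_option backward.isDefEq.respectTransparency.types false
universe u

open CategoryTheory Limits MonoidalCategory CartesianMonoidalCategory MonObj AlgebraicGeometry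
open scoped LaurentPolynomial

noncomputable section

namespace Groth.Agent.AttrBorel21

open DiagGL TorPts21 BigCell21

attribute [local instance] InvRing21.gamAlg

variable {k : Type u} [Field k] {n d : ℕ}

/-- Vanishing where the weight increases. -/
def Blk {R : Type*} [Zero R] (w : Fin n → ℤ) (M : Matrix (Fin n) (Fin n) R) : Prop := ∀ i j, w i < w j → M i j = 0

theorem blk_iff {R : Type*} [Zero R] (w : Fin n → ℤ) (M : Matrix (Fin n) (Fin n) R) :
    Blk w M ↔ M.BlockTriangular fun i => -w i :=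
  ⟨fun h i j hij => h i j (neg_lt_neg_iff.1 hij), fun h _ _ hij => h (neg_lt_neg hij)⟩

theorem Blk.map {R S : Type*} [Semiring R] [Semiring S] {w : Fin n → ℤ} {M : Matrix (Fin n) (Fin n) R}
    (h : Blk w M) (f : R →+* S) : Blk w (M.map f) := fun i j hij => by
  rw [Matrix.map_apply, h i j hij, map_zero]

theorem blk_diagonal {R : Type*} [Zero R] (w : Fin n → ℤ) (c : Fin n → R) : Blk w (Matrix.diagonal c) :=
  fun _ _ hij => Matrix.diagonal_apply_ne _ fun e => hij.ne (congrArg w e)

variable {G : Over (Spec (CommRingCat.of k))} (r : G ⟶ GLs k n)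

/-- The coordinates of `GL_n` restricted to `G`. -/
def coordHom : CoordGrp.GLn n k →ₐ[k] Γ(G.left, ⊤) := ⟨ev r, ev_algebraMap r⟩

/-- The generators. -/
def gen : Option (Fin n × Fin n) → Γ(G.left, ⊤) :=
  fun o => o.elim (coordHom r CoordGrp.GLn.Dinv) fun p => mat r p.1 p.2

/-- Their degrees. -/
def deg (w : Fin n → ℤ) : Option (Fin n × Fin n) → ℤ := fun o => o.elim 0 fun p => w p.1 - w p.2

theorem adjoin_gen [IsClosedImmersion r.left] : Algebra.adjoin k (Set.range (gen r)) = ⊤ := by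
  refine eq_top_iff.2 fun F _ => ?_
  obtain ⟨c, rfl⟩ := exists_eq_appTop r F
  show coordHom r c ∈ _
  obtain ⟨b, rfl⟩ := Ideal.Quotient.mk_surjective c
  let q : MvPolynomial (CoordGrp.GLPoly.Idx n) k := b
  show coordHom r (Ideal.Quotient.mk _ (q : CoordGrp.GLb n k)) ∈ _
  induction q using MvPolynomial.induction_on with
  | C c =>
    show coordHom r (algebraMap k (CoordGrp.GLn n k) c) ∈ _
    rw [AlgHom.commutes]
    exact Subalgebra.algebraMap_mem _ c
  | add p q hp hq =>
    refine (congrArg (coordHom r) (map_add (Ideal.Quotient.mk (CoordGrp.GLb.relIdeal n k)) _ _)).trans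
      (map_add _ _ _) ▸ Subalgebra.add_mem _ hp hq
  | mul_X p s hp =>
    refine (congrArg (coordHom r) (map_mul (Ideal.Quotient.mk (CoordGrp.GLb.relIdeal n k)) _ _)).trans
      (map_mul _ _ _) ▸ Subalgebra.mul_mem _ hp ?_
    rcases s with ⟨i, j⟩ | ⟨⟩
    · exact Algebra.subset_adjoin ⟨some (i, j), rfl⟩
    · exact Algebra.subset_adjoin ⟨none, rfl⟩

/-- The matrix of a point in an algebra. -/
def pmat {B : Type u} [CommRing B] [Algebra k B] (p : VecGrp.pt k B ⟶ G) : Matrix (Fin n) (Fin n) B :=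
  (mat (p ≫ r)).map (InvRing21.ptHom B)

theorem pmat_apply {B : Type u} [CommRing B] [Algebra k B] (p : VecGrp.pt k B ⟶ G) (i j : Fin n) :
    pmat r p i j = InvRing21.val p (mat r i j) := by
  rw [pmat, Matrix.map_apply, mat_comp, Matrix.map_apply]
  rfl

theorem pmat_mul [GrpObj G] [IsMonHom r] {B : Type u} [CommRing B] [Algebra k B] (p q : VecGrp.pt k B ⟶ G) :
    pmat r (p * q) = pmat r p * pmat r q := by
  rw [pmat, MonObj.mul_comp, mat_mul, pmat, pmat, Matrix.map_mul]

/-- A cocharacter with values in Laurent polynomials. -/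
theorem exists_lam {T : Over (Spec (CommRingCat.of k))} [GrpObj T] (C : Chars (Fin d → ℤ) T) (b : Fin d → ℤ)
    (A : Type u) [CommRing A] [Algebra k A] :
    ∃ τ : VecGrp.pt k A[T;T⁻¹] ⟶ T, ∀ m : Fin d → ℤ,
      InvRing21.ptHom A[T;T⁻¹] (C.ch τ (Multiplicative.ofAdd m)) = AddMonoidAlgebra.single (pairing m b) 1 ∧
      InvRing21.ptHom A[T;T⁻¹] (C.ch τ⁻¹ (Multiplicative.ofAdd m)) = AddMonoidAlgebra.single (-pairing m b) 1 := by
  let χ : Multiplicative (Fin d → ℤ) →* A[T;T⁻¹] :=
    { toFun := fun m => AddMonoidAlgebra.single (pairing m.toAdd b) 1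
      map_one' := by
        rw [toAdd_one, show pairing (0 : Fin d → ℤ) b = 0 by simp [pairing]]
        exact AddMonoidAlgebra.one_def.symm
      map_mul' := fun m m' => by
        rw [AddMonoidAlgebra.single_mul_single, _root_.one_mul, toAdd_mul]
        congr 1
        simp [pairing, add_mul, Finset.sum_add_distrib] }
  obtain ⟨τ, hτ⟩ := C.surj (T := VecGrp.pt k A[T;T⁻¹])
    ((Scheme.ΓSpecIso (CommRingCat.of A[T;T⁻¹])).inv.hom.toMonoidHom.comp χ)
  have h1 : ∀ m, InvRing21.ptHom A[T;T⁻¹] (C.ch τ (Multiplicative.ofAdd m)) =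
      AddMonoidAlgebra.single (pairing m b) 1 := fun m => by
    rw [hτ]
    exact ConcreteCategory.congr_hom (Scheme.ΓSpecIso (CommRingCat.of A[T;T⁻¹])).inv_hom_id (χ (Multiplicative.ofAdd m))
  refine ⟨τ, fun m => ⟨h1 m, left_inv_eq_right_inv (a := AddMonoidAlgebra.single (pairing m b) 1) ?_ ?_⟩⟩
  · rw [← h1, ← map_mul, ← C.mul, inv_mul_cancel, C.one, map_one]
  · rw [AddMonoidAlgebra.single_mul_single, add_neg_cancel, _root_.one_mul, ← AddMonoidAlgebra.one_def]

section Main

variable [GrpObj G] [IsAffine G.left] [IsMonHom r] [IsClosedImmersion r.left] {T : Over (Spec (CommRingCat.of k))}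
  [GrpObj T] {C : Chars (Fin d → ℤ) T} {iT : T ⟶ G} [IsMonHom iT] {a : Fin n → Fin d → ℤ}
  (hdiag : ∀ (X : Over (Spec (CommRingCat.of k))) (x : X ⟶ T),
    mat ((x ≫ iT) ≫ r) = Matrix.diagonal fun j => C.ch x (Multiplicative.ofAdd (a j))) (b : Fin d → ℤ)

omit [IsAffine G.left] [IsMonHom r] [IsMonHom iT] [IsClosedImmersion r.left] [GrpObj G] in
include hdiag in
theorem blk_torus {X : Over (Spec (CommRingCat.of k))} (x : X ⟶ T) : Blk (wt a b) (mat ((x ≫ iT) ≫ r)) := by
  rw [hdiag]
  exact blk_diagonal _ _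

include hdiag in
/-- The grading of the coordinate ring by a cocharacter. -/
theorem exists_grading : ∃ Φ : Γ(G.left, ⊤) →ₐ[k] Γ(G.left, ⊤)[T;T⁻¹],
    ∀ o, IsHom Φ (deg (wt a b) o) (gen r o) := by
  let A : Type u := Γ(G.left, ⊤)
  obtain ⟨τ, hτ⟩ := exists_lam C b A
  let incl : A →ₐ[k] A[T;T⁻¹] := IsScalarTower.toAlgHom k A A[T;T⁻¹]
  let up : VecGrp.pt k A[T;T⁻¹] ⟶ G := VecGrp.ptMap incl ≫ InvRing21.uPt G
  let Φ : A →ₐ[k] A[T;T⁻¹] := InvRing21.val ((τ ≫ iT) * up * (τ ≫ iT)⁻¹)
  have hincl : ∀ F : A, incl F = AddMonoidAlgebra.single 0 F := fun F => by simp [incl]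
  have hpos : pmat r (τ ≫ iT) = Matrix.diagonal fun j => AddMonoidAlgebra.single (wt a b j) 1 := by
    rw [pmat, hdiag, Matrix.diagonal_map (map_zero _)]
    congr 1
    funext j
    exact (hτ (a j)).1
  have hneg : pmat r (τ ≫ iT)⁻¹ = Matrix.diagonal fun j => AddMonoidAlgebra.single (-wt a b j) 1 := by
    rw [pmat, show (τ ≫ iT)⁻¹ = τ⁻¹ ≫ iT from (GrpObj.inv_comp _ _).symm, hdiag, Matrix.diagonal_map (map_zero _)]
    congr 1
    funext j
    exact (hτ (a j)).2
  have hX : ∀ i j, Φ (mat r i j) = AddMonoidAlgebra.single (wt a b i - wt a b j) (mat r i j) := fun i j => by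
    show InvRing21.val _ (mat r i j) = _
    rw [← pmat_apply, pmat_mul, pmat_mul, hpos, hneg, Matrix.mul_diagonal, Matrix.diagonal_mul, pmat_apply]
    show _ * InvRing21.val (VecGrp.ptMap incl ≫ InvRing21.uPt G) _ * _ = _
    rw [InvRing21.val_ptMap, InvRing21.val_uPt, AlgHom.comp_id, hincl, AddMonoidAlgebra.single_mul_single,
      AddMonoidAlgebra.single_mul_single, _root_.one_mul, _root_.mul_one, add_zero, ← sub_eq_add_neg]
  refine ⟨Φ, fun o => ?_⟩
  rcases o with _ | ⟨i, j⟩
  · let M : Matrix (Fin n) (Fin n) A := (Matrix.of CoordGrp.GLn.X).map (coordHom r)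
    have hdet : coordHom r CoordGrp.GLn.det = M.det := by
      rw [CoordGrp.GLn.det_eq, AlgHom.map_det]
      rfl
    have hone : coordHom r CoordGrp.GLn.det * coordHom r CoordGrp.GLn.Dinv = 1 := by
      rw [← map_mul, CoordGrp.GLn.det_mul_Dinv, map_one]
    have hΦdet : Φ M.det = incl M.det := by
      rw [AlgHom.map_det, AlgHom.map_det, AlgHom.mapMatrix_apply, AlgHom.mapMatrix_apply]
      have : M.map Φ = pmat r (τ ≫ iT) * M.map incl * pmat r (τ ≫ iT)⁻¹ := by
        refine Matrix.ext fun p q => ?_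
        rw [hpos, hneg, Matrix.mul_diagonal, Matrix.diagonal_mul, Matrix.map_apply, Matrix.map_apply]
        show Φ (mat r p q) = _ * incl (mat r p q) * _
        rw [hX, hincl, AddMonoidAlgebra.single_mul_single, AddMonoidAlgebra.single_mul_single, _root_.one_mul,
          _root_.mul_one, add_zero, ← sub_eq_add_neg]
      rw [this, Matrix.det_mul_right_comm, ← pmat_mul, mul_inv_cancel, show pmat r (1 : VecGrp.pt k A[T;T⁻¹] ⟶ G) = 1 by
        rw [pmat, MonObj.one_comp, mat_one, Matrix.map_one _ (map_zero _) (map_one _)], _root_.one_mul]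
    show Φ (coordHom r CoordGrp.GLn.Dinv) = AddMonoidAlgebra.single 0 _
    rw [hdet] at hone
    refine left_inv_eq_right_inv (a := Φ M.det) ?_ ?_
    · rw [← map_mul, mul_comm, hone, map_one]
    · rw [hΦdet, hincl, AddMonoidAlgebra.single_mul_single, add_zero,
        show gen r none = coordHom r CoordGrp.GLn.Dinv from rfl, hone, ← AddMonoidAlgebra.one_def]
  · exact hX i j

omit [GrpObj G] [IsMonHom r] [IsClosedImmersion r.left] in
theorem formallySmooth_gam [Smooth G.hom] : Algebra.FormallySmooth k Γ(G.left, ⊤) := by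
  haveI : IsIso (InvRing21.uPt G).left := inferInstanceAs (IsIso G.left.isoSpec.inv)
  have h : Smooth (Spec.map (CommRingCat.ofHom (algebraMap k Γ(G.left, ⊤)))) := by
    show Smooth (VecGrp.pt k Γ(G.left, ⊤)).hom
    rw [← Over.w (InvRing21.uPt G)]
    infer_instance
  rw [HasRingHomProperty.Spec_iff (P := @Smooth)] at h
  exact (RingHom.smooth_algebraMap.1 h).formallySmooth

include hdiag in
/-- **The contracted subgroup of a smooth group is smooth**: it is cut out by the matrix entries where the weight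
increases. -/
theorem exists_attr [Smooth G.hom] : ∃ (B : Over (Spec (CommRingCat.of k))) (_ : GrpObj B) (iB : B ⟶ G),
    IsMonHom iB ∧ IsClosedImmersion iB.left ∧ Smooth B.hom ∧ IsAffine B.left ∧
      ∀ (X : Over (Spec (CommRingCat.of k))) (x : X ⟶ G), (∃ y, y ≫ iB = x) ↔ Blk (wt a b) (mat (x ≫ r)) := by
  classical
  obtain ⟨Φ, hΦ⟩ := exists_grading r hdiag b
  haveI := formallySmooth_gam (G := G)
  haveI := InvRing21.finiteType_gam G
  set I := negIdeal (gen r) (deg (wt a b)) with hI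
  let A : Type u := Γ(G.left, ⊤)
  haveI : Algebra.FormallySmooth k (A ⧸ I) := formallySmooth_quotient Φ (gen r) _ hΦ (adjoin_gen r)
  haveI : Algebra.FiniteType k (A ⧸ I) :=
    Algebra.FiniteType.of_surjective (Ideal.Quotient.mkₐ k I) Ideal.Quotient.mk_surjective
  haveI : Algebra.FinitePresentation k (A ⧸ I) := Algebra.FinitePresentation.of_finiteType.1 inferInstance
  haveI : Algebra.Smooth k (A ⧸ I) := ⟨inferInstance, inferInstance⟩
  let B : Over (Spec (CommRingCat.of k)) := VecGrp.pt k (A ⧸ I)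
  let iB : B ⟶ G := VecGrp.ptMap (Ideal.Quotient.mkₐ k I) ≫ InvRing21.uPt G
  haveI hcl : IsClosedImmersion iB.left := by
    haveI : IsIso (InvRing21.uPt G).left := inferInstanceAs (IsIso G.left.isoSpec.inv)
    haveI : IsClosedImmersion (VecGrp.ptMap (R := k) (Ideal.Quotient.mkₐ k I)).left :=
      IsClosedImmersion.spec_of_surjective _ Ideal.Quotient.mk_surjective
    rw [Over.comp_left]
    infer_instance
  haveI : IsAffine B.left := inferInstanceAs (IsAffine (Spec _))
  have hval : ∀ F : A, iB.left.appTop F =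
      (Scheme.ΓSpecIso (CommRingCat.of (A ⧸ I))).inv (Ideal.Quotient.mk I F) := fun F => by
    have h : InvRing21.val iB F = Ideal.Quotient.mk I F := by
      rw [InvRing21.val_ptMap, InvRing21.val_uPt, AlgHom.comp_id]; rfl
    rw [← h]
    exact (ConcreteCategory.congr_hom (Scheme.ΓSpecIso (CommRingCat.of (A ⧸ I))).hom_inv_id (iB.left.appTop F)).symm
  have hfac : ∀ (X : Over (Spec (CommRingCat.of k))) (x : X ⟶ G),
      (∃ y, y ≫ iB = x) ↔ Blk (wt a b) (mat (x ≫ r)) := fun X x => by
    constructor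
    · rintro ⟨y, rfl⟩ i j hij
      rw [Category.assoc, mat_comp, mat_comp, Matrix.map_apply, Matrix.map_apply, hval,
        Ideal.Quotient.eq_zero_iff_mem.2 (show mat r i j ∈ I from
          Ideal.subset_span ⟨⟨some (i, j), sub_neg.2 hij⟩, rfl⟩), map_zero, map_zero]
    · intro hx
      letI := (alg X).toAlgebra
      let φ : A →ₐ[k] Γ(X.left, ⊤) := InvRing21.appAlg x
      have hker : ∀ F ∈ I, φ F = 0 := fun F hF => by
        induction hF using Submodule.span_induction with
        | mem F hF =>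
          obtain ⟨⟨_ | ⟨i, j⟩, h⟩, rfl⟩ := hF
          · exact absurd h (lt_irrefl _)
          · have := hx i j (sub_neg.1 h)
            rwa [mat_comp] at this
        | zero => exact map_zero φ
        | add F F' _ _ h h' => rw [map_add, h, h', add_zero]
        | smul c F _ h => rw [smul_eq_mul, map_mul, h, MulZeroClass.mul_zero]
      let ψ : A ⧸ I →ₐ[k] Γ(X.left, ⊤) := Ideal.Quotient.liftₐ I φ hker
      refine ⟨DiagGL.mk (A := A ⧸ I) ψ.toRingHom fun c => ψ.commutes c, ?_⟩
      refine Over.OverMorphism.ext (ext_of_isAffine (CommRingCat.hom_ext (RingHom.ext fun F => ?_)))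
      show (DiagGL.mk (A := A ⧸ I) ψ.toRingHom fun c => ψ.commutes c).left.appTop (iB.left.appTop F) = φ F
      rw [hval]
      show ev (DiagGL.mk (A := A ⧸ I) ψ.toRingHom fun c => ψ.commutes c) (Ideal.Quotient.mk I F) = _
      rw [ev_mk]
      rfl
  haveI : Mono iB := Over.mono_of_mono_left iB
  have hmul : ∀ (X : Over (Spec (CommRingCat.of k))) (x y : X ⟶ B), ∃ c, c ≫ iB = (x ≫ iB) * (y ≫ iB) := fun X x y => by
    rw [hfac, MonObj.mul_comp, mat_mul]
    exact (blk_iff _ _).2 (((blk_iff _ _).1 ((hfac _ _).1 ⟨x, rfl⟩)).mul ((blk_iff _ _).1 ((hfac _ _).1 ⟨y, rfl⟩)))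
  have hone : ∃ c : 𝟙_ (Over (Spec (CommRingCat.of k))) ⟶ B, c ≫ iB = 1 := by
    rw [hfac, MonObj.one_comp, mat_one, ← Matrix.diagonal_one]
    exact blk_diagonal _ _
  have hinv : ∀ (X : Over (Spec (CommRingCat.of k))) (x : X ⟶ B), ∃ c, c ≫ iB = (x ≫ iB)⁻¹ := fun X x => by
    rw [hfac]
    letI := (mat_isUnit ((x ≫ iB) ≫ r)).invertible
    have h1 := Matrix.blockTriangular_inv_of_blockTriangular ((blk_iff (wt a b) _).1 ((hfac _ _).1 ⟨x, rfl⟩))
    rw [Matrix.inv_eq_left_inv (B := mat ((x ≫ iB)⁻¹ ≫ r))] at h1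
    · exact (blk_iff _ _).2 h1
    · rw [← mat_mul, ← MonObj.mul_comp, inv_mul_cancel, MonObj.one_comp, mat_one]
  obtain ⟨_, hm⟩ := MTRigid29.exists_grpObj_of_subgroup iB hmul hone hinv
  refine ⟨B, inferInstance, iB, hm, hcl, ?_, inferInstance, hfac⟩
  show Smooth (Spec.map (CommRingCat.ofHom (algebraMap k (A ⧸ I))))
  rw [HasRingHomProperty.Spec_iff (P := @Smooth)]
  exact RingHom.smooth_algebraMap.2 inferInstance

include hdiag in
/-- If the functions of positive degree vanish on the contracted locus of an integral smooth group, the group lies in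
the opposite contracted locus. -/
theorem blk_neg_of_pos [IsIntegral G.left] [LocallyOfFiniteType G.hom]
    (hpos : ∀ i j, wt a b j < wt a b i → mat r i j ∈ negIdeal (gen r) (deg (wt a b))) (i j : Fin n)
    (hij : wt a b j < wt a b i) : mat r i j = 0 := by
  obtain ⟨Φ, hΦ⟩ := exists_grading r hdiag b
  haveI := InvRing21.finiteType_gam G
  haveI : IsNoetherianRing Γ(G.left, ⊤) := Algebra.FiniteType.isNoetherianRing k _
  haveI : Nonempty (⊤ : G.left.Opens) := ⟨⟨Classical.arbitrary _, trivial⟩⟩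
  have hne : negIdeal (gen r) (deg (wt a b)) ≠ ⊤ := fun h => by
    have h1 : (1 : Γ(G.left, ⊤)) ∈ negIdeal (gen r) (deg (wt a b)) := by rw [h]; trivial
    let e : Γ(G.left, ⊤) →ₐ[k] k := InvRing21.val (1 : VecGrp.pt k k ⟶ G)
    have : negIdeal (gen r) (deg (wt a b)) ≤ RingHom.ker e.toRingHom := Ideal.span_le.2 (by
      rintro _ ⟨⟨_ | ⟨p, q⟩, hpq⟩, rfl⟩
      · exact absurd hpq (lt_irrefl _)
      · show InvRing21.val (1 : VecGrp.pt k k ⟶ G) (mat r p q) = 0
        rw [← pmat_apply, pmat, MonObj.one_comp, mat_one, Matrix.map_one _ (map_zero _) (map_one _),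
          Matrix.one_apply_ne]
        exact fun e' => (sub_neg.1 hpq).ne (congrArg (wt a b) e'))
    exact one_ne_zero ((map_one e).symm.trans (this h1))
  exact eq_zero_of_pos Φ (gen r) (deg (wt a b)) hΦ (adjoin_gen r) hne (fun o ho => by
    rcases o with _ | ⟨p, q⟩
    · exact absurd ho (lt_irrefl _)
    · exact hpos p q (sub_pos.1 ho)) (some (i, j)) (sub_pos.2 hij)

end Main

end Groth.Agent.AttrBorel21
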