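import Groth.Agent.Lib.AttrBorel21.Subgroup
import Groth.Agent.Lib.AttrBorel21.GalPts

/-!
# Limits and the unipotent contracted subgroup
-/

set_option autoImplicit false
set_option linter.style.haveILetI false
set_option backward.isDefEq.respectTransparency.types false
universe u

open CategoryTheory Limits MonoidalCategory CartesianMonoidalCategory MonObj AlgebraicGeometry
open scoped LaurentPolynomial Polynomial

noncomputable section

namespace Groth.Agent.AttrBorel21

open InvRing21 DiagGL TorPts21 BigCell21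

attribute [local instance] InvRing21.gamAlg

variable {k : Type u} [Field k] {n d : ℕ}

/-- The block diagonal part. -/
def blkDiag {R : Type*} [Zero R] (w : Fin n → ℤ) (M : Matrix (Fin n) (Fin n) R) : Matrix (Fin n) (Fin n) R :=
  Matrix.of fun i j => if w i = w j then M i j else 0

/-- Block unitriangular matrices. -/
def Unp {R : Type*} [Zero R] [One R] (w : Fin n → ℤ) (M : Matrix (Fin n) (Fin n) R) : Prop :=
  Blk w M ∧ blkDiag w M = 1

theorem blkDiag_one {R : Type*} [Zero R] [One R] (w : Fin n → ℤ) :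
    blkDiag w (1 : Matrix (Fin n) (Fin n) R) = 1 := by
  ext i j
  by_cases h : w i = w j
  · simp [blkDiag, h]
  · simp [blkDiag, h, Matrix.one_apply_ne fun e => h (congrArg w e)]

theorem blkDiag_blkDiag {R : Type*} [Zero R] (w : Fin n → ℤ) (M : Matrix (Fin n) (Fin n) R) :
    blkDiag w (blkDiag w M) = blkDiag w M := by
  ext i j
  simp only [blkDiag, Matrix.of_apply]
  split_ifs <;> rfl

theorem blk_blkDiag {R : Type*} [Zero R] (w : Fin n → ℤ) (M : Matrix (Fin n) (Fin n) R) :
    Blk w (blkDiag w M) := fun _ _ h => if_neg h.ne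

theorem blkDiag_map {R S : Type*} [Semiring R] [Semiring S] (w : Fin n → ℤ) (M : Matrix (Fin n) (Fin n) R)
    {F : Type*} [FunLike F R S] [RingHomClass F R S] (f : F) :
    blkDiag w (M.map f) = (blkDiag w M).map f := by
  ext i j
  simp only [blkDiag, Matrix.map_apply, Matrix.of_apply]
  split_ifs <;> simp

theorem blkDiag_mul {R : Type*} [Semiring R] {w : Fin n → ℤ} {M N : Matrix (Fin n) (Fin n) R}
    (hM : Blk w M) (hN : Blk w N) : blkDiag w (M * N) = blkDiag w M * blkDiag w N := by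
  ext i j
  simp only [blkDiag, Matrix.of_apply, Matrix.mul_apply]
  split_ifs with hij
  · refine Finset.sum_congr rfl fun l _ => ?_
    rcases lt_trichotomy (w i) (w l) with h | h | h
    · rw [hM i l h, if_neg h.ne, MulZeroClass.zero_mul, MulZeroClass.zero_mul]
    · rw [if_pos h, if_pos (h.symm.trans hij)]
    · rw [hN l j (hij ▸ h), if_neg h.ne', MulZeroClass.zero_mul, MulZeroClass.mul_zero]
  · refine (Finset.sum_eq_zero fun l _ => ?_).symm
    by_cases h : w i = w l
    · rw [if_neg fun e => hij (h.trans e), MulZeroClass.mul_zero]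
    · rw [if_neg h, MulZeroClass.zero_mul]

theorem Unp.mul {R : Type*} [CommRing R] {w : Fin n → ℤ} {M N : Matrix (Fin n) (Fin n) R} (hM : Unp w M)
    (hN : Unp w N) : Unp w (M * N) :=
  ⟨(blk_iff _ _).2 (((blk_iff _ _).1 hM.1).mul ((blk_iff _ _).1 hN.1)), by
    rw [blkDiag_mul hM.1 hN.1, hM.2, hN.2, _root_.one_mul]⟩

theorem unp_one {R : Type*} [Zero R] [One R] (w : Fin n → ℤ) : Unp w (1 : Matrix (Fin n) (Fin n) R) :=
  ⟨by rw [← Matrix.diagonal_one]; exact blk_diagonal _ _, blkDiag_one w⟩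

/-- A left inverse of a block triangular matrix is block triangular with inverse diagonal part. -/
theorem blk_left_inv {R : Type*} [CommRing R] {w : Fin n → ℤ} {M M' : Matrix (Fin n) (Fin n) R}
    (hM : Blk w M) (h : M' * M = 1) : Blk w M' ∧ blkDiag w M' * blkDiag w M = 1 := by
  letI := (IsUnit.of_mul_eq_one_right M' h).invertible
  have h1 := Matrix.blockTriangular_inv_of_blockTriangular ((blk_iff w M).1 hM)
  rw [Matrix.inv_eq_left_inv h] at h1
  exact ⟨(blk_iff _ _).2 h1, by rw [← blkDiag_mul ((blk_iff _ _).2 h1) hM, h, blkDiag_one]⟩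

theorem Unp.left_inv {R : Type*} [CommRing R] {w : Fin n → ℤ} {M M' : Matrix (Fin n) (Fin n) R} (hM : Unp w M)
    (h : M' * M = 1) : Unp w M' := by
  obtain ⟨h1, h2⟩ := blk_left_inv hM.1 h
  exact ⟨h1, by rwa [hM.2, _root_.mul_one] at h2⟩

theorem Unp.map {R S : Type*} [Semiring R] [Semiring S] {w : Fin n → ℤ} {M : Matrix (Fin n) (Fin n) R}
    {F : Type*} [FunLike F R S] [RingHomClass F R S] (f : F) (hM : Unp w M) : Unp w (M.map f) :=
  ⟨fun i j h => by rw [Matrix.map_apply, hM.1 i j h, map_zero],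
    by rw [blkDiag_map, hM.2, Matrix.map_one _ (map_zero f) (map_one f)]⟩

section

variable {G : Over (Spec (CommRingCat.of k))} [GrpObj G] [IsAffine G.left] {r : G ⟶ GLs k n} [IsMonHom r]
  [IsClosedImmersion r.left] {T : Over (Spec (CommRingCat.of k))}
  [GrpObj T] {C : Chars (Fin d → ℤ) T} {iT : T ⟶ G} [IsMonHom iT] {a : Fin n → Fin d → ℤ}
  (hdiag : ∀ (X : Over (Spec (CommRingCat.of k))) (x : X ⟶ T),
    mat ((x ≫ iT) ≫ r) = Matrix.diagonal fun j => C.ch x (Multiplicative.ofAdd (a j))) (b : Fin d → ℤ)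

include hdiag in
/-- **Limits**: the block diagonal part of a contracted point is a point. -/
theorem exists_lim {B : Type u} [CommRing B] [Algebra k B] (x : VecGrp.pt k B ⟶ G)
    (hx : Blk (wt a b) (pmat r x)) :
    ∃ z : VecGrp.pt k B ⟶ G, pmat r z = blkDiag (wt a b) (pmat r x) := by
  obtain ⟨Φ, hΦ⟩ := exists_grading r hdiag b
  let Ψ : Γ(G.left, ⊤) →ₐ[k] B[T;T⁻¹] := (AddMonoidAlgebra.mapAlgHom ℤ (val x)).comp Φ
  let j : B[X] →ₐ[k] B[T;T⁻¹] := Polynomial.toLaurentAlg.restrictScalars k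
  have hΨ : ∀ o, Ψ (gen r o) = AddMonoidAlgebra.single (deg (wt a b) o) (val x (gen r o)) := fun o => by
    show AddMonoidAlgebra.mapAlgHom ℤ (val x) (Φ (gen r o)) = _
    rw [show Φ (gen r o) = _ from hΦ o, AddMonoidAlgebra.mapAlgHom_single]
  have hneg : ∀ o, deg (wt a b) o < 0 → val x (gen r o) = 0 := fun o ho => by
    rcases o with _ | ⟨p, q⟩
    · exact absurd ho (lt_irrefl _)
    · show val x (mat r p q) = 0
      rw [← pmat_apply]
      exact hx p q (sub_neg.1 ho)
  have hmono : ∀ o, j (Polynomial.monomial (deg (wt a b) o).toNat (val x (gen r o))) = Ψ (gen r o) := fun o => by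
    rw [hΨ]
    show Polynomial.toLaurent _ = _
    rcases lt_or_ge (deg (wt a b) o) 0 with h | h
    · rw [hneg o h, map_zero, map_zero, AddMonoidAlgebra.single_zero]
    · rw [Polynomial.toLaurent_C_mul_T, ← LaurentPolynomial.single_eq_C_mul_T, Int.toNat_of_nonneg h]
  have hrange : ∀ F, Ψ F ∈ j.range := fun F => by
    have : (⊤ : Subalgebra k Γ(G.left, ⊤)) ≤ j.range.comap Ψ := by
      rw [← adjoin_gen r]
      exact Algebra.adjoin_le (by rintro _ ⟨o, rfl⟩; exact ⟨_, hmono o⟩)
    exact this trivial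
  have hj : Function.Injective j := Polynomial.toLaurent_injective
  let Ψ' : Γ(G.left, ⊤) →ₐ[k] B[X] :=
    (AlgEquiv.ofInjective j hj).symm.toAlgHom.comp (Ψ.codRestrict j.range hrange)
  have hΨ' : ∀ F, j (Ψ' F) = Ψ F := fun F =>
    congrArg Subtype.val ((AlgEquiv.ofInjective j hj).apply_symm_apply ⟨Ψ F, hrange F⟩)
  let θ : Γ(G.left, ⊤) →ₐ[k] B := ((Polynomial.aeval (0 : B)).restrictScalars k).comp Ψ'
  refine ⟨VecGrp.ptMap θ ≫ uPt G, Matrix.ext fun p q => ?_⟩
  rw [pmat_apply, val_ptMap, val_uPt, AlgHom.comp_id]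
  have h1 : Ψ' (mat r p q) = Polynomial.monomial (wt a b p - wt a b q).toNat (val x (mat r p q)) :=
    hj ((hΨ' _).trans (hmono (some (p, q))).symm)
  show Polynomial.aeval (0 : B) (Ψ' (mat r p q)) = _
  rw [h1, Polynomial.aeval_monomial, zero_pow_eq, blkDiag, Matrix.of_apply, pmat_apply]
  rcases lt_trichotomy (wt a b p) (wt a b q) with h | h | h
  · rw [← pmat_apply, hx p q h, map_zero, MulZeroClass.zero_mul, if_neg h.ne]
  · rw [if_pos (by omega), if_pos h, _root_.mul_one]
    rfl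
  · rw [if_neg (by omega), if_neg h.ne', MulZeroClass.mul_zero]

include hdiag in
set_option maxHeartbeats 800000 in
/-- **The unipotent contracted subgroup is smooth.** -/
theorem exists_unip [Smooth G.hom] : ∃ (U : Over (Spec (CommRingCat.of k))) (_ : GrpObj U) (iU : U ⟶ G),
    IsMonHom iU ∧ IsClosedImmersion iU.left ∧ Smooth U.hom ∧ IsAffine U.left ∧
      ∀ (X : Over (Spec (CommRingCat.of k))) (x : X ⟶ G), (∃ y, y ≫ iU = x) ↔ Unp (wt a b) (mat (x ≫ r)) := by
  classical
  obtain ⟨Φ, hΦ⟩ := exists_grading r hdiag b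
  haveI := formallySmooth_gam (G := G)
  haveI := InvRing21.finiteType_gam G
  set w := wt a b with hw
  let A : Type u := Γ(G.left, ⊤)
  let N : Ideal A := negIdeal (gen r) (deg w)
  haveI hNfs : Algebra.FormallySmooth k (A ⧸ N) := formallySmooth_quotient Φ (gen r) _ hΦ (adjoin_gen r)
  let J : Ideal A := N ⊔ Ideal.span (Set.range fun p : {p : Fin n × Fin n // w p.1 = w p.2} =>
    mat r p.1.1 p.1.2 - (1 : Matrix (Fin n) (Fin n) A) p.1.1 p.1.2)
  have hNJ : N ≤ J := le_sup_left
  have hJker : ∀ {B : Type u} [CommRing B] [Algebra k B] (x : VecGrp.pt k B ⟶ G), Unp w (pmat r x) →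
      ∀ F ∈ J, val x F = 0 := fun {B} _ _ x hx F hF => by
    suffices h : J ≤ RingHom.ker (val x).toRingHom from h hF
    refine sup_le (Ideal.span_le.2 ?_) (Ideal.span_le.2 ?_)
    · rintro _ ⟨⟨_ | ⟨p, q⟩, h⟩, rfl⟩
      · exact absurd h (lt_irrefl _)
      · show val x (mat r p q) = 0
        rw [← pmat_apply]
        exact hx.1 p q (sub_neg.1 h)
    · rintro _ ⟨⟨⟨p, q⟩, h⟩, rfl⟩
      show val x (mat r p q - (1 : Matrix (Fin n) (Fin n) A) p q) = 0
      rw [map_sub, ← pmat_apply, sub_eq_zero]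
      have h1 := congrFun (congrFun hx.2 p) q
      rw [blkDiag, Matrix.of_apply, if_pos h] at h1
      rw [h1]
      by_cases e : p = q
      · subst e; simp
      · simp [Matrix.one_apply_ne e]
  have hJval : ∀ {B : Type u} [CommRing B] [Algebra k B] (f : A ⧸ J →ₐ[k] B),
      Unp w (pmat r (VecGrp.ptMap (f.comp (Ideal.Quotient.mkₐ k J)) ≫ uPt G)) := fun {B} _ _ f => by
    have hp : ∀ p q, pmat r (VecGrp.ptMap (f.comp (Ideal.Quotient.mkₐ k J)) ≫ uPt G) p q =
        f (Ideal.Quotient.mk J (mat r p q)) := fun p q => by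
      rw [pmat_apply, val_ptMap, val_uPt, AlgHom.comp_id]
      rfl
    refine ⟨fun p q h => ?_, Matrix.ext fun p q => ?_⟩
    · rw [hp, Ideal.Quotient.eq_zero_iff_mem.2 (show mat r p q ∈ J from hNJ (Ideal.subset_span ⟨⟨some (p, q), sub_neg.2 h⟩, rfl⟩)), map_zero]
    · rw [blkDiag, Matrix.of_apply]
      split_ifs with h
      · rw [hp, show Ideal.Quotient.mk J (mat r p q) =
            Ideal.Quotient.mk J ((1 : Matrix (Fin n) (Fin n) A) p q) from
          Ideal.Quotient.eq.2 (le_sup_right (a := N) (Ideal.subset_span ⟨⟨(p, q), h⟩, rfl⟩))]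
        by_cases e : p = q
        · subst e; simp
        · simp [Matrix.one_apply_ne e]
      · exact (Matrix.one_apply_ne fun e => h (congrArg w e)).symm
  haveI : Algebra.FormallySmooth k (A ⧸ J) := by
    refine Algebra.FormallySmooth.iff_comp_surjective.2 fun B _ _ I hI f => ?_
    let fac : A ⧸ N →ₐ[k] A ⧸ J := Ideal.Quotient.factorₐ k hNJ
    obtain ⟨g, hg⟩ := Algebra.FormallySmooth.comp_surjective k (A ⧸ N) I hI (f.comp fac)
    let x : VecGrp.pt k B ⟶ G := VecGrp.ptMap (g.comp (Ideal.Quotient.mkₐ k N)) ≫ uPt G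
    have hxb : Blk w (pmat r x) := fun p q h => by
      rw [pmat_apply, val_ptMap, val_uPt, AlgHom.comp_id]
      show g (Ideal.Quotient.mk N (mat r p q)) = 0
      rw [Ideal.Quotient.eq_zero_iff_mem.2 (show mat r p q ∈ N from Ideal.subset_span ⟨⟨some (p, q), sub_neg.2 h⟩, rfl⟩), map_zero]
    obtain ⟨z, hz⟩ := exists_lim hdiag b x hxb
    have hzb : Blk w (pmat r z) := hz ▸ blk_blkDiag _ _
    obtain ⟨hzi, hzd⟩ := blk_left_inv hzb (show pmat r z⁻¹ * pmat r z = 1 by
      rw [← pmat_mul, inv_mul_cancel, pmat_one])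
    have hx' : Unp w (pmat r (z⁻¹ * x)) := by
      rw [pmat_mul]
      refine ⟨(blk_iff _ _).2 (((blk_iff _ _).1 hzi).mul ((blk_iff _ _).1 hxb)), ?_⟩
      rw [blkDiag_mul hzi hxb]
      rw [hz, blkDiag_blkDiag] at hzd
      exact hzd
    let f' : A ⧸ J →ₐ[k] B := Ideal.Quotient.liftₐ J (val (z⁻¹ * x)) (hJker _ hx')
    refine ⟨f', Ideal.Quotient.algHom_ext (R₁ := k) ?_⟩
    set red := VecGrp.ptMap (R := k) (Ideal.Quotient.mkₐ k I) with hred
    have hxred : red ≫ x = VecGrp.ptMap (f.comp (Ideal.Quotient.mkₐ k J)) ≫ uPt G := by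
      rw [hred, ← Category.assoc, InvRing21.ptMap_comp]
      congr 2
      rw [← AlgHom.comp_assoc, hg, AlgHom.comp_assoc]
      rfl
    have hzred : red ≫ z = 1 := pmat_injective r (by
      rw [hred, pmat_comp_ptMap, hz, pmat_one, ← blkDiag_map, ← pmat_comp_ptMap, ← hred, hxred]
      exact (hJval f).2)
    have h2 : (Ideal.Quotient.mkₐ k I).comp (val (z⁻¹ * x)) = val (red ≫ (z⁻¹ * x)) := (val_ptMap _ _).symm
    rw [MonObj.comp_mul, GrpObj.comp_inv, hzred, inv_one, _root_.one_mul, hxred, val_ptMap, val_uPt,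
      AlgHom.comp_id] at h2
    rw [AlgHom.comp_assoc, show f'.comp (Ideal.Quotient.mkₐ k J) = val (z⁻¹ * x) from AlgHom.ext fun _ => rfl]
    exact h2
  haveI : Algebra.FiniteType k (A ⧸ J) :=
    Algebra.FiniteType.of_surjective (Ideal.Quotient.mkₐ k J) Ideal.Quotient.mk_surjective
  haveI : Algebra.FinitePresentation k (A ⧸ J) := Algebra.FinitePresentation.of_finiteType.1 inferInstance
  haveI : Algebra.Smooth k (A ⧸ J) := ⟨inferInstance, inferInstance⟩
  let U : Over (Spec (CommRingCat.of k)) := VecGrp.pt k (A ⧸ J)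
  let iU : U ⟶ G := VecGrp.ptMap (Ideal.Quotient.mkₐ k J) ≫ uPt G
  haveI hcl : IsClosedImmersion iU.left := by
    haveI : IsIso (InvRing21.uPt G).left := inferInstanceAs (IsIso G.left.isoSpec.inv)
    haveI : IsClosedImmersion (VecGrp.ptMap (R := k) (Ideal.Quotient.mkₐ k J)).left :=
      IsClosedImmersion.spec_of_surjective _ Ideal.Quotient.mk_surjective
    rw [Over.comp_left]
    infer_instance
  haveI : IsAffine U.left := inferInstanceAs (IsAffine (Spec _))
  have hunivU : Unp w (mat (iU ≫ r)) := by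
    have h1 := hJval (AlgHom.id k (A ⧸ J))
    rw [AlgHom.id_comp] at h1
    have h3 := h1.map ((Scheme.ΓSpecIso (CommRingCat.of (A ⧸ J))).inv.hom)
    have h4 : ((pmat r iU).map ((Scheme.ΓSpecIso (CommRingCat.of (A ⧸ J))).inv.hom)) = mat (iU ≫ r) := by
      ext p q
      exact ConcreteCategory.congr_hom (Scheme.ΓSpecIso (CommRingCat.of (A ⧸ J))).hom_inv_id _
    rwa [h4] at h3
  have hfac : ∀ (X : Over (Spec (CommRingCat.of k))) (x : X ⟶ G),
      (∃ y, y ≫ iU = x) ↔ Unp w (mat (x ≫ r)) := fun X x => by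
    constructor
    · rintro ⟨y, rfl⟩
      rw [Category.assoc, mat_comp]
      exact hunivU.map _
    · intro hx
      letI := (alg X).toAlgebra
      let φ : A →ₐ[k] Γ(X.left, ⊤) := InvRing21.appAlg x
      have hx' : mat (x ≫ r) = (mat r).map φ := mat_comp _ _
      have hker : ∀ F ∈ J, φ F = 0 := fun F hF => by
        suffices h : J ≤ RingHom.ker φ.toRingHom from h hF
        refine sup_le (Ideal.span_le.2 ?_) (Ideal.span_le.2 ?_)
        · rintro _ ⟨⟨_ | ⟨p, q⟩, h⟩, rfl⟩
          · exact absurd h (lt_irrefl _)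
          · have := hx.1 p q (sub_neg.1 h)
            rwa [hx', Matrix.map_apply] at this
        · rintro _ ⟨⟨⟨p, q⟩, h⟩, rfl⟩
          show φ (mat r p q - (1 : Matrix (Fin n) (Fin n) A) p q) = 0
          rw [map_sub, sub_eq_zero]
          have h1 := congrFun (congrFun hx.2 p) q
          rw [blkDiag, Matrix.of_apply, if_pos h, hx', Matrix.map_apply] at h1
          rw [h1]
          by_cases e : p = q
          · subst e; simp
          · simp [Matrix.one_apply_ne e]
      let ψ : A ⧸ J →ₐ[k] Γ(X.left, ⊤) := Ideal.Quotient.liftₐ J φ hker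
      refine ⟨DiagGL.mk (A := A ⧸ J) ψ.toRingHom fun c => ψ.commutes c, ?_⟩
      refine Over.OverMorphism.ext (ext_of_isAffine (CommRingCat.hom_ext (RingHom.ext fun F => ?_)))
      show (DiagGL.mk (A := A ⧸ J) ψ.toRingHom fun c => ψ.commutes c).left.appTop (iU.left.appTop F) = φ F
      have hval : iU.left.appTop F = (Scheme.ΓSpecIso (CommRingCat.of (A ⧸ J))).inv (Ideal.Quotient.mk J F) := by
        have h : InvRing21.val iU F = Ideal.Quotient.mk J F := by
          rw [InvRing21.val_ptMap, InvRing21.val_uPt, AlgHom.comp_id]; rfl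
        rw [← h]
        exact (ConcreteCategory.congr_hom (Scheme.ΓSpecIso (CommRingCat.of (A ⧸ J))).hom_inv_id (iU.left.appTop F)).symm
      rw [hval]
      show ev (DiagGL.mk (A := A ⧸ J) ψ.toRingHom fun c => ψ.commutes c) (Ideal.Quotient.mk J F) = _
      rw [ev_mk]
      rfl
  haveI : Mono iU := Over.mono_of_mono_left iU
  have hmul : ∀ (X : Over (Spec (CommRingCat.of k))) (x y : X ⟶ U), ∃ c, c ≫ iU = (x ≫ iU) * (y ≫ iU) := fun X x y => by
    rw [hfac, MonObj.mul_comp, mat_mul]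
    exact ((hfac _ _).1 ⟨x, rfl⟩).mul ((hfac _ _).1 ⟨y, rfl⟩)
  have hone : ∃ c : 𝟙_ (Over (Spec (CommRingCat.of k))) ⟶ U, c ≫ iU = 1 := by
    rw [hfac, MonObj.one_comp, mat_one]
    exact unp_one _
  have hinv : ∀ (X : Over (Spec (CommRingCat.of k))) (x : X ⟶ U), ∃ c, c ≫ iU = (x ≫ iU)⁻¹ := fun X x => by
    rw [hfac]
    refine ((hfac _ _).1 ⟨x, rfl⟩).left_inv ?_
    rw [← mat_mul, ← MonObj.mul_comp, inv_mul_cancel, MonObj.one_comp, mat_one]
  obtain ⟨_, hm⟩ := MTRigid29.exists_grpObj_of_subgroup iU hmul hone hinv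
  refine ⟨U, inferInstance, iU, hm, hcl, ?_, inferInstance, hfac⟩
  show Smooth (Spec.map (CommRingCat.ofHom (algebraMap k (A ⧸ J))))
  rw [HasRingHomProperty.Spec_iff (P := @Smooth)]
  exact RingHom.smooth_algebraMap.2 inferInstance

end

end Groth.Agent.AttrBorel21
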