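import Groth.Agent.Lib.AttrBorel21.SplitData
import Groth.Agent.Lib.AttrBorel21.Opposite
import Groth.Agent.Lib.TorPts21.UnipPart
import Groth.Agent.Lib.TorPts21.GeomIso
import Groth.Agent.Lib.BorelFix21.BaseChange
import Groth.Prelude.Def_Par
import Mathlib.Data.Fin.Tuple.Sort

/-!
# The unipotent radical of a Borel subgroup containing a split maximal torus
-/

set_option autoImplicit false
set_option linter.style.haveILetI false
set_option backward.isDefEq.respectTransparency.types false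
universe u

open CategoryTheory Limits MonoidalCategory CartesianMonoidalCategory MonObj AlgebraicGeometry

noncomputable section

namespace Groth.Agent.AttrBorel21

open MatGrp21 InvRing21 DiagGL TorPts21 BigCell21 BorelLam21

attribute [local instance] InvRing21.gamAlg BorelFix21.ptsTop

variable {k : Type u} [Field k] {n d : ℕ}

/-- A representation in permuted coordinates. -/
theorem exists_permRep {G : Over (Spec (CommRingCat.of k))} [GrpObj G] (r : G ⟶ GLs k n) [IsMonHom r]
    [IsClosedImmersion r.left] (σ : Equiv.Perm (Fin n)) :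
    ∃ (r' : G ⟶ GLs k n) (_ : IsMonHom r') (_ : IsClosedImmersion r'.left),
      ∀ (X : Over (Spec (CommRingCat.of k))) (x : X ⟶ G), mat (x ≫ r') = (mat (x ≫ r)).submatrix σ σ := by
  let MK := matsGLn k n
  have hu : ∀ (τ : Equiv.Perm (Fin n)), IsUnit ((MK.mat (𝟙 (GLs k n))).submatrix τ τ) := fun τ =>
    (MK.isUnit (𝟙 (GLs k n))).map (Matrix.reindexRingEquiv _ τ.symm : Matrix (Fin n) (Fin n) _ ≃+* _)
  obtain ⟨ψ, hψ⟩ := MK.surj (hu σ)
  obtain ⟨ψ', hψ'⟩ := MK.surj (hu σ.symm)
  have hall : ∀ {X : Over (Spec (CommRingCat.of k))} (x : X ⟶ GLs k n), MK.mat (x ≫ ψ) = (MK.mat x).submatrix σ σ :=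
    fun x => by
      rw [MK.nat, hψ, ← Matrix.submatrix_map, ← MK.nat, Category.comp_id]
  have hall' : ∀ {X : Over (Spec (CommRingCat.of k))} (x : X ⟶ GLs k n),
      MK.mat (x ≫ ψ') = (MK.mat x).submatrix σ.symm σ.symm := fun x => by
    rw [MK.nat, hψ', ← Matrix.submatrix_map, ← MK.nat, Category.comp_id]
  let e : GLs k n ≅ GLs k n := ⟨ψ, ψ', MK.inj (by rw [hall', hψ, Matrix.submatrix_submatrix]; simp),
    MK.inj (by rw [hall, hψ', Matrix.submatrix_submatrix]; simp)⟩
  haveI hm : IsMonHom e.hom :=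
    { one_hom := MK.inj (by
        rw [hall, MonObj.one_eq_one, MK.one]
        exact Matrix.submatrix_one σ σ.injective)
      mul_hom := MK.inj (by
        rw [hall, MonObj.mul_eq_mul, MonObj.comp_mul, MK.mul, MK.mul, tensorHom_fst, tensorHom_snd, hall, hall,
          Matrix.submatrix_mul_equiv]) }
  haveI : IsIso e.hom := e.isIso_hom
  haveI : IsIso e.hom.left := inferInstanceAs (IsIso ((Over.forget _).map e.hom))
  refine ⟨r ≫ e.hom, inferInstance, inferInstanceAs (IsClosedImmersion (r.left ≫ e.hom.left)), fun X x => ?_⟩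
  rw [← Category.assoc]
  exact hall _

/-- Sorting by decreasing weight. -/
theorem shift_zero_sort {R : Type u} [Field R] {w : Fin n → ℤ} {M : Matrix (Fin n) (Fin n) R} (hM : IsUp w M)
    (hdg : ∀ i j, w i = w j → i ≠ j → M i j = 0) :
    Shift 0 (M.submatrix (Tuple.sort fun i => -w i) (Tuple.sort fun i => -w i)) := by
  intro p q hpq
  rw [Matrix.submatrix_apply]
  have h := Tuple.monotone_sort (fun i => -w i) (show q ≤ p from Fin.le_def.2 (by omega))
  simp only [Function.comp_apply, neg_le_neg_iff] at h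
  rcases h.lt_or_eq with h | h
  · exact hM _ _ h
  · exact hdg _ _ h fun e => by
      have := (Tuple.sort fun i => -w i).injective e
      omega

variable {G T : Over (Spec (CommRingCat.of k))} [GrpObj G] [GrpObj T] [IsAffine G.left] {r : G ⟶ GLs k n}
  [IsMonHom r] [IsClosedImmersion r.left] {C : Chars (Fin d → ℤ) T} {iT : T ⟶ G} [IsMonHom iT]
  {a : Fin n → Fin d → ℤ}
  (hdiag : ∀ (X : Over (Spec (CommRingCat.of k))) (x : X ⟶ T),
    mat ((x ≫ iT) ≫ r) = Matrix.diagonal fun j => C.ch x (Multiplicative.ofAdd (a j))) {b : Fin d → ℤ}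
  (hmeet : ∀ (X : Over (Spec (CommRingCat.of k))) (x : X ⟶ G), Blk (wt a b) (mat (x ≫ r)) →
    Blk (wt a (-b)) (mat (x ≫ r)) → ∃ τ : X ⟶ T, τ ≫ iT = x)

include hdiag hmeet in
/-- The diagonal blocks of a contracted point are diagonal. -/
theorem apply_eq_zero_of_blk {B : Type u} [CommRing B] [Algebra k B] (x : VecGrp.pt k B ⟶ G)
    (hx : Blk (wt a b) (pmat r x)) {i j : Fin n} (hij : wt a b i = wt a b j) (hne : i ≠ j) :
    pmat r x i j = 0 := by
  obtain ⟨z, hz⟩ := exists_lim hdiag b x hx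
  have hinj := InvRing21.ptHom_injective (k := k) B
  have hblk : ∀ p q, wt a b p ≠ wt a b q → mat (z ≫ r) p q = 0 := fun p q h => hinj (by
    rw [map_zero]
    refine (congrFun (congrFun hz p) q).trans ?_
    rw [blkDiag, Matrix.of_apply, if_neg h])
  obtain ⟨τ, hτ⟩ := hmeet _ z (fun p q h => hblk p q h.ne) fun p q h => hblk p q (by
    simp only [wt, pairing_neg] at h
    simp only [wt]
    omega)
  have h1 := congrFun (congrFun hz i) j
  rw [blkDiag, Matrix.of_apply, if_pos hij] at h1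
  rw [← h1, ← hτ, pmat, Matrix.map_apply, hdiag, Matrix.diagonal_apply_ne _ hne, map_zero]

variable {K : Type u} [Field K] [IsAlgClosed K] [Algebra k K]

include hdiag hmeet in
set_option maxHeartbeats 800000 in
/-- Over an algebraically closed extension: the connected subgroups without subtori are unitriangular, and conversely. -/
theorem exists_permRep_K {rK : bcK K G ⟶ GLs K n} [IsMonHom rK] [IsClosedImmersion rK.left]
    (hrK : ∀ (X : Over (Spec (CommRingCat.of K))) (x : X ⟶ bcK K G), mat (x ≫ rK) = mat (fl _ G x ≫ r)) :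
    ∃ (r' : bcK K G ⟶ GLs K n) (_ : IsMonHom r') (_ : IsClosedImmersion r'.left),
      ∀ z : VecGrp.pt k K ⟶ G, Blk (wt a b) (pmat r z) →
        mtx r' (toK z) ∈ upper ∧ (mtx r' (toK z) ∈ lay 1 ↔ Unp (wt a b) (pmat r z)) := by
  obtain ⟨r', hm, hc, hr'⟩ := exists_permRep rK (Tuple.sort fun i => -wt a b i)
  haveI := hm
  refine ⟨r', hm, hc, fun z hz => ?_⟩
  have hM : (mtx r' (toK z) : Matrix (Fin n) (Fin n) K) =
      (pmat r z).submatrix (Tuple.sort fun i => -wt a b i) (Tuple.sort fun i => -wt a b i) := by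
    rw [mtx_apply, ← mtxFn_toK' hrK z, coe_mtxFn, coe_mtxFn, mtxMat, mtxMat, hr', Matrix.submatrix_map]
  have hdg := fun i j hij hne => apply_eq_zero_of_blk hdiag hmeet (b := b) z hz (i := i) (j := j) hij hne
  have hup : mtx r' (toK z) ∈ upper := by
    show Shift 0 (mtx r' (toK z) : Matrix (Fin n) (Fin n) K)
    rw [hM]
    exact shift_zero_sort hz hdg
  refine ⟨hup, mem_lay_one_iff.trans ⟨fun h => ⟨hz, Matrix.ext fun i j => ?_⟩, fun h => ⟨hup, fun p => ?_⟩⟩⟩
  · rw [blkDiag, Matrix.of_apply]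
    split_ifs with hij
    · by_cases hne : i = j
      · subst hne
        have h1 := h.2 ((Tuple.sort fun i => -wt a b i).symm i)
        rw [hM, Matrix.submatrix_apply, Equiv.apply_symm_apply] at h1
        rw [h1, Matrix.one_apply_eq]
      · rw [hdg i j hij hne, Matrix.one_apply_ne hne]
    · rw [Matrix.one_apply_ne fun e => hij (congrArg _ e)]
  · rw [hM, Matrix.submatrix_apply]
    have h1 := congrFun (congrFun h.2 (Tuple.sort (fun i => -wt a b i) p)) (Tuple.sort (fun i => -wt a b i) p)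
    rwa [blkDiag, Matrix.of_apply, if_pos rfl, Matrix.one_apply_eq] at h1
where
  mtxFn_toK' {r : G ⟶ GLs k n} {rK : bcK K G ⟶ GLs K n}
      (hrK : ∀ (X : Over (Spec (CommRingCat.of K))) (x : X ⟶ bcK K G), mat (x ≫ rK) = mat (fl _ G x ≫ r))
      (x : VecGrp.pt k K ⟶ G) : (mtxFn rK (toK x) : Matrix (Fin n) (Fin n) K) = pmat r x := by
    rw [coe_mtxFn, mtxMat, pmat, hrK, fl_toK, Category.assoc, mat_comp, Matrix.map_map]
    ext i j
    simp only [Matrix.map_apply, Function.comp_apply]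
    simp [ptIso]
    rfl

variable (D : Red.SplitRed G)

set_option maxHeartbeats 1600000 in
/-- **The points of the unipotent radical of a Borel subgroup containing the split torus.** -/
theorem fac_iff_unp {B : Over (Spec (CommRingCat.of k))} [GrpObj B] {iB : B ⟶ G} (hB : Red.IsBorel iB)
    {U : Over (Spec (CommRingCat.of k))} [GrpObj U] {uB : U ⟶ B} (hU : Par.IsUnipotentRadical uB)
    [IsMonHom D.i] {r : G ⟶ GLs k n} [IsMonHom r] [IsClosedImmersion r.left]
    {a : Fin n → Fin (Module.finrank ℤ D.M) → ℤ} {b : Fin (Module.finrank ℤ D.M) → ℤ}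
    (hdiag : ∀ (X : Over (Spec (CommRingCat.of k))) (x : X ⟶ D.T),
      mat ((x ≫ D.i) ≫ r) = Matrix.diagonal fun j => (splitChars D).ch x (Multiplicative.ofAdd (a j)))
    (hfac : ∀ (X : Over (Spec (CommRingCat.of k))) (x : X ⟶ G), (∃ y, y ≫ iB = x) ↔ Blk (wt a b) (mat (x ≫ r)))
    (hmeet : ∀ (X : Over (Spec (CommRingCat.of k))) (x : X ⟶ G), Blk (wt a b) (mat (x ≫ r)) →
      Blk (wt a (-b)) (mat (x ≫ r)) → ∃ τ : X ⟶ D.T, τ ≫ D.i = x)
    (V : UnipData r a b (rootGroups D)) (X : Over (Spec (CommRingCat.of k))) (x : X ⟶ G) :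
    (∃ y, y ≫ uB ≫ iB = x) ↔ Unp (wt a b) (mat (x ≫ r)) := by
  obtain ⟨hBm, hBc, hBs, hBf⟩ := id hB
  haveI := hBm
  haveI := hBc
  haveI := hBs
  obtain ⟨hum, huc, hun, hus, huq, huf, humax⟩ := id hU
  haveI := hum
  haveI := huc
  haveI := hus
  letI := V.grpU
  haveI := V.isMonHom
  haveI := V.closed
  haveI := V.smooth
  haveI : IsAffine B.left := isAffine_of_isAffineHom iB.left
  haveI : IsAffine U.left := isAffine_of_isAffineHom uB.left
  haveI : IsAffine V.U.left := isAffine_of_isAffineHom V.iU.left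
  haveI : Mono iB := Over.mono_of_mono_left _
  have hVu : Unp (wt a b) (mat (V.iU ≫ r)) := (V.fac _ _).1 ⟨𝟙 _, Category.id_comp _⟩
  obtain ⟨jV, hjV⟩ := (hfac _ _).2 hVu.1
  haveI : IsMonHom jV := BorelFix21.isMonHom_of_comp iB jV (hjV.symm ▸ V.isMonHom)
  haveI : IsClosedImmersion jV.left := by
    haveI : IsClosedImmersion (jV.left ≫ iB.left) := by rw [← Over.comp_left, hjV]; infer_instance
    exact IsClosedImmersion.of_comp jV.left iB.left
  let s : ↥(Spec (CommRingCat.of k)) := IsLocalRing.closedPoint k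
  obtain ⟨φ, hφ⟩ := Spec.map_surjective (Red.geomPt s)
  letI : Algebra k (AlgebraicClosure ((Spec (CommRingCat.of k)).residueField s)) := φ.hom.toAlgebra
  have hq : ext' (k := k) (AlgebraicClosure ((Spec (CommRingCat.of k)).residueField s)) = Red.geomPt s := hφ
  let K := AlgebraicClosure ((Spec (CommRingCat.of k)).residueField s)
  obtain ⟨rK, hrm, hrc, hrK⟩ := exists_bcRep K r
  haveI := hrm
  haveI := hrc
  obtain ⟨r', hr'm, hr'c, hr'⟩ := exists_permRep_K (K := K) hdiag hmeet hrK
  haveI := hr'm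
  haveI := hr'c
  haveI : IsAffine (bcK K G).left := BorelFix21.isAffine_bc _ G
  -- the given radical is unitriangular
  have hU' : Unp (wt a b) (mat ((uB ≫ iB) ≫ r)) := by
    haveI : IsClosedImmersion (uB ≫ iB).left := by rw [Over.comp_left]; infer_instance
    haveI : IsAffine (bcK K U).left := BorelFix21.isAffine_bc _ U
    haveI : Smooth (bcK K U).hom := BorelFix21.smooth_bc _ U
    have hconn : ∀ q, q = Red.geomPt s → ConnectedSpace (Red.bc q U).left ∧ Red.HasNoSubtorus K (Red.bc q U) :=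
      fun q h => by subst h; exact huf s
    obtain ⟨h1, h2⟩ := hconn _ hq
    haveI := h1
    haveI : IsClosedImmersion (bcMap K (uB ≫ iB)).left := BorelFix21.isClosedImmersion_bc _ _
    haveI : IsClosedImmersion (bcMap K (uB ≫ iB) ≫ r').left := by rw [Over.comp_left]; infer_instance
    have hblk : ∀ z : VecGrp.pt k K ⟶ U, Blk (wt a b) (pmat r (z ≫ uB ≫ iB)) := fun z p q h => by
      rw [pmat, Matrix.map_apply, (hfac _ _).1 ⟨z ≫ uB, Category.assoc _ _ _⟩ p q h, map_zero]
    have hup : (mtx (bcMap K (uB ≫ iB) ≫ r')).range ≤ upper := by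
      rintro _ ⟨z, rfl⟩
      obtain ⟨z', rfl⟩ := exists_toK z
      rw [mtx_comp, ← toK_comp]
      exact (hr' _ (hblk z')).1
    have hlay := range_le_lay_of_hasNoSubtorus _ hup h2
    obtain ⟨f', hf'⟩ := exists_lift_of_Kpts (K := K) V.iU (uB ≫ iB) fun z => by
      refine (V.fac _ _).2 ?_
      have h3 := (hr' _ (hblk z)).2.1 (by
        rw [← Category.assoc z, Category.assoc z uB, toK_comp, ← mtx_comp]
        exact hlay ⟨_, rfl⟩)
      refine ⟨fun p q h => InvRing21.ptHom_injective K ?_, Matrix.ext fun p q => InvRing21.ptHom_injective K ?_⟩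
      · rw [map_zero]
        exact h3.1 p q h
      · have h4 := congrFun (congrFun h3.2 p) q
        rw [pmat, blkDiag_map] at h4
        refine h4.trans ?_
        by_cases e : p = q
        · subst e; simp
        · simp [Matrix.one_apply_ne e]
    exact (V.fac _ _).1 ⟨f', hf'⟩
  -- the unitriangular subgroup is contained in the given radical
  have hnorm : AlgGrp.IsNormalHom jV := fun T' g h => by
    have h1 : Unp (wt a b) (mat (((g * (h ≫ jV) * g⁻¹) ≫ iB) ≫ r)) := by
      have hM : Blk (wt a b) (mat ((g ≫ iB) ≫ r)) := (hfac _ _).1 ⟨g, rfl⟩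
      have hN : Unp (wt a b) (mat (((h ≫ jV) ≫ iB) ≫ r)) :=
        (V.fac _ _).1 ⟨h, by rw [Category.assoc, hjV]⟩
      rw [MonObj.mul_comp, MonObj.mul_comp, MonObj.mul_comp, MonObj.mul_comp, mat_mul, mat_mul]
      have hinv : mat ((g ≫ iB) ≫ r) * mat ((g⁻¹ ≫ iB) ≫ r) = 1 := by
        rw [← mat_mul, ← MonObj.mul_comp, ← MonObj.mul_comp, mul_inv_cancel, MonObj.one_comp, MonObj.one_comp,
          mat_one]
      obtain ⟨hb', hd'⟩ := blk_left_inv hM (mul_eq_one_comm.1 hinv)
      have hMN : Blk (wt a b) (mat ((g ≫ iB) ≫ r) * mat (((h ≫ jV) ≫ iB) ≫ r)) :=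
        (blk_iff _ _).2 (((blk_iff _ _).1 hM).mul ((blk_iff _ _).1 hN.1))
      refine ⟨(blk_iff _ _).2 (((blk_iff _ _).1 hMN).mul ((blk_iff _ _).1 hb')), ?_⟩
      rw [blkDiag_mul hMN hb', blkDiag_mul hM hN.1, hN.2, _root_.mul_one, mul_eq_one_comm.1 hd']
    obtain ⟨y, hy⟩ := (V.fac _ _).2 h1
    exact ⟨y, (cancel_mono iB).1 (by rw [Category.assoc, hjV, hy])⟩
  haveI : ConnectedSpace V.U.left := by
    let A : CommRingCat.{u} := CommRingCat.of Γ(V.U.left, ⊤)
    haveI : IsDomain A := (MulEquiv.isDomain_iff (RingEquiv.ofBijective _ V.bij).symm.toMulEquiv).2 inferInstance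
    haveI : IrreducibleSpace ↥(Spec A) := PrimeSpectrum.irreducibleSpace
    exact ((Scheme.homeoOfIso V.U.left.isoSpec).connectedSpace_iff).2 inferInstance
  haveI : QuasiCompact V.U.hom := inferInstance
  have hjU : ∃ f : V.U ⟶ U, f ≫ uB = jV := by
    refine humax V.U jV inferInstance hnorm inferInstance inferInstance fun s' => ?_
    obtain rfl : s = s' := Subsingleton.elim _ _
    have key : ∀ q, q = Red.geomPt s → ConnectedSpace (Red.bc q V.U).left ∧ Red.HasNoSubtorus K (Red.bc q V.U) →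
      ConnectedSpace (Red.geomFibre s V.U).left ∧ Red.HasNoSubtorus K (Red.geomFibre s V.U) :=
      fun q h h' => by subst h; exact h'
    refine key _ hq ⟨BorelFix21.connectedSpace_bc _ V.U, ?_⟩
    haveI : IsAffine (bcK K V.U).left := BorelFix21.isAffine_bc _ _
    haveI : Smooth (bcK K V.U).hom := BorelFix21.smooth_bc _ _
    haveI : IsClosedImmersion (bcMap K V.iU).left := BorelFix21.isClosedImmersion_bc _ _
    haveI : IsClosedImmersion (bcMap K V.iU ≫ r').left := by rw [Over.comp_left]; infer_instance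
    refine hasNoSubtorus_of_range_le_lay (bcMap K V.iU ≫ r') ?_
    rintro _ ⟨z, rfl⟩
    obtain ⟨z', rfl⟩ := exists_toK z
    rw [mtx_comp, ← toK_comp]
    have h5 : Unp (wt a b) (pmat r (z' ≫ V.iU)) := ((V.fac _ _).1 ⟨z', rfl⟩).map _
    exact (hr' _ h5.1).2.2 h5
  obtain ⟨f, hf⟩ := hjU
  constructor
  · rintro ⟨y, rfl⟩
    rw [Category.assoc, mat_comp]
    exact hU'.map _
  · intro hx
    obtain ⟨y, hy⟩ := (V.fac _ _).2 hx
    exact ⟨y ≫ f, by rw [Category.assoc, ← Category.assoc f, hf, hjV, hy]⟩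

end Groth.Agent.AttrBorel21
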