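import Groth.Agent.Lib.AttrBorel21.Root
import Groth.Agent.Lib.AttrBorel21.Coords

/-!
# The root groups occur among the weights
-/

set_option autoImplicit false
set_option linter.style.haveILetI false
set_option backward.isDefEq.respectTransparency.types false
universe u

open CategoryTheory Limits MonoidalCategory CartesianMonoidalCategory MonObj AlgebraicGeometry
open scoped LaurentPolynomial Polynomial

noncomputable section

namespace Groth.Agent.AttrBorel21

open InvRing21 DiagGL TorPts21 BigCell21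

attribute [local instance] InvRing21.gamAlg

variable {k : Type u} [Field k] {n d : ℕ}

theorem coeff_coeff_aeval_single (m e : ℤ) (q : k[X]) (l : ℕ) :
    ((Polynomial.aeval (AddMonoidAlgebra.single m (Polynomial.X : k[X]) : k[X][T;T⁻¹]) q).coeff e).coeff l =
      if (l : ℤ) * m = e then q.coeff l else 0 := by
  classical
  induction q using Polynomial.induction_on' with
  | add p q hp hq =>
    rw [map_add, AddMonoidAlgebra.coeff_add, Finsupp.add_apply, Polynomial.coeff_add, hp, hq, Polynomial.coeff_add]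
    split_ifs <;> simp
  | monomial p c =>
    rw [Polynomial.aeval_monomial, AddMonoidAlgebra.single_pow,
      IsScalarTower.algebraMap_apply k k[X] k[X][T;T⁻¹]]
    show ((AddMonoidAlgebra.single (0 : ℤ) (algebraMap k k[X] c) *
      AddMonoidAlgebra.single (p • m) (Polynomial.X ^ p) : k[X][T;T⁻¹]).coeff e).coeff l = _
    rw [AddMonoidAlgebra.single_mul_single, zero_add, AddMonoidAlgebra.coeff_single, nsmul_eq_mul,
      Polynomial.algebraMap_eq, Polynomial.C_mul_X_pow_eq_monomial]
    rcases eq_or_ne e ((p : ℤ) * m) with rfl | h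
    · rw [Finsupp.single_eq_same, Polynomial.coeff_monomial]
      split_ifs with h1 h2 h2 <;> first | rfl | (subst h1; exact absurd rfl h2)
    · rw [Finsupp.single_eq_of_ne h, Polynomial.coeff_zero, Polynomial.coeff_monomial]
      split_ifs with h1 h2 <;> first | rfl | (subst h2; exact absurd h1.symm h)

/-- The universal point of the additive group. -/
def gaX : VecGrp.pt k k[X] ⟶ Red.Ga (Spec (CommRingCat.of k)) :=
  GaPts.ptOfFn ((Scheme.ΓSpecIso (CommRingCat.of k[X])).inv (Polynomial.X : k[X]))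

theorem ptHom_gaFn_gaX {B : Type u} [CommRing B] [Algebra k B] (θ : k[X] →ₐ[k] B) :
    ptHom B (Red.gaFn (VecGrp.ptMap θ ≫ gaX)) = θ Polynomial.X := by
  rw [GaPts.gaFn_comp, gaX, GaPts.gaFn_ptOfFn, VecGrp.ptMap_left]
  show ((Scheme.ΓSpecIso (CommRingCat.of k[X])).inv ≫ (Spec.map (CommRingCat.ofHom θ.toRingHom)).appTop ≫
    (Scheme.ΓSpecIso (CommRingCat.of B)).hom) _ = _
  rw [Scheme.ΓSpecIso_naturality, Iso.inv_hom_id_assoc]
  rfl

theorem exists_gaX_section :
    ∃ z : Red.Ga (Spec (CommRingCat.of k)) ⟶ VecGrp.pt k k[X], z ≫ gaX = 𝟙 _ := by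
  letI := (alg (Red.Ga (Spec (CommRingCat.of k)))).toAlgebra
  let θ : k[X] →ₐ[k] Γ((Red.Ga (Spec (CommRingCat.of k))).left, ⊤) :=
    Polynomial.aeval (Red.gaFn (𝟙 (Red.Ga (Spec (CommRingCat.of k)))))
  refine ⟨DiagGL.mk (A := k[X]) θ.toRingHom fun c => θ.commutes c, GaPts.gaFn_injective ?_⟩
  show Red.gaFn (_ ≫ gaX) = _
  rw [GaPts.gaFn_comp, gaX, GaPts.gaFn_ptOfFn]
  show ev (DiagGL.mk (A := k[X]) θ.toRingHom fun c => θ.commutes c) (Polynomial.X : k[X]) = _
  rw [ev_mk]
  exact Polynomial.aeval_X _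

variable {G T : Over (Spec (CommRingCat.of k))} [GrpObj G] [GrpObj T] {r : G ⟶ GLs k n} [IsMonHom r]
  {C : Chars (Fin d → ℤ) T} {iT : T ⟶ G} [IsMonHom iT] {a : Fin n → Fin d → ℤ}
  (hdiag : ∀ (X : Over (Spec (CommRingCat.of k))) (x : X ⟶ T),
    mat ((x ≫ iT) ≫ r) = Matrix.diagonal fun j => C.ch x (Multiplicative.ofAdd (a j)))
  {u : Red.Ga (Spec (CommRingCat.of k)) ⟶ G} (α : Fin d → ℤ)
  (hu : ∀ (X : Over (Spec (CommRingCat.of k))) (t : X ⟶ T) (x : X ⟶ Red.Ga (Spec (CommRingCat.of k))),
    ∃ y, y ≫ u = (t ≫ iT) * (x ≫ u) * (t ≫ iT)⁻¹ ∧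
      Red.gaFn y = C.ch t (Multiplicative.ofAdd α) * Red.gaFn x)

include hdiag hu in
/-- The entries of a root group are monomials of the right weight. -/
theorem smul_eq_of_coeff_ne_zero (i j : Fin n) (l : ℕ) (hl : (pmat r (gaX ≫ u) i j).coeff l ≠ 0) :
    (l : ℤ) • α = a i - a j := by
  funext c
  let b : Fin d → ℤ := Pi.single c 1
  have hb : ∀ g : Fin d → ℤ, pairing g b = g c := fun g => by
    simp [pairing, b, Pi.single_apply]
  let P : Type u := k[X]
  obtain ⟨τ, hτ⟩ := exists_lam C b P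
  let incl : P →ₐ[k] P[T;T⁻¹] := IsScalarTower.toAlgHom k P P[T;T⁻¹]
  let ψ : P →ₐ[k] P[T;T⁻¹] := Polynomial.aeval (AddMonoidAlgebra.single (pairing α b) (Polynomial.X : k[X]))
  have hincl : ∀ F : P, incl F = AddMonoidAlgebra.single 0 F := fun F => by simp [incl]
  obtain ⟨y, hy, hy'⟩ := hu _ τ (VecGrp.ptMap incl ≫ gaX)
  have hyψ : y = VecGrp.ptMap ψ ≫ gaX := GaPts.gaFn_injective
    ((Scheme.ΓSpecIso (CommRingCat.of P[T;T⁻¹])).commRingCatIsoToRingEquiv.injective (by
      show InvRing21.ptHom P[T;T⁻¹] (Red.gaFn y) = InvRing21.ptHom P[T;T⁻¹] (Red.gaFn (VecGrp.ptMap ψ ≫ gaX))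
      rw [hy', map_mul, (hτ α).1, ptHom_gaFn_gaX, ptHom_gaFn_gaX, hincl, AddMonoidAlgebra.single_mul_single,
        add_zero, _root_.one_mul]
      exact (Polynomial.aeval_X _).symm))
  have hpm : ∀ {B : Type u} [CommRing B] [Algebra k B] (θ : P →ₐ[k] B),
      pmat r ((VecGrp.ptMap θ ≫ gaX) ≫ u) i j = θ (pmat r (gaX ≫ u) i j) := fun θ => by
    rw [pmat_apply, pmat_apply, Category.assoc, val_ptMap]
    rfl
  have h1 : pmat r (y ≫ u) i j = AddMonoidAlgebra.single (wt a b i - wt a b j) (pmat r (gaX ≫ u) i j) := by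
    rw [hy, pmat_mul, pmat_mul]
    have hpos : pmat r (τ ≫ iT) = Matrix.diagonal fun j => AddMonoidAlgebra.single (wt a b j) 1 := by
      rw [pmat, hdiag, Matrix.diagonal_map (map_zero _)]
      congr 1
      funext l
      exact (hτ (a l)).1
    have hneg : pmat r (τ ≫ iT)⁻¹ = Matrix.diagonal fun j => AddMonoidAlgebra.single (-wt a b j) 1 := by
      rw [pmat, show (τ ≫ iT)⁻¹ = τ⁻¹ ≫ iT from (GrpObj.inv_comp _ _).symm, hdiag, Matrix.diagonal_map (map_zero _)]
      congr 1
      funext l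
      exact (hτ (a l)).2
    rw [hpos, hneg, Matrix.mul_diagonal, Matrix.diagonal_mul, hpm, hincl, AddMonoidAlgebra.single_mul_single,
      AddMonoidAlgebra.single_mul_single, _root_.one_mul, _root_.mul_one, add_zero, ← sub_eq_add_neg]
  rw [hyψ, hpm] at h1
  have h2 := congrArg (fun F : P[T;T⁻¹] => (F.coeff (wt a b i - wt a b j)).coeff l) h1
  rw [AddMonoidAlgebra.coeff_single, Finsupp.single_eq_same] at h2
  change ((Polynomial.aeval (AddMonoidAlgebra.single (pairing α b) (Polynomial.X : k[X]) : k[X][T;T⁻¹])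
    (pmat r (gaX ≫ u) i j)).coeff _).coeff l = _ at h2
  rw [coeff_coeff_aeval_single] at h2
  split_ifs at h2 with he
  · simpa [hb, wt] using he
  · exact absurd h2.symm hl

variable [IsAffine G.left] {H : Over (Spec (CommRingCat.of k))}

include hdiag hu in
omit [IsAffine G.left] in
/-- The weight of a root group is one of the weights of the coordinates. -/
theorem exists_coord_of_root [IsAffine H.left] [IsSeparated H.hom] [IsClosedImmersion u.left] (j : H ⟶ G)
    (v : Red.Ga (Spec (CommRingCat.of k)) ⟶ H) (hv : v ≫ j = u) {κ : Type} (p : κ → Fin n × Fin n)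
    (hp : ∀ t, a (p t).1 ≠ a (p t).2)
    (hsurj : Function.Surjective (MvPolynomial.aeval fun t => ent r j (p t) : MvPolynomial κ k →ₐ[k] Γ(H.left, ⊤))) :
    ∃ t, a (p t).1 - a (p t).2 = α ∧ (pmat r (gaX ≫ u) (p t).1 (p t).2).coeff 1 ≠ 0 := by
  haveI : IsClosedImmersion (v.left ≫ j.left) := by rw [← Over.comp_left, hv]; infer_instance
  haveI : IsSeparated (terminal.from H.left) := inferInstance
  haveI : IsClosedImmersion v.left := by
    haveI : IsSeparated j.left := inferInstance
    exact IsClosedImmersion.of_comp v.left j.left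
  let V : Γ(H.left, ⊤) →ₐ[k] k[X] := val (gaX ≫ v)
  have hV : Function.Surjective V := by
    have hv' : Function.Surjective (appAlg v) :=
      (IsClosedImmersion.isAffine_surjective_of_isAffine v.left).2
    have hx : Function.Surjective (val (gaX (k := k))) := fun q => by
      refine ⟨Polynomial.aeval (Red.gaFn (𝟙 (Red.Ga (Spec (CommRingCat.of k))))) q, ?_⟩
      rw [← Polynomial.aeval_algHom_apply,
        show val (gaX (k := k)) (Red.gaFn (𝟙 (Red.Ga (Spec (CommRingCat.of k))))) = Polynomial.X by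
          show ptHom k[X] (gaX.left.appTop _) = _
          rw [← GaPts.gaFn_comp, Category.comp_id]
          have := ptHom_gaFn_gaX (k := k) (AlgHom.id k k[X])
          rwa [show VecGrp.ptMap (R := k) (AlgHom.id k k[X]) = 𝟙 _ from
            Over.OverMorphism.ext (Spec.map_id _), Category.id_comp] at this,
        Polynomial.aeval_X_left_apply]
    intro q
    obtain ⟨F, rfl⟩ := hx q
    obtain ⟨F', rfl⟩ := hv' F
    exact ⟨F', (appTop_val _ _ _).symm⟩
  have hent : ∀ t, V (ent r j (p t)) = pmat r (gaX ≫ u) (p t).1 (p t).2 := fun t => by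
    show val (gaX ≫ v) _ = _
    rw [val_ent, Category.assoc, hv]
  obtain ⟨F, hF⟩ := hV Polynomial.X
  obtain ⟨Q, rfl⟩ := hsurj F
  by_contra hne
  simp only [not_exists, not_and, ne_eq, not_not] at hne
  have hq : ∀ t, (Polynomial.X : k[X]) ^ 2 ∣ V (ent r j (p t)) := fun t => by
    rw [hent, Polynomial.X_pow_dvd_iff]
    intro l hl
    by_contra h0
    have h1 := smul_eq_of_coeff_ne_zero hdiag α hu _ _ l h0
    interval_cases l
    · exact hp t (sub_eq_zero.1 (by rw [← h1, Nat.cast_zero, zero_smul]))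
    · exact h0 (hne t (by rw [← h1, Nat.cast_one, one_smul]))
  have hall : ∀ Q : MvPolynomial κ k,
      (Polynomial.X : k[X]) ^ 2 ∣ V (MvPolynomial.aeval (fun t => ent r j (p t)) Q) -
        Polynomial.C (MvPolynomial.constantCoeff Q) := fun Q => by
    induction Q using MvPolynomial.induction_on with
    | C c => simp [Polynomial.algebraMap_eq]
    | add p q hp hq => simpa [map_add, add_sub_add_comm] using dvd_add hp hq
    | mul_X P t _ =>
      simp only [map_mul, MvPolynomial.aeval_X, MvPolynomial.constantCoeff_X, MulZeroClass.mul_zero, map_zero, sub_zero]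
      exact Dvd.dvd.mul_left (hq t) _
  have h := hall Q
  rw [hF, Polynomial.X_pow_dvd_iff] at h
  simpa using h 1 one_lt_two

end Groth.Agent.AttrBorel21
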